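import Groth.Agent.VB30.Etale
import Groth.Agent.PerfFib24.Euler
import Groth.Agent.Curves2.Ample.ClosedPush
import Groth.Agent.Sga84.TorsorDesc
import Groth.Agent.Unr55.DescProps
import Groth.Prelude.Def_Red
import Groth.Prelude.Def_NonAbH2

/-! The tensor square of the direct image of a finite torsor. -/

set_option autoImplicit false
set_option linter.style.haveILetI false
set_option linter.unusedSectionVars false
set_option backward.isDefEq.respectTransparency.types false
set_option maxSynthPendingDepth 6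

noncomputable section

universe u

open CategoryTheory CategoryTheory.Limits AlgebraicGeometry TopologicalSpace Opposite MonoidalCategory CartesianMonoidalCategory
open Groth.Agent.QC70 Groth.Agent.Props58.LocFree

namespace Groth.Agent.VB30

variable (k : Type u) [Field k]

theorem nonempty_push_point_free (G : Scheme.{u}) [G.Over (Spec (CommRingCat.of k))]
    [IsFinite (G ↘ Spec (CommRingCat.of k))] {n : ℕ}
    (hn : Module.finrank k (Coh.HH G (Coh.structureModule G) 0) = n) :
    Nonempty ((Coh.push (G ↘ Spec (CommRingCat.of k))).obj (Coh.structureModule G) ≅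
      FlatMod.freeMod (Spec (CommRingCat.of k)) n) := by
  let g := G ↘ Spec (CommRingCat.of k)
  let T : Scheme.{u} := Spec (CommRingCat.of k)
  haveI : Subsingleton T := inferInstanceAs (Subsingleton (PrimeSpectrum k))
  haveI : Flat g := inferInstance
  haveI : LocallyOfFinitePresentation g := inferInstance
  have p : T := (inferInstance : Nonempty (PrimeSpectrum k)).some
  obtain ⟨U, m, hpU, ⟨e⟩⟩ := EGA73.isFinLocFree_push g p
  obtain rfl : U = ⊤ := PerfFib24.eq_top_of_mem T hpU
  let t := T.topIso.inv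
  have ht : t ≫ (⊤ : T.Opens).ι = 𝟙 T := T.topIso.inv_hom_id
  let M₀ := (Coh.push g).obj (Coh.structureModule G)
  let i : M₀ ≅ FlatMod.freeMod T m := (Scheme.Modules.restrictFunctorId.app M₀).symm ≪≫
    (Scheme.Modules.restrictFunctorCongr ht.symm).app M₀ ≪≫
    (Scheme.Modules.restrictFunctorComp t (⊤ : T.Opens).ι).app M₀ ≪≫
    (Scheme.Modules.restrictFunctor t).mapIso e ≪≫ LF71.restrictFree t m
  suffices m = n by subst this; exact ⟨i⟩
  let r : k ≃+* Coh.Γtop T := (Scheme.ΓSpecIso (CommRingCat.of k)).commRingCatIsoToRingEquiv.symm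
  obtain ⟨h1, h2⟩ := PerfFib24.finrank_freeMod_top T (MulEquiv.isField (Field.toIsField k) r.symm.toMulEquiv) m
  let j : Coh.HH G (Coh.structureModule G) 0 ≃+ (PerfFib24.secTop T).obj (FlatMod.freeMod T m) :=
    (Crv77.sec (Coh.structureModule G)).trans ((PerfFib24.secTop T).mapIso i).toLinearEquiv.toAddEquiv
  rw [← hn, ← h1]
  refine (congrArg Cardinal.toNat (rank_eq_of_equiv_equiv (R := k) (R' := Coh.Γtop T) r j r.bijective fun c x => ?_)).symm
  show ((PerfFib24.secTop T).mapIso i).toLinearEquiv (Crv77.sec _ (c • x)) =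
    r c • ((PerfFib24.secTop T).mapIso i).toLinearEquiv (Crv77.sec _ x)
  rw [← map_smul, Crv77.sec_smul]
  rfl

variable {k} {X : Scheme.{u}} [X.Over (Spec (CommRingCat.of k))]

/-- The pullback of a module free on a point is free. -/
theorem gen_pullback_free {S T : Scheme.{u}} (f : T ⟶ S) (n : ℕ) :
    Nonempty ((Scheme.Modules.pullback f).obj (FlatMod.freeMod S n) ≅ FlatMod.freeMod T n) := by
  have : PreservesColimitsOfSize.{0, 0} (Scheme.Modules.pullback f) :=
    (Scheme.Modules.pullbackPushforwardAdjunction f).leftAdjoint_preservesColimits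
  obtain ⟨i⟩ := PP93.nonempty_pullback_unit f
  exact ⟨PreservesCoproduct.iso _ (fun _ : Fin n => Coh.structureModule S) ≪≫ Sigma.mapIso fun _ => i⟩

/-- Base change of the direct image of the structure sheaf. -/
theorem nonempty_pullback_push_unit {S S' T T' : Scheme.{u}} {f : S' ⟶ S} {g : T' ⟶ T} {p : T ⟶ S} {q : T' ⟶ S'}
    (H : IsPullback g q p f) [IsAffineHom f] :
    Nonempty ((Scheme.Modules.pullback p).obj ((Coh.push f).obj (Coh.structureModule S')) ≅
      (Coh.push g).obj (Coh.structureModule T')) := by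
  haveI : (Coh.structureModule S').IsQuasicoherent := isQuasicoherent_unit
  have h := FMK72.isIso_bcNat_app H.w H (Coh.structureModule S')
  obtain ⟨i⟩ := PP93.nonempty_pullback_unit q
  exact ⟨@asIso _ _ _ _ ((FMK72.bcNat H.w).app (Coh.structureModule S')) h ≪≫ (Coh.push g).mapIso i⟩

set_option maxHeartbeats 1000000 in
/-- A torsor under a finite group: `f_*O ⊗ f_*O ≅ (f_*O)^n`. -/
theorem nonempty_push_torsor_tensor (G : Scheme.{u}) [G.Over (Spec (CommRingCat.of k))]
    [GrpObj (G.asOver (Spec (CommRingCat.of k)))] [IsFinite (G ↘ Spec (CommRingCat.of k))] {n : ℕ}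
    (hn : Module.finrank k (Coh.HH G (Coh.structureModule G) 0) = n) (P : Over X)
    (a : AlgGrp.Action (Red.bc (X ↘ Spec (CommRingCat.of k)) (G.asOver (Spec (CommRingCat.of k)))) P)
    (hP : NonAbH1.IsTorsorFor Scheme.fppfPrecoverage a) :
    Nonempty (CohB1.tensorMod ((Coh.push P.hom).obj (Coh.structureModule P.left))
        ((Coh.push P.hom).obj (Coh.structureModule P.left)) ≅
      ∐ fun _ : Fin n => (Coh.push P.hom).obj (Coh.structureModule P.left)) := by
  let π := X ↘ Spec (CommRingCat.of k)
  let G₀ : Over (Spec (CommRingCat.of k)) := G.asOver (Spec (CommRingCat.of k))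
  haveI : IsFinite G₀.hom := ‹IsFinite (G ↘ Spec (CommRingCat.of k))›
  let B := Red.bc π G₀
  have hB : IsFinite B.hom := MorphismProperty.pullback_snd (P := @IsFinite) _ _ ‹_›
  obtain ⟨hps, R, hR, hsec⟩ := hP
  have := Unr55.isFinite.{u}
  have h' : NonAbH1.IsTorsorFor Scheme.fpqcPrecoverage a :=
    ⟨hps, R, Scheme.fppfPrecoverage_le_fpqcPrecoverage X hR, hsec⟩
  haveI : IsFinite P.hom := Sga84.hom_of_isTorsorFor @IsFinite hB h'
  -- the two descriptions of `P ×_X P`
  let ψ : B ⊗ P ⟶ P ⊗ P := lift a.act (snd B P)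
  haveI : IsIso ψ := hps
  haveI : IsIso ψ.left := (Over.forget X).map_isIso ψ
  let s : pullback B.hom P.hom ⟶ P.left := pullback.snd B.hom P.hom
  let p₂ : pullback P.hom P.hom ⟶ P.left := pullback.snd P.hom P.hom
  have hψ : ψ.left ≫ p₂ = s := congrArg CommaMorphism.left (lift_snd a.act (snd B P))
  obtain ⟨e₁⟩ := Curves2.Ample.nonempty_push_iso (Z := pullback P.hom P.hom) (Z' := pullback B.hom P.hom) ψ.left p₂ s hψ
  obtain ⟨e₂⟩ := nonempty_pullback_push_unit (IsPullback.of_hasPullback P.hom P.hom).flip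
  have hsq : IsPullback s (pullback.fst B.hom P.hom ≫ pullback.fst G₀.hom π) (P.hom ≫ π) G₀.hom :=
    ((IsPullback.of_hasPullback B.hom P.hom).paste_horiz (IsPullback.of_hasPullback G₀.hom π)).flip
  obtain ⟨e₃⟩ := nonempty_pullback_push_unit hsq
  obtain ⟨e₄⟩ := nonempty_push_point_free k G hn
  obtain ⟨e₅⟩ := gen_pullback_free (P.hom ≫ π) n
  let D := (Coh.push P.hom).obj (Coh.structureModule P.left)
  let eD : (Scheme.Modules.pullback P.hom).obj D ≅ FlatMod.freeMod P.left n :=
    e₂ ≪≫ e₁.symm ≪≫ e₃.symm ≪≫ (Scheme.Modules.pullback (P.hom ≫ π)).mapIso e₄ ≪≫ e₅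
  haveI : (Coh.structureModule P.left).IsQuasicoherent := isQuasicoherent_unit
  haveI : D.IsQuasicoherent := QCqs72.isQuasicoherent_pushforward (M := Coh.structureModule P.left) P.hom
  have hproj := FMK72.isIso_projNat_app P.hom D (Coh.structureModule P.left)
  haveI : HasFiniteBiproducts P.left.Modules := HasFiniteBiproducts.of_hasFiniteProducts
  haveI : HasFiniteBiproducts X.Modules := HasFiniteBiproducts.of_hasFiniteProducts
  haveI := (Scheme.Modules.pullbackPushforwardAdjunction P.hom).right_adjoint_additive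
  exact ⟨@asIso _ _ _ _ ((FMK72.projNat P.hom D).app (Coh.structureModule P.left)) hproj ≪≫
    (Coh.push P.hom).mapIso (EGA73.tensUnitLeft _ ≪≫ eD ≪≫ (biproduct.isoCoproduct _).symm) ≪≫
    (Scheme.Modules.pushforward P.hom).mapBiproduct (fun _ : Fin n => Coh.structureModule P.left) ≪≫
    biproduct.isoCoproduct _⟩

end Groth.Agent.VB30

end
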