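import Groth.Agent.VB30.DualTensor
import Groth.Agent.KSchm95.EndFinite
import Groth.Agent.KSchm95.Basic

/-! Weil finite modules: finitely many summands in all tensor powers. -/

set_option autoImplicit false
set_option linter.style.haveILetI false
set_option linter.unusedSectionVars false
set_option backward.isDefEq.respectTransparency.types false

noncomputable section

universe u

open CategoryTheory CategoryTheory.Limits AlgebraicGeometry TopologicalSpace Opposite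
open Groth.Agent.QC70 Groth.Agent.Props58.LocFree
open Groth.Agent.KSchm95 (Indec)

namespace Groth.Agent.VB30

variable {X : Scheme.{u}}

/-- The sum of `P i` copies of the `i`-th tensor power. -/
abbrev polyMod (P : Polynomial ℕ) (E : X.Modules) : X.Modules :=
  ∐ fun i : Fin (P.natDegree + 1) => ∐ fun _ : Fin (P.coeff ↑i) => CohB1.tensorPow E ↑i

/-- Finite in the sense of Weil. -/
def WF (E : X.Modules) : Prop := ∃ P Q : Polynomial ℕ, P ≠ Q ∧ Nonempty (polyMod P E ≅ polyMod Q E)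

/-- `A` is a finite sum of members of the family. -/
def Gen {m : ℕ} (S : Fin m → X.Modules) (A : X.Modules) : Prop :=
  ∃ (n : ℕ) (σ : Fin n → Fin m), Nonempty (A ≅ ∐ fun a => S (σ a))

/-- Reindexing of a coproduct along an equivalence. -/
theorem nonempty_sigma_reindex {α β : Type} [Finite α] [Finite β] (e : α ≃ β) {f : α → X.Modules} {g : β → X.Modules}
    (h : ∀ a, Nonempty (f a ≅ g (e a))) : Nonempty ((∐ f) ≅ ∐ g) :=
  ⟨Sigma.whiskerEquiv e fun a => (h a).some.symm⟩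

theorem Gen.of_finite {m : ℕ} {S : Fin m → X.Modules} {A : X.Modules} {α : Type} [Finite α] (σ : α → Fin m)
    (e : A ≅ ∐ fun a => S (σ a)) : Gen S A := by
  obtain ⟨n, ⟨w⟩⟩ := Finite.exists_equiv_fin α
  obtain ⟨r⟩ := nonempty_sigma_reindex (f := fun a => S (σ a)) (g := fun b => S (σ (w.symm b))) w
    fun a => ⟨eqToIso (by rw [w.symm_apply_apply])⟩
  exact ⟨n, σ ∘ w.symm, ⟨e ≪≫ r⟩⟩

theorem Gen.iso {m : ℕ} {S : Fin m → X.Modules} {A B : X.Modules} (h : Gen S A) (e : A ≅ B) : Gen S B := by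
  obtain ⟨n, σ, ⟨f⟩⟩ := h
  exact ⟨n, σ, ⟨e.symm ≪≫ f⟩⟩

theorem gen_self {m : ℕ} (S : Fin m → X.Modules) (j : Fin m) : Gen S (S j) :=
  ⟨1, fun _ => j, ⟨(coproductUniqueIso fun _ : Fin 1 => S j).symm⟩⟩

theorem Gen.sigma {m : ℕ} {S : Fin m → X.Modules} {α : Type} [Finite α] (f : α → X.Modules)
    (h : ∀ a, Gen S (f a)) : Gen S (∐ f) := by
  choose n σ e using h
  exact Gen.of_finite (α := Σ a, Fin (n a)) (fun p => σ p.1 p.2)
    (Sigma.mapIso (fun a => (e a).some) ≪≫ sigmaSigmaIso (fun a => Fin (n a)) fun a b => S (σ a b))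

theorem Gen.trans {m l : ℕ} {T : Fin l → X.Modules} {S : Fin m → X.Modules} {A : X.Modules} (h : Gen T A)
    (hT : ∀ j, Gen S (T j)) : Gen S A := by
  obtain ⟨n, σ, ⟨e⟩⟩ := h
  exact (Gen.sigma _ fun a => hT (σ a)).iso e.symm

/-- Tensoring a sum. -/
theorem nonempty_tensor_sigma {α : Type} [Finite α] (f : α → X.Modules) (B : X.Modules) :
    Nonempty (CohB1.tensorMod (∐ f) B ≅ ∐ fun a => CohB1.tensorMod (f a) B) := by
  have : PreservesColimitsOfSize.{u, u} (Crv77.twist B) :=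
    (homModAdjR B : Crv77.twist B ⊣ homFunctor B).leftAdjoint_preservesColimits
  have : PreservesColimitsOfSize.{0, 0} (Crv77.twist B) := preservesColimitsOfSize_shrink _
  exact ⟨PreservesCoproduct.iso (Crv77.twist B) f⟩

theorem Gen.tensor {m : ℕ} {S : Fin m → X.Modules} {A : X.Modules} (h : Gen S A) (B : X.Modules) :
    Gen (fun j => CohB1.tensorMod (S j) B) (CohB1.tensorMod A B) := by
  obtain ⟨n, σ, ⟨e⟩⟩ := h
  obtain ⟨f⟩ := nonempty_tensor_sigma (fun a => S (σ a)) B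
  exact ⟨n, σ, ⟨EGA73.tensIso e (Iso.refl B) ≪≫ f⟩⟩

theorem Gen.tensor' {m : ℕ} {S : Fin m → X.Modules} {B : X.Modules} (h : Gen S B) (A : X.Modules) :
    Gen (fun j => CohB1.tensorMod A (S j)) (CohB1.tensorMod A B) := by
  refine ((h.tensor A).trans (S := fun j => CohB1.tensorMod A (S j)) fun j => ?_).iso (EGA73.tensComm B A)
  exact (gen_self (fun j => CohB1.tensorMod A (S j)) j).iso (EGA73.tensComm A (S j))

/-- The index type of `P(E)`. -/
theorem nonempty_polyMod_iso (P : Polynomial ℕ) (E : X.Modules) :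
    Nonempty (polyMod P E ≅ ∐ fun p : (Σ i : Fin (P.natDegree + 1), Fin (P.coeff ↑i)) => CohB1.tensorPow E ↑p.1) :=
  ⟨sigmaSigmaIso (fun i : Fin (P.natDegree + 1) => Fin (P.coeff ↑i)) fun i _ => CohB1.tensorPow E ↑i⟩

theorem sum_coeff_extend (P : Polynomial ℕ) {N : ℕ} (hN : P.natDegree < N) (v : ℕ → ℕ) :
    ∑ i : Fin (P.natDegree + 1), P.coeff ↑i * v ↑i = ∑ i ∈ Finset.range N, P.coeff i * v i := by
  rw [Fin.sum_univ_eq_sum_range (fun i => P.coeff i * v i)]
  refine Finset.sum_subset (fun i hi => Finset.mem_range.2 (by have := Finset.mem_range.1 hi; omega)) fun i _ hi => ?_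
  rw [Polynomial.coeff_eq_zero_of_natDegree_lt (by simpa using hi), zero_mul]

/-- Two sums with the same multiplicities are isomorphic. -/
theorem nonempty_iso_of_card {m : ℕ} (S : Fin m → X.Modules) {α β : Type} [Finite α] [Finite β] (σ : α → Fin m)
    (τ : β → Fin m) (h : ∀ j, Nat.card {a // σ a = j} = Nat.card {b // τ b = j}) :
    Nonempty ((∐ fun a => S (σ a)) ≅ ∐ fun b => S (τ b)) := by
  have w := fun j => Finite.card_eq.1 (h j)
  let e : α ≃ β := (Equiv.sigmaFiberEquiv σ).symm.trans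
    ((Equiv.sigmaCongrRight fun j => (w j).some).trans (Equiv.sigmaFiberEquiv τ))
  exact nonempty_sigma_reindex e fun a => ⟨eqToIso (congrArg S ((w (σ a)).some ⟨a, rfl⟩).2.symm)⟩

/-- Weil's criterion: finitely many constituents make a module finite. -/
theorem wf_of_gen {m : ℕ} (S : Fin m → X.Modules) {E : X.Modules} (h : ∀ n, Gen S (CohB1.tensorPow E n)) :
    WF E := by
  classical
  choose n σ e using h
  let v : Fin (m + 1) → Fin m → ℤ := fun i j => (Nat.card {a // σ (i : ℕ) a = j} : ℤ)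
  have hdep : ¬ LinearIndependent ℤ v := fun hv => by
    have := hv.fintype_card_le_finrank
    simp at this
  obtain ⟨g, hg, i₀, hi₀⟩ := Fintype.not_linearIndependent_iff.1 hdep
  let mk : (Fin (m + 1) → ℕ) → Polynomial ℕ := fun c => ∑ i : Fin (m + 1), Polynomial.monomial i.val (c i)
  have hmk : ∀ c (i : Fin (m + 1)), (mk c).coeff (i : ℕ) = c i := fun c i => by
    simp only [mk, Polynomial.finsetSum_coeff, Polynomial.coeff_monomial, Fin.val_inj]
    simp
  have hdeg : ∀ c, (mk c).natDegree < m + 1 := fun c => Nat.lt_succ_of_le <|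
    Polynomial.natDegree_sum_le_of_forall_le _ _ fun i _ =>
      (Polynomial.natDegree_monomial_le _).trans (Nat.lt_succ_iff.1 i.isLt)
  refine ⟨mk fun i => (g i).toNat, mk fun i => (-g i).toNat, fun hPQ => hi₀ ?_, ?_⟩
  · have := congrArg (fun P => P.coeff (i₀ : ℕ)) hPQ
    simp only [hmk] at this
    omega
  have key : ∀ c : Fin (m + 1) → ℕ, ∃ (α : Type) (_ : Finite α) (τ : α → Fin m),
      (∀ j, (Nat.card {a // τ a = j} : ℤ) = ∑ i, (c i : ℤ) * v i j) ∧
      Nonempty (polyMod (mk c) E ≅ ∐ fun a => S (τ a)) := by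
    intro c
    obtain ⟨f⟩ := nonempty_polyMod_iso (mk c) E
    refine ⟨Σ p : (Σ i : Fin ((mk c).natDegree + 1), Fin ((mk c).coeff ↑i)), Fin (n p.1), inferInstance,
      fun q => σ q.1.1 q.2, fun j => ?_,
      ⟨f ≪≫ Sigma.mapIso (fun p => (e p.1).some) ≪≫
        sigmaSigmaIso (fun p : (Σ i : Fin ((mk c).natDegree + 1), Fin ((mk c).coeff ↑i)) => Fin (n p.1)) fun p b => S (σ p.1 b)⟩⟩
    let q : {q : Σ p : (Σ i : Fin ((mk c).natDegree + 1), Fin ((mk c).coeff ↑i)), Fin (n p.1) // σ q.1.1 q.2 = j} ≃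
        Σ i : Fin ((mk c).natDegree + 1), Fin ((mk c).coeff ↑i) × {b : Fin (n i) // σ i b = j} :=
      { toFun := fun q => ⟨q.1.1.1, q.1.1.2, q.1.2, q.2⟩
        invFun := fun r => ⟨⟨⟨r.1, r.2.1⟩, r.2.2.1⟩, r.2.2.2⟩
        left_inv := fun _ => rfl
        right_inv := fun _ => rfl }
    rw [Nat.card_congr q, Nat.card_sigma]
    simp only [Nat.card_prod, Nat.card_fin]
    rw [sum_coeff_extend (mk c) (hdeg c) fun i => Nat.card {b : Fin (n i) // σ i b = j},
      ← Fin.sum_univ_eq_sum_range (fun i => (mk c).coeff i * Nat.card {b : Fin (n i) // σ i b = j})]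
    push_cast
    exact Finset.sum_congr rfl fun i _ => by rw [hmk]
  obtain ⟨α, _, τ, hτ, ⟨fP⟩⟩ := key fun i => (g i).toNat
  obtain ⟨β, _, τ', hτ', ⟨fQ⟩⟩ := key fun i => (-g i).toNat
  obtain ⟨r⟩ := nonempty_iso_of_card S τ τ' fun j => by
    have h1 := hτ j
    have h2 := hτ' j
    have h3 := congrFun hg j
    simp only [Finset.sum_apply, Pi.smul_apply, smul_eq_mul, Pi.zero_apply] at h3
    have h4 : ∀ i, ((g i).toNat : ℤ) * v i j - ((-g i).toNat : ℤ) * v i j = g i * v i j := fun i => by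
      rw [← sub_mul, Int.toNat_sub_toNat_neg]
    have : (Nat.card {a // τ a = j} : ℤ) = Nat.card {b // τ' b = j} := by
      rw [h1, h2, ← sub_eq_zero, ← Finset.sum_sub_distrib, Finset.sum_congr rfl fun i _ => h4 i]
      exact h3
    exact_mod_cast this
  exact ⟨fP ≪≫ r ≪≫ fQ.symm⟩

/-- The number of constituents isomorphic to `T`. -/
def mult (T A : X.Modules) : ℕ :=
  sInf {c | ∃ (n : ℕ) (Fs : Fin n → X.Modules), (∀ a, Indec (Fs a)) ∧ Nonempty (A ≅ ∐ Fs) ∧
    c = Nat.card {a // Nonempty (Fs a ≅ T)}}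

section KS

variable (k : Type u) [Field k] [X.Over (Spec (CommRingCat.of k))] [IsProper (X ↘ Spec (CommRingCat.of k))]
include k

theorem exists_decomp (A : X.Modules) (hA : Coh.IsCoh A) :
    ∃ (n : ℕ) (Fs : Fin n → X.Modules), (∀ a, Indec (Fs a)) ∧ Nonempty (A ≅ ∐ Fs) := by
  haveI := KSchm95.isArtinianRing_end (k := k) A hA
  haveI : HasFiniteBiproducts X.Modules := HasFiniteBiproducts.of_hasFiniteProducts
  obtain ⟨n, Fs, hFs, ⟨e⟩⟩ := KSchm95.exists_decomp A
  exact ⟨n, Fs, hFs, ⟨e ≪≫ biproduct.isoCoproduct Fs⟩⟩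

theorem exists_decomp_unique (A : X.Modules) (hA : Coh.IsCoh A) {n m : ℕ} (Fs : Fin n → X.Modules)
    (Gs : Fin m → X.Modules) (hF : ∀ a, Indec (Fs a)) (hG : ∀ b, Indec (Gs b)) (e : A ≅ ∐ Fs) (e' : A ≅ ∐ Gs) :
    ∃ w : Fin n ≃ Fin m, ∀ a, Nonempty (Fs a ≅ Gs (w a)) := by
  haveI := KSchm95.isArtinianRing_end (k := k) A hA
  haveI : HasFiniteBiproducts X.Modules := HasFiniteBiproducts.of_hasFiniteProducts
  exact KSchm95.exists_equiv_of_iso Fs Gs hF hG (e ≪≫ (biproduct.isoCoproduct Fs).symm)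
    (e' ≪≫ (biproduct.isoCoproduct Gs).symm)

theorem mult_eq (T A : X.Modules) (hA : Coh.IsCoh A) {α : Type} [Finite α] (f : α → X.Modules)
    (hf : ∀ a, Indec (f a)) (e : A ≅ ∐ f) : mult T A = Nat.card {a // Nonempty (f a ≅ T)} := by
  obtain ⟨n, ⟨w⟩⟩ := Finite.exists_equiv_fin α
  obtain ⟨r⟩ := nonempty_sigma_reindex (f := f) (g := fun b => f (w.symm b)) w
    fun a => ⟨eqToIso (by rw [w.symm_apply_apply])⟩
  have hmem : Nat.card {a // Nonempty (f a ≅ T)} ∈ {c | ∃ (n : ℕ) (Fs : Fin n → X.Modules), (∀ a, Indec (Fs a)) ∧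
      Nonempty (A ≅ ∐ Fs) ∧ c = Nat.card {a // Nonempty (Fs a ≅ T)}} :=
    ⟨n, fun b => f (w.symm b), fun b => hf _, ⟨e ≪≫ r⟩,
      Nat.card_congr (w.subtypeEquiv fun a => by simp only [w.symm_apply_apply])⟩
  obtain ⟨m, Gs, hGs, ⟨e'⟩, hc⟩ := Nat.sInf_mem ⟨_, hmem⟩
  obtain ⟨v, hv⟩ := exists_decomp_unique k A hA Gs (fun b => f (w.symm b)) hGs (fun b => hf _) e' (e ≪≫ r)
  refine hc.trans (Nat.card_congr ((v.trans w.symm).subtypeEquiv fun a => ?_))
  exact ⟨fun ⟨i⟩ => ⟨(hv a).some.symm ≪≫ i⟩, fun ⟨i⟩ => ⟨(hv a).some ≪≫ i⟩⟩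

theorem mult_sigma (T : X.Modules) {α : Type} [Fintype α] (f : α → X.Modules) (hf : ∀ a, Coh.IsCoh (f a))
    (hA : Coh.IsCoh (∐ f)) : mult T (∐ f) = ∑ a, mult T (f a) := by
  choose n Fs hFs e using fun a => exists_decomp k (f a) (hf a)
  rw [mult_eq k T (∐ f) hA (fun p : (Σ a, Fin (n a)) => Fs p.1 p.2) (fun p => hFs p.1 p.2)
    (Sigma.mapIso (fun a => (e a).some) ≪≫ sigmaSigmaIso (fun a => Fin (n a)) Fs)]
  rw [Finset.sum_congr rfl fun a _ => mult_eq k T (f a) (hf a) (Fs a) (hFs a) (e a).some, ← Nat.card_sigma]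
  exact Nat.card_congr
    { toFun := fun p => ⟨p.1.1, p.1.2, p.2⟩
      invFun := fun q => ⟨⟨q.1, q.2.1⟩, q.2.2⟩
      left_inv := fun _ => rfl
      right_inv := fun _ => rfl }

theorem mult_congr {T A B : X.Modules} (e : A ≅ B) : mult T A = mult T B := by
  refine congrArg sInf (Set.ext fun c => ?_)
  exact exists_congr fun n => exists_congr fun Fs => and_congr_right fun _ => and_congr_left fun _ =>
    ⟨fun ⟨i⟩ => ⟨e.symm ≪≫ i⟩, fun ⟨i⟩ => ⟨e ≪≫ i⟩⟩

/-- A retract of a sum of indecomposables is a sum of some of them. -/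
theorem Gen.of_retract {m : ℕ} {S : Fin m → X.Modules} (hS : ∀ j, Indec (S j)) {A B : X.Modules}
    (hB : Coh.IsCoh B) (i : A ⟶ B) (r : B ⟶ A) (hir : i ≫ r = 𝟙 A) (h : Gen S B) : Gen S A := by
  obtain ⟨N, σ, ⟨e⟩⟩ := h
  haveI := KSchm95.isArtinianRing_end (k := k) B hB
  haveI : HasFiniteBiproducts X.Modules := HasFiniteBiproducts.of_hasFiniteProducts
  haveI := KSchm95.isArtinianRing_end_of_retract i r hir
  let c := KSchm95.splitIso i r hir
  haveI := KSchm95.isArtinianRing_end_of_retract (biprod.inr ≫ c.inv) (c.hom ≫ biprod.snd) (by simp)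
  obtain ⟨a, Fs, hFs, ⟨eA⟩⟩ := KSchm95.exists_decomp A
  obtain ⟨b, Gs, hGs, ⟨eK⟩⟩ := KSchm95.exists_decomp (kernel r)
  have hH : ∀ q, Indec (Sum.elim Fs Gs (finSumFinEquiv.symm q)) := fun q => by
    rcases finSumFinEquiv.symm q with x | y
    · exact hFs x
    · exact hGs y
  obtain ⟨w, hw⟩ := KSchm95.exists_equiv_of_iso _ (fun q => S (σ q)) hH (fun q => hS _)
    (c ≪≫ biprod.mapIso eA eK ≪≫ KSchm95.sumIso Fs Gs) (e ≪≫ (biproduct.isoCoproduct _).symm)
  refine ⟨a, fun x => σ (w (finSumFinEquiv (Sum.inl x))), ⟨eA ≪≫ biproduct.isoCoproduct Fs ≪≫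
    Sigma.mapIso fun x => ?_⟩⟩
  exact eqToIso (by rw [Equiv.symm_apply_apply]; rfl) ≪≫ (hw (finSumFinEquiv (Sum.inl x))).some

/-- Weil's criterion, converse direction. -/
theorem exists_gen_of_wf {E : X.Modules} (hE : ∀ n, Coh.IsCoh (CohB1.tensorPow E n)) (h : WF E) :
    ∃ (m : ℕ) (S : Fin m → X.Modules), (∀ j, Indec (S j)) ∧
      (∀ j, ∃ (i : ℕ) (a : S j ⟶ CohB1.tensorPow E i) (b : CohB1.tensorPow E i ⟶ S j), a ≫ b = 𝟙 _) ∧
      ∀ n, Gen S (CohB1.tensorPow E n) := by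
  classical
  haveI : IsLocallyNoetherian X := LocallyOfFiniteType.isLocallyNoetherian (X ↘ Spec (CommRingCat.of k))
  obtain ⟨P, Q, hPQ, ⟨e⟩⟩ := h
  let N := max P.natDegree Q.natDegree + 1
  have hne : ((Finset.range N).filter fun i => P.coeff i ≠ Q.coeff i).Nonempty := by
    by_contra hc
    refine hPQ (Polynomial.ext fun i => ?_)
    by_cases hi : i < N
    · by_contra hne; exact hc ⟨i, Finset.mem_filter.2 ⟨Finset.mem_range.2 hi, hne⟩⟩
    · rw [Polynomial.coeff_eq_zero_of_natDegree_lt (by omega), Polynomial.coeff_eq_zero_of_natDegree_lt (by omega)]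
  let d := Finset.max' _ hne
  obtain ⟨hdN, hd⟩ := Finset.mem_filter.1 (Finset.max'_mem _ hne)
  choose n Fs hFs eF using fun i => exists_decomp k (CohB1.tensorPow E i) (hE i)
  have hmult : ∀ T : X.Modules, (∀ i < d, mult T (CohB1.tensorPow E i) = 0) → mult T (CohB1.tensorPow E d) = 0 := by
    intro T hT
    have hsum : ∀ R : Polynomial ℕ, R.natDegree < N → mult T (polyMod R E) =
        ∑ i ∈ Finset.range N, R.coeff i * mult T (CohB1.tensorPow E i) := by
      intro R hR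
      obtain ⟨f⟩ := nonempty_polyMod_iso R E
      rw [mult_congr k f, mult_sigma k T _ (fun p => hE _), ← sum_coeff_extend R hR fun i => mult T (CohB1.tensorPow E i),
        Fintype.sum_sigma]
      · exact Finset.sum_congr rfl fun i _ => by simp
      · obtain ⟨b, ⟨w⟩⟩ := Finite.exists_equiv_fin (Σ i : Fin (R.natDegree + 1), Fin (R.coeff ↑i))
        obtain ⟨g⟩ := nonempty_sigma_reindex (f := fun p : (Σ i : Fin (R.natDegree + 1), Fin (R.coeff ↑i)) =>
          CohB1.tensorPow E ↑p.1) (g := fun q => CohB1.tensorPow E ↑(w.symm q).1) w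
          fun p => ⟨eqToIso (by rw [w.symm_apply_apply])⟩
        haveI : HasFiniteBiproducts X.Modules := HasFiniteBiproducts.of_hasFiniteProducts
        exact QC70.isCoh_of_iso ((biproduct.isoCoproduct _) ≪≫ g.symm)
          (QC70.isCoh_biproduct (fun q => CohB1.tensorPow E ↑(w.symm q).1) fun q => hE _)
    have a := (hsum P (by omega)).symm.trans ((mult_congr k e).trans (hsum Q (by omega)))
    have b : ∀ i ∈ Finset.range N, i ≠ d →
        (P.coeff i : ℤ) * mult T (CohB1.tensorPow E i) - Q.coeff i * mult T (CohB1.tensorPow E i) = 0 := by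
      intro i hi hid
      rcases lt_or_gt_of_ne hid with hlt | hgt
      · rw [hT i hlt]; simp
      · rw [show P.coeff i = Q.coeff i from by
          by_contra hne'
          exact absurd (Finset.le_max' _ i (Finset.mem_filter.2 ⟨hi, hne'⟩)) (not_le.2 hgt)]
        simp
    have c : ∑ i ∈ Finset.range N, ((P.coeff i : ℤ) * mult T (CohB1.tensorPow E i) -
        Q.coeff i * mult T (CohB1.tensorPow E i)) = 0 := by
      rw [Finset.sum_sub_distrib, sub_eq_zero]; exact_mod_cast a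
    rw [Finset.sum_eq_single_of_mem d hdN b, ← sub_mul] at c
    rcases mul_eq_zero.1 c with h0 | h0
    · exact absurd (by exact_mod_cast sub_eq_zero.1 h0) hd
    · exact_mod_cast h0
  obtain ⟨m, ⟨w⟩⟩ := Finite.exists_equiv_fin (Σ i : Fin d, Fin (n i))
  let S : Fin m → X.Modules := fun j => Fs (w.symm j).1 (w.symm j).2
  have hS : ∀ j, Indec (S j) := fun j => hFs _ _
  have hret : ∀ (i : ℕ) (a : Fin (n i)), ∃ (u : Fs i a ⟶ CohB1.tensorPow E i) (v : CohB1.tensorPow E i ⟶ Fs i a),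
      u ≫ v = 𝟙 _ := fun i a =>
    ⟨Sigma.ι (Fs i) a ≫ (eF i).some.inv, (eF i).some.hom ≫
      Sigma.desc (fun b => if hb : b = a then eqToHom (congrArg (Fs i) hb) else 0), by simp⟩
  have hle : ∀ i ≤ d, Gen S (CohB1.tensorPow E i) := by
    intro i hi
    suffices ∀ a, ∃ j, Nonempty (Fs i a ≅ S j) by
      choose j hj using this
      exact ⟨n i, j, ⟨(eF i).some ≪≫ Sigma.mapIso fun a => (hj a).some⟩⟩
    intro a
    rcases lt_or_eq_of_le hi with hlt | rfl
    · exact ⟨w ⟨⟨i, hlt⟩, a⟩, ⟨eqToIso (congrArg (fun p : (Σ i : Fin d, Fin (n i)) => Fs p.1 p.2) (w.symm_apply_apply ⟨⟨i, hlt⟩, a⟩).symm)⟩⟩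
    · by_contra hno
      have hz := hmult (Fs d a) fun l hl => by
        rw [mult_eq k _ _ (hE l) (Fs l) (hFs l) (eF l).some]
        refine Finite.card_eq_zero_iff.2 ⟨fun ⟨b, ⟨g⟩⟩ => hno ⟨w ⟨⟨l, hl⟩, b⟩, ⟨g.symm ≪≫
          eqToIso (congrArg (fun p : (Σ i : Fin d, Fin (n i)) => Fs p.1 p.2) (w.symm_apply_apply ⟨⟨l, hl⟩, b⟩).symm)⟩⟩⟩
      rw [mult_eq k _ _ (hE d) (Fs d) (hFs d) (eF d).some] at hz
      exact (Finite.card_eq_zero_iff.1 hz).false ⟨a, ⟨Iso.refl _⟩⟩
  refine ⟨m, S, hS, fun j => ⟨_, hret _ _⟩, fun l => ?_⟩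
  induction l with
  | zero => exact hle 0 (Nat.zero_le _)
  | succ l ih =>
    refine (ih.tensor E).trans fun j => ?_
    obtain ⟨u, v, huv⟩ := hret _ (w.symm j).2
    refine Gen.of_retract k hS (A := (Crv77.twist E).obj (S j))
      (B := (Crv77.twist E).obj (CohB1.tensorPow E (w.symm j).1)) (hE ((w.symm j).1 + 1)) ((Crv77.twist E).map u)
      ((Crv77.twist E).map v) ?_ (hle ((w.symm j).1 + 1) (w.symm j).1.isLt)
    rw [← CategoryTheory.Functor.map_comp, huv, CategoryTheory.Functor.map_id]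

end KS

end Groth.Agent.VB30

end
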