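import Groth.Agent.VB30.Curve
import Groth.Agent.Curves2.SmoothNormal
import Groth.Agent.SchBasics.Local

/-! Smooth proper curves as `VB30.Cur`. -/

set_option autoImplicit false
set_option linter.style.haveILetI false

universe u

open CategoryTheory AlgebraicGeometry TopologicalSpace

namespace Groth.Agent.VB30

variable (k : Type u) [Field k] (X : Scheme.{u}) [X.Over (Spec (CommRingCat.of k))]
  [IsProper (X ↘ Spec (CommRingCat.of k))] [Smooth (X ↘ Spec (CommRingCat.of k))]

theorem cur_of_smooth [IsIntegral X] (hdim : topologicalKrullDim X = 1) : Cur k X :=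
  ⟨inferInstance, hdim, fun y =>
    ⟨inferInstance, Curves2.valuationRing_stalk_of_smooth (X ↘ Spec (CommRingCat.of k)) hdim.le y⟩⟩

theorem isIntegral_of_geomConnected [GeometricallyConnected (X ↘ Spec (CommRingCat.of k))] : IsIntegral X := by
  have : IsLocallyNoetherian X := LocallyOfFiniteType.isLocallyNoetherian (X ↘ Spec (CommRingCat.of k))
  have : ConnectedSpace X :=
    GeometricallyConnected.connectedSpace_of_subsingleton (f := X ↘ Spec (CommRingCat.of k))
  exact SchBasics.isIntegral_iff_connectedSpace_and_isDomain.mpr
    ⟨inferInstance, fun x => (Curves2.isIntegrallyClosed_stalk_of_smooth (X ↘ Spec (CommRingCat.of k)) x).1⟩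

theorem isIntegral_of_geomIntegral [GeometricallyIntegral (X ↘ Spec (CommRingCat.of k))] : IsIntegral X :=
  GeometricallyIntegral.isIntegral_of_subsingleton (X ↘ Spec (CommRingCat.of k))

end Groth.Agent.VB30
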