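import Groth.Agent.VB30.Duality
import Groth.Agent.CrvPic30.Omega
import Groth.Agent.Crv77.FFBridge
import Groth.Agent.Curves2.CurveToolkit
import Groth.Agent.AbSch7.FieldH0

/-! Consequences of duality: splitting, twists, sections. -/

set_option autoImplicit false
set_option linter.style.haveILetI false
set_option linter.unusedSectionVars false
set_option backward.isDefEq.respectTransparency.types false

noncomputable section

universe u

open CategoryTheory CategoryTheory.Limits AlgebraicGeometry TopologicalSpace Opposite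
open Groth.Agent.QC70 Groth.Agent.Props58.LocFree

namespace Groth.Agent.VB30

variable {k : Type u} [Field k] {X : Scheme.{u}} [X.Over (Spec (CommRingCat.of k))] [IsIntegral X]

theorem homOf_zero {E N : X.Modules} : homOf (0 : Coh.HH X (homMod E N) 0) = 0 := by
  have := homOf_add (0 : Coh.HH X (homMod E N) 0) 0
  rwa [add_zero, left_eq_add] at this

theorem homOf_hmap {E A B : X.Modules} (g : A ⟶ B) (x : Coh.HH X (homMod E A) 0) :
    homOf (Crv77.hmap k (homMap E g) 0 x) = homOf x ≫ g :=
  Scheme.Modules.hom_ext _ _ fun W => by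
    ext s
    exact congrArg (fun φ : HomOn E B ⊤ => φ.app W le_top s) (Crv77.sec_hmap k (homMap E g) x)

theorem shortExact_homFunctor {C : X.Modules} (hC : FlatMod.IsFinLocFree C) {S : ShortComplex X.Modules}
    (hS : S.ShortExact) : ∃ w, (ShortComplex.mk (homMap C S.f) (homMap C S.g) w).ShortExact := by
  haveI : (homFunctor C).Additive := (homModAdj C).right_adjoint_additive
  haveI := preservesHomology_homFunctor hC
  haveI := Functor.preservesFiniteLimits_of_preservesHomology (homFunctor C)
  haveI := Functor.preservesFiniteColimits_of_preservesHomology (homFunctor C)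
  exact ⟨_, hS.map_of_exact (homFunctor C)⟩

/-- `𝓗om(-, N)` on isomorphisms. -/
def homModIso {A B : X.Modules} (e : A ≅ B) (N : X.Modules) : homMod B N ≅ homMod A N where
  hom := (homComap e.hom).app N
  inv := (homComap e.inv).app N
  hom_inv_id := Scheme.Modules.hom_ext _ _ fun W => by
    ext φ
    exact HomOn.ext' fun V hV s => congrArg ((ofSec φ).app V hV) congr((Scheme.Modules.Hom.app $e.inv_hom_id V) s)
  inv_hom_id := Scheme.Modules.hom_ext _ _ fun W => by
    ext φ
    exact HomOn.ext' fun V hV s => congrArg ((ofSec φ).app V hV) congr((Scheme.Modules.Hom.app $e.hom_inv_id V) s)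

/-- The evaluation map to the bidual. -/
def evMap (B N : X.Modules) : B ⟶ homMod (homMod B N) N :=
  HomOn.toHom
    { app := fun U _ =>
        { toFun := fun s => HomOn.toSec
            { app := fun W hW =>
                { toFun := fun φ => (ofSec φ).app W le_rfl (res B hW s)
                  map_add' := fun _ _ => rfl
                  map_smul' := fun a φ => by
                    change resO X le_rfl a • (ofSec φ).app W le_rfl (res B hW s) = _
                    rw [resO_self]
                    rfl }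
              app_res := fun {W W'} hW h φ => by
                change (ofSec φ).app W' h (res B (h.trans hW) s) = res N h ((ofSec φ).app W le_rfl (res B hW s))
                rw [← (ofSec φ).app_res le_rfl h, res_res] }
          map_add' := fun s t => HomOn.ext' fun W hW φ => by
            exact (congrArg ((ofSec φ).app W le_rfl) (map_add (B.presheaf.map (homOfLE hW).op).hom s t)).trans
              (map_add _ _ _)
          map_smul' := fun a s => HomOn.ext' fun W hW φ => by
            change (ofSec φ).app W le_rfl (res B hW (a • s)) = resO X hW a • (ofSec φ).app W le_rfl (res B hW s)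
            rw [res_smul, LinearMap.map_smul] }
      app_res := fun {U U'} _ h s => HomOn.ext' fun W hW φ => by
        change (ofSec φ).app W le_rfl (res B hW (res B h s)) = (ofSec φ).app W le_rfl (res B (hW.trans h) s)
        rw [res_res] }

theorem mono_evMap {B N : X.Modules} (hB : FlatMod.IsFinLocFree B) (hN : PicF.IsInvertible N) :
    Mono (evMap B N) := by
  classical
  refine mono_of_app_injective _ fun U => (injective_iff_map_eq_zero _).2 fun s hs => ?_
  refine section_ext B s 0 fun x hxU => ?_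
  obtain ⟨U₁, n, b, hx₁, hb⟩ := isFinLocFree_iff.mp hB x
  obtain ⟨V, hxV, e, he⟩ := Mero90.exists_frame' hN x
  let W : X.Opens := U ⊓ (U₁ ⊓ V)
  refine ⟨W, inf_le_left, ⟨hxU, hx₁, hxV⟩, ?_⟩
  rw [res_zero]
  have hW₁ : W ≤ U₁ := inf_le_right.trans inf_le_left
  have hWV : W ≤ V := inf_le_right.trans inf_le_right
  have hbW := hb.restrict hW₁
  obtain ⟨a, ha⟩ := hbW.exists_comb le_rfl (res B (inf_le_left : W ≤ U) s)
  refine ha.symm.trans (Finset.sum_eq_zero fun i _ => ?_)
  let φ : HomOn B N W := HomOn.ofBasis hbW fun j => if j = i then res N hWV e else 0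
  have h0 : φ.app W le_rfl (res B (inf_le_left : W ≤ U) s) = 0 :=
    congrArg (fun ψ : HomOn (homMod B N) N U => ψ.app W inf_le_left φ.toSec) hs
  rw [← ha] at h0
  have h1 := (HomOn.ofBasis_app_comb hbW (fun j => if j = i then res N hWV e else 0) le_rfl a).symm.trans h0
  rw [Finset.sum_eq_single i (fun j _ hj => by rw [if_neg hj, res_zero, smul_zero])
    (fun hi => absurd (Finset.mem_univ i) hi), if_pos rfl, res_self] at h1
  have h2 : a i = 0 := (he W hWV).1 (h1.trans (zero_smul Γ(X, W) _).symm)
  rw [h2, zero_smul]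

theorem sc_zero {C : Type*} [Category C] [HasZeroMorphisms C] {T : ShortComplex C} (_ : T.ShortExact) :
    T.f ≫ T.g = 0 := T.zero

namespace Cur

variable (h : Cur k X)
include h

theorem isSplitEpi_of_h1 {S : ShortComplex X.Modules} (hS : S.ShortExact)
    (h₃ : FlatMod.IsFinLocFree S.X₃) (h1 : Subsingleton (Coh.HH X (homMod S.X₃ S.X₁) 1)) :
    IsSplitEpi S.g := by
  have := h.isNoetherian
  obtain ⟨w, hT⟩ := shortExact_homFunctor h₃ hS
  obtain ⟨y, hy⟩ := homOf_surjective (𝟙 S.X₃)
  obtain ⟨x, hx⟩ := (Crv77.exact_g_δ k hT 0 y).1 (@Subsingleton.elim _ h1 _ _)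
  exact IsSplitEpi.mk' ⟨homOf x, (homOf_hmap (k := k) S.g x).symm.trans ((congrArg homOf hx).trans hy)⟩

theorem iso_bidual {B N : X.Modules} (hB : FlatMod.IsFinLocFree B) (hN : PicF.IsInvertible N) :
    Nonempty (B ≅ homMod (homMod B N) N) := by
  obtain ⟨l, r, d⟩ := h.homMod_invertible hB hN
  obtain ⟨l', r', d'⟩ := h.homMod_invertible l hN
  have := mono_evMap hB hN
  have := h.isIso_of_rk_eq (evMap B N) (isCoh_of_isFinLocFree hB) (isCoh_of_isFinLocFree l')
    (by omega) (by rw [d', r, d]; linarith)
  exact ⟨asIso (evMap B N)⟩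

/-- `(A ⊗ B^∨)^∨ ≅ 𝓗om(A, B)`. -/
theorem nonempty_dual_hom {A B : X.Modules} (hB : FlatMod.IsFinLocFree B) :
    Nonempty (homMod (homMod B A) (Coh.structureModule X) ≅ homMod A B) := by
  obtain ⟨e⟩ := nonempty_tensor_dual_iso hB A
  obtain ⟨i⟩ := h.iso_bidual hB (EGA73.isInvertible_structureModule (X := X))
  exact ⟨homModIso e (Coh.structureModule X) ≪≫
    (homTensorIso A (dualMod B)).app (Coh.structureModule X) ≪≫ (homFunctor A).mapIso i.symm⟩

/-- A submodule of a twist, untwisted. -/
theorem sub_untwist {E L G : X.Modules} (hL : PicF.IsInvertible L) (j : G ⟶ CohB1.tensorMod E L) (hj : Mono j)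
    (hG : FlatMod.IsFinLocFree G) :
    ∃ (G' : X.Modules) (j' : G' ⟶ E), Mono j' ∧ FlatMod.IsFinLocFree G' ∧ rk G' = rk G ∧
      dg k G' = dg k G - rk G * dg k L := by
  have := h.isNoetherian
  obtain ⟨H, e, he, he', hH, ⟨i⟩⟩ := exists_twist_equiv hL
  obtain ⟨lG', rG', dG'⟩ := h.tensor_invertible hG hH
  have hdH : dg k L + dg k H = 0 := by
    rw [← h.dg_invertible_tensor hL hH, dg_congr i, h.dg_structureModule]
  obtain ⟨u, hu⟩ : ∃ u : CohB1.tensorMod (CohB1.tensorMod E L) H ⟶ E, IsIso u := by
    have key : ∃ u : e.inverse.obj (e.functor.obj E) ⟶ E, IsIso u := ⟨e.unitInv.app _, inferInstance⟩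
    rw [he, he'] at key
    exact key
  have hmu : Mono u := @IsIso.mono_of_iso _ _ _ _ u hu
  have hmj : Mono (twMap j H) := mono_twMap hH j
  refine ⟨_, twMap j H ≫ u, mono_comp _ _, lG', rG', ?_⟩
  rw [dG', show dg k H = - dg k L by linarith]
  ring

/-- Twisting a semistable bundle. -/
theorem ss_twist {E L : X.Modules} (hE : FlatMod.IsFinLocFree E) (hL : PicF.IsInvertible L) (hs : SS k E) :
    SS k (CohB1.tensorMod E L) := by
  intro G j hj h0 hG
  have := h.isNoetherian
  obtain ⟨H, e, he, he', hH, ⟨i⟩⟩ := exists_twist_equiv hL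
  obtain ⟨lG', rG', dG'⟩ := h.tensor_invertible hG hH
  obtain ⟨-, rT, dT⟩ := h.tensor_invertible hE hL
  have hdH : dg k L + dg k H = 0 := by
    rw [← h.dg_invertible_tensor hL hH, dg_congr i, h.dg_structureModule]
  obtain ⟨u, hu⟩ : ∃ u : CohB1.tensorMod (CohB1.tensorMod E L) H ⟶ E, IsIso u := by
    have key : ∃ u : e.inverse.obj (e.functor.obj E) ⟶ E, IsIso u := ⟨e.unitInv.app _, inferInstance⟩
    rw [he, he'] at key
    exact key
  have hmu : Mono u := @IsIso.mono_of_iso _ _ _ _ u hu
  have hmj : Mono (twMap j H) := mono_twMap hH j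
  have b := hs _ (twMap j H ≫ u) (mono_comp _ _) (by omega) lG'
  rw [rG', dG'] at b
  rw [show dg k H = - dg k L by linarith] at b
  rw [rT, dT]
  linarith

omit h in
theorem shortExact_tensor_left {E : X.Modules} (hE : FlatMod.IsFinLocFree E) {S : ShortComplex X.Modules}
    (hS : S.ShortExact) :
    ∃ (f : CohB1.tensorMod E S.X₁ ⟶ CohB1.tensorMod E S.X₂) (g : CohB1.tensorMod E S.X₂ ⟶ CohB1.tensorMod E S.X₃)
      (w : f ≫ g = 0), (ShortComplex.mk f g w).ShortExact := by
  have hT := Crv77.shortExact_tR_of_locally_flat (O := X.sheaf) E (locally_flat_of_isFinLocFree hE) hS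
  let c : ∀ M : X.Modules, CohB1.tensorMod M E ≅ CohB1.tensorMod E M := fun M => EGA73.tensComm M E
  refine ⟨(c _).inv ≫ twMap S.f E ≫ (c _).hom, (c _).inv ≫ twMap S.g E ≫ (c _).hom, ?_, ?_⟩
  · have hz : twMap S.f E ≫ twMap S.g E = 0 := sc_zero hT
    simp only [Category.assoc, Iso.hom_inv_id_assoc]
    rw [← Category.assoc (twMap S.f E), hz, zero_comp, comp_zero]
  · exact ShortComplex.shortExact_of_iso
      (ShortComplex.isoMk (c S.X₁) (c S.X₂) (c S.X₃) (Iso.hom_inv_id_assoc (c S.X₁) _)
        (Iso.hom_inv_id_assoc (c S.X₂) _)) hT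

/-- Sections drop by at most the rank at a point. -/
theorem h0_le_point_twist [IsAlgClosed k] {E : X.Modules} (hE : FlatMod.IsFinLocFree E) :
    ∃ I : X.Modules, PicF.IsInvertible I ∧ dg k I = -1 ∧
      Module.finrank k (Coh.HH X E 0) ≤ Module.finrank k (Coh.HH X (CohB1.tensorMod E I) 0) + rk E := by
  have := h.proper
  have := h.isNoetherian
  obtain ⟨P, -, hP⟩ := IsClosed.exists_closed_singleton (isClosed_univ (X := X)) Set.univ_nonempty
  have hI : PicF.IsInvertible (ClSub.idealMod (Crv77.ptIdeal hP)) := by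
    obtain ⟨_, _⟩ := h.stalks P
    refine Curves2.isInvertible_ptIdeal h.dim.le hP ?_
    obtain ⟨y, hy⟩ := Crv77.exists_ne_genericPoint h.dim
    by_cases hPy : P = y
    · exact ⟨genericPoint X, fun e => hy (by rw [← hPy, e])⟩
    · exact ⟨y, Ne.symm hPy⟩
  refine ⟨_, hI, ?_, ?_⟩
  · rw [← deg_eq_dg_of_isInvertible hI,
      ← Curves2.deg_congr k ((EGA73.tensComm _ _) ≪≫ EGA73.tensUnitLeft (ClSub.idealMod (Crv77.ptIdeal hP))),
      Curves2.deg_ptIdeal_tensor k h.dim.le hP EGA73.isInvertible_structureModule, Curves2.deg_structureModule k]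
    rfl
  · have hIS := Crv77.idealSeq_shortExact (Crv77.ptIdeal hP)
    obtain ⟨f, g, w, hT⟩ := shortExact_tensor_left hE hIS
    have hEc := isCoh_of_isFinLocFree hE
    obtain ⟨lt, rt, dt⟩ := h.tensor_invertible hE hI
    have hEO : CohB1.tensorMod E (Crv77.idealSeq (Crv77.ptIdeal hP)).X₂ ≅ E :=
      EGA73.tensComm E _ ≪≫ EGA73.tensUnitLeft E
    have c2 : Coh.IsCoh (CohB1.tensorMod E (Crv77.idealSeq (Crv77.ptIdeal hP)).X₂) := QC70.isCoh_of_iso hEO.symm hEc
    have c3 : Coh.IsCoh (CohB1.tensorMod E (Crv77.idealSeq (Crv77.ptIdeal hP)).X₃) :=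
      Crv77.isCoh_tensorMod hEc (Crv77.isCoh_quotMod _)
    have a : rk _ = _ + rk _ := h.rk_add hT c2
    have b : dg k _ = _ + dg k _ := h.dg_add hT (isCoh_of_isFinLocFree lt) c2
    dsimp only at a b
    rw [rk_congr hEO] at a
    rw [dg_congr hEO] at b
    change rk E = rk (CohB1.tensorMod E (ClSub.idealMod (Crv77.ptIdeal hP))) + _ at a
    change dg k E = dg k (CohB1.tensorMod E (ClSub.idealMod (Crv77.ptIdeal hP))) + _ at b
    obtain ⟨d0, -⟩ := h.dg_torsion c3 (by omega)
    have hd : dg k (ClSub.idealMod (Crv77.ptIdeal hP)) = -1 := by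
      rw [← deg_eq_dg_of_isInvertible hI,
        ← Curves2.deg_congr k ((EGA73.tensComm _ _) ≪≫ EGA73.tensUnitLeft (ClSub.idealMod (Crv77.ptIdeal hP))),
        Curves2.deg_ptIdeal_tensor k h.dim.le hP EGA73.isInvertible_structureModule, Curves2.deg_structureModule k]
      rfl
    rw [dt, hd] at b
    have hf := Crv77.exact_f_g (A := k) hT 0
    have := h.curveCoh.finite _ c2 0
    have := h.curveCoh.finite _ c3 0
    have : Module.Finite k (Coh.HH X (CohB1.tensorMod E (Crv77.idealSeq (Crv77.ptIdeal hP)).X₁) 0) :=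
      h.curveCoh.finite _ (isCoh_of_isFinLocFree lt) 0
    have e1 := LinearMap.finrank_range_add_finrank_ker (Crv77.hmap k g 0)
    have e2 : LinearMap.ker (Crv77.hmap k g 0) = LinearMap.range (Crv77.hmap k f 0) := LinearMap.exact_iff.1 hf
    rw [e2, (Crv77.hEquiv k hEO 0).finrank_eq] at e1
    have e3 := LinearMap.finrank_range_le (Crv77.hmap k f 0)
    have e4 := Submodule.finrank_le (LinearMap.range (Crv77.hmap k g 0))
    change _ ≤ Module.finrank k (Coh.HH X (CohB1.tensorMod E (Crv77.idealSeq (Crv77.ptIdeal hP)).X₁) 0) + _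
    omega

theorem h0_eq_zero_of_ss {E : X.Modules} (hE : FlatMod.IsFinLocFree E) (hs : SS k E) (hd : dg k E < 0) :
    Module.finrank k (Coh.HH X E 0) = 0 := by
  by_contra hne
  have := h.curveCoh.finite _ (isCoh_of_isFinLocFree hE) 0
  have : Nontrivial (Coh.HH X E 0) := Module.nontrivial_of_finrank_pos (R := k) (Nat.pos_of_ne_zero hne)
  obtain ⟨x, hx⟩ := exists_ne (0 : Coh.HH X E 0)
  have hO : PicF.IsInvertible (Coh.structureModule X) := EGA73.isInvertible_structureModule
  obtain ⟨lO, rO⟩ := lf_of_isInvertible hO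
  rcases h.rk_image_eq_zero_or (Crv77.toHom x) lO hE rO with h0 | h0
  · refine hx ((Crv77.sec E).injective ?_)
    rw [map_zero, ← Crv77.toHom_app_one x, h0]
    rfl
  · have := hs _ _ h0 (by omega) lO
    rw [h.dg_structureModule, rO] at this
    push_cast at this
    linarith

end Cur

theorem finrank_h0_of_geomConnected [IsProper (X ↘ Spec (CommRingCat.of k))] [Smooth (X ↘ Spec (CommRingCat.of k))]
    [GeometricallyConnected (X ↘ Spec (CommRingCat.of k))] :
    Module.finrank k (Coh.HH X (Coh.structureModule X) 0) = 1 := by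
  let f := X ↘ Spec (CommRingCat.of k)
  have : GeometricallyReduced f := AlgGrp79.geometricallyReduced_of_smooth f
  have hb : Function.Bijective (fun r : k => Coh.toGlobal f r) :=
    (AbSch7.appTop_bijective_of_field f).comp
      (ConcreteCategory.bijective_of_isIso (Scheme.ΓSpecIso (CommRingCat.of k)).inv)
  let one : Γ(Coh.structureModule X, ⊤) := (1 : Γ(X, ⊤))
  let v := (Crv77.sec (Coh.structureModule X)).symm one
  have hsec : ∀ r : k, Crv77.sec (Coh.structureModule X) (r • v) =
      (show Γ(Coh.structureModule X, ⊤) from Coh.toGlobal f r) := fun r => by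
    rw [Crv77.sec_smul k, AddEquiv.apply_symm_apply]
    exact mul_one (show Γ(X, ⊤) from Coh.toGlobal f r)
  have hbij : Function.Bijective (LinearMap.toSpanSingleton k _ v) := by
    constructor
    · intro a b h
      refine hb.1 ?_
      have h2 := congrArg (Crv77.sec (Coh.structureModule X)) h
      rw [LinearMap.toSpanSingleton_apply, LinearMap.toSpanSingleton_apply, hsec, hsec] at h2
      exact h2
    · intro w
      obtain ⟨r, hr⟩ := hb.2 (Crv77.sec (Coh.structureModule X) w)
      exact ⟨r, (Crv77.sec (Coh.structureModule X)).injective ((hsec r).trans hr)⟩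
  exact (LinearEquiv.ofBijective _ hbij).finrank_eq.symm.trans (Module.finrank_self k)

theorem setup_of_geomConnected [IsProper (X ↘ Spec (CommRingCat.of k))] [Smooth (X ↘ Spec (CommRingCat.of k))]
    [GeometricallyConnected (X ↘ Spec (CommRingCat.of k))] (hdim : topologicalKrullDim X = 1) :
    CrvPic30.Setup k X :=
  Crv77.setup_of_h0 hdim (Crv77.valuationRing_stalks_of_smooth (k := k) hdim) finrank_h0_of_geomConnected

section Setup

variable (hS : CrvPic30.Setup k X)
include hS

theorem h1_hom_subsingleton_genus_one (hg : Curv2.genus k X = 1) {A B : X.Modules} (hA : FlatMod.IsFinLocFree A)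
    (hB : FlatMod.IsFinLocFree B) (hz : ∀ φ : A ⟶ B, φ = 0) : Subsingleton (Coh.HH X (homMod B A) 1) := by
  have h := cur_of_setup hS
  obtain ⟨l, -, -⟩ := h.homMod_lf hB hA
  obtain ⟨i⟩ := h.nonempty_dual_hom hB (A := A)
  have := h.curveCoh.finite _ (isCoh_of_isFinLocFree l) 1
  have e := finrank_h1_eq hS l EGA73.isInvertible_structureModule hg (by rw [h.dg_structureModule, hg]; rfl)
  have : Subsingleton (Coh.HH X (homMod A B) 0) :=
    subsingleton_of_forall_eq 0 fun x => homOf_injective ((hz _).trans homOf_zero.symm)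
  rw [(Crv77.hEquiv k i 0).finrank_eq] at e
  have e' : Module.finrank k (Coh.HH X (homMod A B) 0) = 0 := Module.finrank_zero_of_subsingleton
  have : Module.Free k (Coh.HH X (homMod B A) 1) := Module.Free.of_divisionRing k _
  exact Module.finrank_zero_iff.1 (e.trans e')

theorem finrank_h0_le_of_ss [IsAlgClosed k] {E : X.Modules} (hE : FlatMod.IsFinLocFree E) (hs : SS k E) (m : ℕ)
    (hd : dg k E < (rk E : ℤ) * m) : Module.finrank k (Coh.HH X E 0) ≤ rk E * m := by
  have h := cur_of_setup hS
  induction m generalizing E with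
  | zero => rw [h.h0_eq_zero_of_ss hE hs (by simpa using hd)]; simp
  | succ m ih =>
    obtain ⟨I, hI, hdI, hle⟩ := h.h0_le_point_twist hE
    obtain ⟨l, r, d⟩ := h.tensor_invertible hE hI
    have := ih l (h.ss_twist hE hI hs) (by rw [d, r, hdI]; push_cast at hd ⊢; linarith)
    rw [r] at this
    rw [Nat.mul_succ]
    omega

end Setup

end Groth.Agent.VB30

namespace Groth.Agent.VB30

open FunFld

variable {k : Type u} [Field k] {K : Type u} [Field K] [Algebra k K]

theorem exists_ell_sub_single_lt [IsAlgClosed k] (h : IsFunctionField k K) (D : Divisor k K) (hD : 0 < ell D) :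
    ∃ P : Place k K, ell (D - Finsupp.single P 1) + 1 = ell D := by
  classical
  have hF : FF30.FF k K := h.1
  obtain ⟨z, hz, hz0⟩ := FF30.exists_ne_zero_of_ell_pos hD
  have := hF.infinite_places
  obtain ⟨P, hP⟩ := Infinite.exists_notMem_finset (D.support ∪ (div k z).support)
  rw [Finset.mem_union, not_or, Finsupp.notMem_support_iff, Finsupp.notMem_support_iff] at hP
  refine ⟨P, le_antisymm ?_ (hF.ell_le_succ D P)⟩
  have := hF.finite_L D
  have hlt : L (D - Finsupp.single P 1) < L D := by
    refine lt_of_le_of_ne ?_ fun e => ?_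
    · intro x hx
      by_cases hx0 : x = 0
      · rw [hx0]; exact Submodule.zero_mem _
      rw [FF30.mem_L_iff_ord hx0] at hx ⊢
      intro Q
      have := hx Q
      rw [Finsupp.sub_apply] at this
      have : (0 : ℤ) ≤ (Finsupp.single P 1 : Divisor k K) Q := by
        rw [Finsupp.single_apply]; split <;> norm_num
      omega
    · rw [← e, FF30.mem_L_iff_ord hz0] at hz
      have h3 := hz P
      rw [Finsupp.sub_apply, hP.1, Finsupp.single_eq_same] at h3
      have h4 := hP.2
      rw [hF.div_apply] at h4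
      omega
  exact Submodule.finrank_lt_finrank_of_lt hlt

theorem exists_deg_ell_zero [IsAlgClosed k] (h : IsFunctionField k K) :
    ∃ D : Divisor k K, D.deg = (genus k K : ℤ) - 1 ∧ ell D = 0 := by
  have hF : FF30.FF k K := h.1
  obtain ⟨P₀⟩ := hF.nonempty_place
  obtain ⟨C, hC⟩ := FF30.exists_isCanonical h
  have key : ∀ (n : ℕ) (D : Divisor k K), ell D = n → ∃ D' : Divisor k K, D'.deg = D.deg - n ∧ ell D' = 0 := by
    intro n
    induction n with
    | zero => exact fun D hD => ⟨D, by simp, hD⟩
    | succ n ih =>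
      intro D hD
      obtain ⟨P, hP⟩ := exists_ell_sub_single_lt h D (by omega)
      obtain ⟨D', hd, he⟩ := ih (D - Finsupp.single P 1) (by omega)
      refine ⟨D', ?_, he⟩
      rw [hd, FF30.deg_sub, hF.deg_single']
      push_cast
      ring
  have hdeg : (C + Finsupp.single P₀ 1).deg = 2 * (genus k K : ℤ) - 1 := by
    rw [← FF30.degHom_eq, map_add, FF30.degHom_eq, FF30.degHom_eq, hF.deg_single', FF30.deg_canonical h hC]
    ring
  have hell := FF30.ell_eq_of_deg_gt h (D := C + Finsupp.single P₀ 1) (by omega)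
  obtain ⟨D', hd, he⟩ := key (genus k K) (C + Finsupp.single P₀ 1) (by omega)
  exact ⟨D', by rw [hd, hdeg]; ring, he⟩

end Groth.Agent.VB30
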