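import Groth.Agent.VB30.Slope

/-! Extensions, sums and quotients of bundles. -/

set_option autoImplicit false
set_option linter.style.haveILetI false
set_option linter.unusedSectionVars false
set_option backward.isDefEq.respectTransparency.types false

noncomputable section

universe u

open CategoryTheory CategoryTheory.Limits AlgebraicGeometry TopologicalSpace Opposite
open Groth.Agent.QC70 Groth.Agent.Props58.LocFree

namespace Groth.Agent.VB30

variable {k : Type u} [Field k] {X : Scheme.{u}} [X.Over (Spec (CommRingCat.of k))] [IsIntegral X]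

namespace Cur

variable (h : Cur k X)
include h

set_option maxHeartbeats 1000000 in
/-- The preimage of a submodule of a quotient bundle. -/
theorem exists_preimage {S : ShortComplex X.Modules} (hS : S.ShortExact) (h₁ : FlatMod.IsFinLocFree S.X₁)
    (h₂ : FlatMod.IsFinLocFree S.X₂) (h₃ : FlatMod.IsFinLocFree S.X₃) {G : X.Modules} (i : G ⟶ S.X₃) [Mono i]
    (hG : Coh.IsCoh G) :
    ∃ (G' : X.Modules) (j : G' ⟶ S.X₂), Mono j ∧ FlatMod.IsFinLocFree G' ∧
      rk G' = rk S.X₁ + rk G ∧ dg k G' = dg k S.X₁ + dg k G := by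
  have := hS.epi_g
  have h2c := isCoh_of_isFinLocFree h₂
  have h3c := isCoh_of_isFinLocFree h₃
  have hQ := h.isCoh_cokernel i hG h3c
  let q : S.X₂ ⟶ cokernel i := S.g ≫ cokernel.π i
  have hK := h.isCoh_kernel q h2c hQ
  have hlf := h.isFinLocFree_of_mono (kernel.ι q) hK h₂
  have hm : Mono (kernel.ι q) := inferInstance
  suffices hh : rk (kernel q) = rk S.X₁ + rk G ∧ dg k (kernel q) = dg k S.X₁ + dg k G from
    Exists.intro (kernel q) (Exists.intro (kernel.ι q) ⟨hm, hlf, hh⟩)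
  have hA : (ShortComplex.mk (kernel.ι q) q (kernel.condition q)).ShortExact :=
    { exact := ShortComplex.exact_of_f_is_kernel _ (kernelIsKernel _)
      epi_g := inferInstanceAs (Epi (S.g ≫ cokernel.π i)) }
  have hB : (ShortComplex.mk i (cokernel.π i) (cokernel.condition _)).ShortExact :=
    { exact := ShortComplex.exact_of_g_is_cokernel _ (cokernelIsCokernel _) }
  have a1 := h.rk_add hA h2c
  have a2 := h.rk_add hB h3c
  have a3 := h.rk_add hS h2c
  have b1 := h.dg_add hA hK h2c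
  have b2 := h.dg_add hB hG h3c
  dsimp only at a1 a2 b1 b2
  have b3 := h.dg_add hS (isCoh_of_isFinLocFree h₁) h2c
  omega

theorem ss_extension_iff {S : ShortComplex X.Modules} (hS : S.ShortExact) (h₁ : FlatMod.IsFinLocFree S.X₁)
    (h₂ : FlatMod.IsFinLocFree S.X₂) (h₃ : FlatMod.IsFinLocFree S.X₃) (hr₁ : 0 < rk S.X₁) (hr₃ : 0 < rk S.X₃)
    (hμ₁ : dg k S.X₁ * rk S.X₂ = dg k S.X₂ * rk S.X₁) (hμ₃ : dg k S.X₃ * rk S.X₂ = dg k S.X₂ * rk S.X₃) :
    SS k S.X₂ ↔ SS k S.X₁ ∧ SS k S.X₃ := by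
  have := hS.mono_f
  have a3 := h.rk_add hS (isCoh_of_isFinLocFree h₂)
  have hp1 : (0 : ℤ) < rk S.X₁ := by exact_mod_cast hr₁
  have hp3 : (0 : ℤ) < rk S.X₃ := by exact_mod_cast hr₃
  have hp2 : (0 : ℤ) < rk S.X₂ := by rw [a3]; push_cast; omega
  constructor
  · intro hs
    refine ⟨fun G i hi h0 hG => ?_, fun G i hi h0 hG => ?_⟩
    · have := hs G (i ≫ S.f) (mono_comp _ _) h0 hG
      refine le_of_mul_le_mul_right ?_ hp2
      calc dg k G * rk S.X₁ * rk S.X₂ = dg k G * rk S.X₂ * rk S.X₁ := by ring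
        _ ≤ dg k S.X₂ * rk G * rk S.X₁ := mul_le_mul_of_nonneg_right this hp1.le
        _ = dg k S.X₂ * rk S.X₁ * rk G := by ring
        _ = dg k S.X₁ * rk S.X₂ * rk G := by rw [hμ₁]
        _ = dg k S.X₁ * rk G * rk S.X₂ := by ring
    · obtain ⟨G', j, hj, hG', hr', hd'⟩ := h.exists_preimage hS h₁ h₂ h₃ i (isCoh_of_isFinLocFree hG)
      have := hs G' j hj (by omega) hG'
      rw [hr', hd'] at this
      push_cast at this
      have h4 : dg k G * rk S.X₂ ≤ dg k S.X₂ * rk G := by linarith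
      refine le_of_mul_le_mul_right ?_ hp2
      calc dg k G * rk S.X₃ * rk S.X₂ = dg k G * rk S.X₂ * rk S.X₃ := by ring
        _ ≤ dg k S.X₂ * rk G * rk S.X₃ := mul_le_mul_of_nonneg_right h4 hp3.le
        _ = dg k S.X₂ * rk S.X₃ * rk G := by ring
        _ = dg k S.X₃ * rk S.X₂ * rk G := by rw [hμ₃]
        _ = dg k S.X₃ * rk G * rk S.X₂ := by ring
  · rintro ⟨hs₁, hs₃⟩ G i hi h0 hG
    obtain ⟨K, I, a, p, j, ha, hp, hj, haf, -, hK, hI, hr, hd, -, -⟩ := h.exists_ker_im (i ≫ S.g) hG h₃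
    have hKd : dg k K * rk S.X₂ ≤ dg k S.X₂ * rk K := by
      rcases Nat.eq_zero_or_pos (rk K) with hz | hz
      · rw [h.dg_of_rk_zero hK hz, hz]; simp
      · let b : K ⟶ S.X₁ := hS.fIsKernel.lift (KernelFork.ofι (a ≫ i) (by rw [Category.assoc]; exact haf))
        have hb : b ≫ S.f = a ≫ i := hS.fIsKernel.fac _ WalkingParallelPair.zero
        have : Mono b := mono_of_mono_fac hb
        have := hs₁ K b this hz hK
        refine le_of_mul_le_mul_right ?_ hp1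
        calc dg k K * rk S.X₂ * rk S.X₁ = dg k K * rk S.X₁ * rk S.X₂ := by ring
          _ ≤ dg k S.X₁ * rk K * rk S.X₂ := mul_le_mul_of_nonneg_right this hp2.le
          _ = dg k S.X₁ * rk S.X₂ * rk K := by ring
          _ = dg k S.X₂ * rk S.X₁ * rk K := by rw [hμ₁]
          _ = dg k S.X₂ * rk K * rk S.X₁ := by ring
    have hId : dg k I * rk S.X₂ ≤ dg k S.X₂ * rk I := by
      rcases Nat.eq_zero_or_pos (rk I) with hz | hz
      · rw [h.dg_of_rk_zero hI hz, hz]; simp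
      · have := hs₃ I j hj hz hI
        refine le_of_mul_le_mul_right ?_ hp3
        calc dg k I * rk S.X₂ * rk S.X₃ = dg k I * rk S.X₃ * rk S.X₂ := by ring
          _ ≤ dg k S.X₃ * rk I * rk S.X₂ := mul_le_mul_of_nonneg_right this hp2.le
          _ = dg k S.X₃ * rk S.X₂ * rk I := by ring
          _ = dg k S.X₂ * rk S.X₃ * rk I := by rw [hμ₃]
          _ = dg k S.X₂ * rk I * rk S.X₃ := by ring
    rw [hd, hr]
    push_cast
    linarith

set_option maxHeartbeats 1000000 in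
/-- The two factors of a sum. -/
theorem biprod_parts {E E₁ E₂ : X.Modules} (e : E ≅ E₁ ⊞ E₂) (hE : FlatMod.IsFinLocFree E) :
    FlatMod.IsFinLocFree E₁ ∧ FlatMod.IsFinLocFree E₂ ∧ rk E = rk E₁ + rk E₂ ∧
      dg k E = dg k E₁ + dg k E₂ := by
  have := h.isNoetherian
  have hc := isCoh_of_isFinLocFree hE
  let i₁ : E₁ ⟶ E := biprod.inl ≫ e.inv
  let i₂ : E₂ ⟶ E := biprod.inr ≫ e.inv
  let p₁ : E ⟶ E₁ := e.hom ≫ biprod.fst
  let p₂ : E ⟶ E₂ := e.hom ≫ biprod.snd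
  have f₁ : i₁ ≫ p₁ = 𝟙 E₁ := by simp [i₁, p₁]
  have f₂ : i₂ ≫ p₂ = 𝟙 E₂ := by simp [i₂, p₂]
  have z₁ : i₁ ≫ p₂ = 0 := by simp [i₁, p₂]
  have z₂ : i₂ ≫ p₁ = 0 := by simp [i₂, p₁]
  have tot : p₁ ≫ i₁ + p₂ ≫ i₂ = 𝟙 E := by
    simp only [i₁, i₂, p₁, p₂, Category.assoc, ← Preadditive.comp_add]
    rw [← Category.assoc biprod.fst, ← Category.assoc biprod.snd, ← Preadditive.add_comp, biprod.total,
      Category.id_comp, e.hom_inv_id]
  have : Mono i₁ := mono_comp _ _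
  have : Mono i₂ := mono_comp _ _
  have : IsSplitEpi p₂ := IsSplitEpi.mk' ⟨i₂, f₂⟩
  have : IsSplitEpi p₁ := IsSplitEpi.mk' ⟨i₁, f₁⟩
  have hS₁ : (ShortComplex.mk i₁ p₂ z₁).ShortExact :=
    ShortComplex.Splitting.shortExact { r := p₁, s := i₂, f_r := f₁, s_g := f₂, id := tot }
  have hS₂ : (ShortComplex.mk i₂ p₁ z₂).ShortExact :=
    ShortComplex.Splitting.shortExact
      { r := p₂, s := i₁, f_r := f₂, s_g := f₁, id := (add_comm _ _).trans tot }
  have c₁ : Coh.IsCoh E₁ := QC70.isCoh_of_iso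
    ((cokernelIsCokernel (p₂ ≫ i₂)).coconePointUniqueUpToIso (isCokernelEpiComp hS₂.gIsCokernel p₂ rfl))
    (h.isCoh_cokernel _ hc hc)
  have c₂ : Coh.IsCoh E₂ := QC70.isCoh_of_iso
    ((cokernelIsCokernel (p₁ ≫ i₁)).coconePointUniqueUpToIso (isCokernelEpiComp hS₁.gIsCokernel p₁ rfl))
    (h.isCoh_cokernel _ hc hc)
  have l₁ := h.isFinLocFree_of_mono i₁ c₁ hE
  have l₂ := h.isFinLocFree_of_mono i₂ c₂ hE
  have r₁ := h.rk_add hS₁ hc
  have d₁ := h.dg_add hS₁ c₁ hc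
  exact ⟨l₁, l₂, r₁, d₁⟩

end Cur

end Groth.Agent.VB30
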