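import Groth.Agent.VB30.Basic
import Groth.Agent.EGA73.Invertible
import Groth.Agent.Crv77.InvMod
import Groth.Agent.Var76.RegPres

/-! Line subbundles and twists of bundles by invertible modules. -/

set_option autoImplicit false
set_option linter.style.haveILetI false
set_option linter.unusedSectionVars false
set_option backward.isDefEq.respectTransparency.types false

noncomputable section

universe u

open CategoryTheory CategoryTheory.Limits AlgebraicGeometry TopologicalSpace Opposite
open Groth.Agent.QC70 Groth.Agent.Props58.LocFree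

namespace Groth.Agent.VB30

variable {k : Type u} [Field k] {X : Scheme.{u}} [X.Over (Spec (CommRingCat.of k))] [IsIntegral X]

omit [IsIntegral X] in
theorem isInvertible_of_rank_one {L : X.Modules} (h : FlatMod.IsFinLocFreeOfRank 1 L) :
    PicF.IsInvertible L := fun x => by
  obtain ⟨U, hx, ⟨φ⟩⟩ := h x
  exact ⟨U, hx, ⟨φ ≪≫ coproductUniqueIso fun _ : Fin 1 => Coh.structureModule (↑U : Scheme.{u})⟩⟩

theorem isInvertible_of_lf {L : X.Modules} (h : FlatMod.IsFinLocFree L) (h1 : rk L = 1) :
    PicF.IsInvertible L :=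
  isInvertible_of_rank_one (h1 ▸ isFinLocFreeOfRank_rk h)

/-- The sections whose germ at the generic point lies in a subspace. -/
def spanSub (M : X.Modules) (V : Submodule X.functionField (gst M)) : LocalSubmod M where
  obj U :=
    { carrier := {s | ∀ hη : genericPoint X ∈ U, germM M U _ hη s ∈ V}
      add_mem' := fun {a b} ha hb hη => by rw [germM_add]; exact add_mem (ha hη) (hb hη)
      zero_mem' := fun hη => by rw [germM_zero]; exact zero_mem V
      smul_mem' := fun c s hs hη => by rw [germM_smul]; exact V.smul_mem _ (hs hη) }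
  res_mem {U W} h s hs hη := by rw [germM_res]; exact hs (h hη)
  of_locally {U} s h hη := by
    obtain ⟨W, hW, hηW, hs⟩ := h _ hη
    rw [← germM_res hW hηW s]
    exact hs hηW

omit [X.Over (Spec (CommRingCat.of k))] in
theorem isQCoh_spanSub (M : X.Modules) [M.IsQuasicoherent] (V : Submodule X.functionField (gst M)) :
    Coh.IsQCoh (spanSub M V).mod := by
  choose U hU using fun x : X => Div89.exists_affine_mem x
  refine isQuasicoherent_of_isLocAt _ (fun x => (U x).1)
    (IsOpenCover.mk (top_le_iff.mp fun y _ => Opens.mem_iSup.mpr ⟨y, hU y⟩)) (fun x => (U x).2) fun x => ?_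
  have hloc : IsLocAt M (U x).1 := isLocAt_of_isQuasicoherent M (U x).2
  constructor
  · intro f s
    by_cases hf : genericPoint X ∈ X.basicOpen f
    · obtain ⟨n, t, ht⟩ := hloc.exists_of f ((spanSub M V).ι.app _ s)
      refine ⟨n, (⟨t, fun hη => ?_⟩ : (spanSub M V).obj _), Subtype.ext ht⟩
      rw [← germM_res (X.basicOpen_le f) hf t, ht, germM_smul]
      exact V.smul_mem _ ((show (spanSub M V).obj _ from s).2 hf)
    · refine ⟨0, 0, ?_⟩
      refine section_ext _ _ _ fun p hp => absurd (gen_mem hp) hf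
  · intro f t ht
    obtain ⟨n, hn⟩ := hloc.eq_zero_of f ((spanSub M V).ι.app _ t) (by rw [← app_res, ht, map_zero])
    exact ⟨n, Subtype.ext hn⟩

omit [X.Over (Spec (CommRingCat.of k))] in
theorem rk_spanSub (M : X.Modules) (V : Submodule X.functionField (gst M)) :
    rk (spanSub M V).mod = Module.finrank X.functionField V := by
  have hinj : Function.Injective (gmap (spanSub M V).ι) :=
    injective_stalkMapM_of_mono (spanSub M V).ι (genericPoint X)
  have hr : LinearMap.range (gmap (spanSub M V).ι) = V := by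
    refine le_antisymm ?_ fun v hv => ?_
    · rintro _ ⟨c, rfl⟩
      obtain ⟨W, hW, s, rfl⟩ := germM_exist c
      rw [gmap_apply, stalkMapM_germ]
      exact (show (spanSub M V).obj W from s).2 hW
    · obtain ⟨W, hW, s, rfl⟩ := germM_exist v
      refine ⟨germM _ W _ hW (⟨s, fun _ => hv⟩ : (spanSub M V).obj W), ?_⟩
      rw [gmap_apply, stalkMapM_germ]
      rfl
  rw [rk, ← LinearMap.finrank_range_of_inj hinj, hr]

omit [X.Over (Spec (CommRingCat.of k))] in
theorem isTF_of_shortExact {S : ShortComplex X.Modules} (hS : S.ShortExact) (h₁ : IsTF S.X₁)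
    (h₃ : IsTF S.X₃) : IsTF S.X₂ := fun x => by
  have := hS.mono_f
  refine (injective_iff_map_eq_zero _).2 fun e he => ?_
  have hg : stalkMapM S.g x e = 0 := h₃ x <| by rw [toGen_stalkMapM, he, map_zero]; exact map_zero _
  obtain ⟨c, rfl⟩ := stalkMapM_exact S hS.exact x e hg
  rw [toGen_stalkMapM] at he
  have hc : toGen S.X₁ x c = 0 := injective_stalkMapM_of_mono S.f (genericPoint X) (he.trans (map_zero (gmap S.f)).symm)
  rw [h₁ x (hc.trans (map_zero _).symm)]
  exact map_zero _

namespace Cur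

variable (h : Cur k X)
include h

set_option maxHeartbeats 1000000 in
/-- Every nonzero bundle is an extension of a bundle by a line bundle. -/
theorem exists_line_sub {E : X.Modules} (hE : FlatMod.IsFinLocFree E) {n : ℕ} (hn : rk E = n + 1) :
    ∃ S : ShortComplex X.Modules, S.ShortExact ∧ S.X₂ = E ∧ PicF.IsInvertible S.X₁ ∧
      FlatMod.IsFinLocFree S.X₃ ∧ rk S.X₃ = n := by
  have := h.isNoetherian
  have hc := isCoh_of_isFinLocFree hE
  have := hc.1
  have := hc.2
  have := finite_gst E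
  have : Nontrivial (gst E) := Module.nontrivial_of_finrank_pos (R := X.functionField) (by
    change 0 < rk E; omega)
  obtain ⟨g, hg⟩ := exists_ne (0 : gst E)
  let G := spanSub E (X.functionField ∙ g)
  have hGc : Coh.IsCoh G.mod := QC70.isCoh_of_mono G.ι (isQCoh_spanSub E _) hc
  have hG1 : rk G.mod = 1 := by
    rw [rk_spanSub]; exact finrank_span_singleton hg
  obtain ⟨G', i', a, hi', -, -, hG', hQ, hr, -⟩ := h.exists_saturation G.ι hGc hE
  obtain ⟨r1, -⟩ := h.rk_cokernel i' (isCoh_of_isFinLocFree hG') hc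
  have h1 : rk G' = 1 := hr.trans hG1
  have hQn : rk (cokernel i') = n := by omega
  exact ⟨_, shortExact_cokernel i', rfl, isInvertible_of_lf hG' h1, hQ, hQn⟩

theorem dg_invertible_tensor {L M : X.Modules} (hL : PicF.IsInvertible L) (hM : PicF.IsInvertible M) :
    dg k (CohB1.tensorMod L M) = dg k L + dg k M := by
  have := h.isNoetherian
  rw [← deg_eq_dg_of_isInvertible (EGA73.isInvertible_tensorMod hL hM), ← deg_eq_dg_of_isInvertible hL,
    ← deg_eq_dg_of_isInvertible hM]
  exact h.curveCoh.deg_tensorMod h.dim.le hL hM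

theorem twist_zero {E L : X.Modules} (hE : Coh.IsCoh E) (hL : PicF.IsInvertible L) (hz : IsZero E) :
    IsZero (CohB1.tensorMod E L) := by
  have hsp : (ShortComplex.mk (𝟙 E) (𝟙 E) (hz.eq_of_src _ _)).ShortExact :=
    ShortComplex.Splitting.shortExact
      { r := 0, s := 0, f_r := hz.eq_of_src _ _, s_g := hz.eq_of_src _ _, id := hz.eq_of_src _ _ }
  obtain ⟨T, hT, e₁, e₂, e₃⟩ := Crv77.shortExact_twist (Mero90.isFinLocFreeOfRank_of_isInvertible hL) hsp
  dsimp only at e₁ e₂ e₃
  have hc := Crv77.isCoh_tensorMod hE (isCoh_of_isFinLocFree (lf_of_isInvertible hL).1)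
  have a := h.rk_add hT (e₂ ▸ hc)
  have b := h.dg_add hT (e₁ ▸ hc) (e₂ ▸ hc)
  rw [e₁, e₂, e₃] at a b
  obtain ⟨d, z⟩ := h.dg_torsion hc (by omega)
  exact z (by omega)

/-- Rank and degree of a twist. -/
theorem tensor_invertible {E L : X.Modules} (hE : FlatMod.IsFinLocFree E) (hL : PicF.IsInvertible L) :
    FlatMod.IsFinLocFree (CohB1.tensorMod E L) ∧ rk (CohB1.tensorMod E L) = rk E ∧
      dg k (CohB1.tensorMod E L) = dg k E + rk E * dg k L := by
  induction hn : rk E generalizing E with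
  | zero =>
    have hz := h.twist_zero (isCoh_of_isFinLocFree hE) hL (h.isZero_of_rk_eq_zero hE hn)
    have hc := Crv77.isCoh_tensorMod (isCoh_of_isFinLocFree hE) (isCoh_of_isFinLocFree (lf_of_isInvertible hL).1)
    have hlf := h.isFinLocFree_of_isTF hc fun x => by
      have : Subsingleton ((CohB1.tensorMod E L).presheaf.stalk x) := subsingleton_of_forall_eq 0 fun e => by
        have := congrArg (fun f => stalkMapM f x e) (hz.eq_of_src (𝟙 _) 0)
        rwa [stalkMapM_id, stalkMapM_zero] at this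
      exact Function.injective_of_subsingleton _
    refine ⟨hlf, rk_eq_zero_of_isZero hz, ?_⟩
    rw [h.dg_of_rk_zero hlf (rk_eq_zero_of_isZero hz), h.dg_of_rk_zero hE hn]
    simp
  | succ n ih =>
    obtain ⟨S, hS, rfl, h1, h3, hr3⟩ := h.exists_line_sub hE hn
    obtain ⟨T, hT, e₁, e₂, e₃⟩ := Crv77.shortExact_twist (Mero90.isFinLocFreeOfRank_of_isInvertible hL) hS
    obtain ⟨l3, r3, d3⟩ := ih h3 hr3
    obtain ⟨l1, r1⟩ := lf_of_isInvertible (EGA73.isInvertible_tensorMod h1 hL)
    have d1 := h.dg_invertible_tensor h1 hL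
    rw [← e₁] at l1 r1 d1
    rw [← e₃] at l3 r3 d3
    rw [← e₂]
    have c2 : Coh.IsCoh T.X₂ :=
      e₂ ▸ Crv77.isCoh_tensorMod (isCoh_of_isFinLocFree hE) (isCoh_of_isFinLocFree (lf_of_isInvertible hL).1)
    have a := h.rk_add hT c2
    have b := h.dg_add hT (isCoh_of_isFinLocFree l1) c2
    have c := h.dg_add hS (isCoh_of_isFinLocFree (lf_of_isInvertible h1).1) (isCoh_of_isFinLocFree hE)
    refine ⟨h.isFinLocFree_of_isTF c2 (isTF_of_shortExact hT (isTF_of_isFinLocFree l1) (isTF_of_isFinLocFree l3)),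
      by omega, ?_⟩
    rw [b, c, d1, d3]
    push_cast
    ring

end Cur

end Groth.Agent.VB30

namespace Groth.Agent.VB30

variable {X : Scheme.{u}}

/-- The map written in the statements. -/
def twMap {M N : X.Modules} (f : M ⟶ N) (L : X.Modules) : CohB1.tensorMod M L ⟶ CohB1.tensorMod N L :=
  (CohB1.sheafifyMod X).map (MonoidalCategoryStruct.whiskerRight (C := CohB1.PMod X) f.val (CohB1.toPMod L))

theorem twMap_eq {M N : X.Modules} (f : M ⟶ N) (L : X.Modules) : twMap f L = (Crv77.twist L).map f := rfl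

theorem twMap_comp {M N P : X.Modules} (f : M ⟶ N) (g : N ⟶ P) (L : X.Modules) :
    twMap (f ≫ g) L = twMap f L ≫ twMap g L :=
  (Crv77.twist L).map_comp f g

theorem shortExact_twMap {L : X.Modules} (hL : PicF.IsInvertible L) {S : ShortComplex X.Modules}
    (hS : S.ShortExact) :
    ∃ w, (ShortComplex.mk (twMap S.f L) (twMap S.g L) w).ShortExact :=
  ⟨_, Crv77.shortExact_tR_of_locally_flat (O := X.sheaf) L
    (Crv77.locally_flat_of_rank_one (Mero90.isFinLocFreeOfRank_of_isInvertible hL)) hS⟩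

theorem mono_twMap [IsIntegral X] {L : X.Modules} (hL : PicF.IsInvertible L) {M N : X.Modules} (f : M ⟶ N) [Mono f] :
    Mono (twMap f L) := by
  obtain ⟨w, hw⟩ := shortExact_twMap hL (shortExact_cokernel f)
  exact hw.mono_f

theorem exists_twist_equiv [IsReduced X] [NoetherianSpace X] {L : X.Modules} (hL : PicF.IsInvertible L) :
    ∃ (H : X.Modules) (e : X.Modules ≌ X.Modules), e.functor = Crv77.twist L ∧ e.inverse = Crv77.twist H ∧
      PicF.IsInvertible H ∧ Nonempty (CohB1.tensorMod L H ≅ Coh.structureModule X) := by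
  obtain ⟨H, hH, ⟨i⟩⟩ := Crv77.exists_inverse hL
  obtain ⟨a, ha⟩ := Var76.Reg.exists_natIso_tensor i
  obtain ⟨b, hb⟩ := Var76.Reg.exists_natIso_tensor (EGA73.tensComm H L ≪≫ i)
  exact ⟨H, CategoryTheory.Equivalence.mk (Crv77.twist L) (Crv77.twist H)
    (NatIso.ofComponents a fun {M M'} p => ha M M' p).symm
    (NatIso.ofComponents b fun {M M'} p => hb M M' p), rfl, rfl, hH, ⟨i⟩⟩

/-- An invariant submodule. -/
def Inv {L E G : X.Modules} (φ : E ⟶ CohB1.tensorMod E L) (j : G ⟶ E) : Prop :=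
  ∃ χ : G ⟶ CohB1.tensorMod G L, χ ≫ twMap j L = j ≫ φ

theorem inv_kernel [IsIntegral X] {L E F : X.Modules} (hL : PicF.IsInvertible L) {φ : E ⟶ CohB1.tensorMod E L}
    {ψ : F ⟶ CohB1.tensorMod F L} (f : E ⟶ F) (hf : f ≫ ψ = φ ≫ twMap f L) :
    Inv φ (kernel.ι f) := by
  obtain ⟨w, hS⟩ := Cur.shortExact_kerImage f
  obtain ⟨w', hT⟩ := shortExact_twMap hL hS
  have := mono_twMap hL (Abelian.image.ι f)
  have := hT.mono_f
  have z : (kernel.ι f ≫ φ) ≫ twMap (Abelian.factorThruImage f) L = 0 := by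
    rw [← cancel_mono (twMap (Abelian.image.ι f) L), Category.assoc, Category.assoc, zero_comp,
      ← twMap_comp, Abelian.image.fac, ← hf, ← Category.assoc, kernel.condition, zero_comp]
  exact ⟨hT.fIsKernel.lift (KernelFork.ofι _ z), hT.fIsKernel.fac (KernelFork.ofι _ z) WalkingParallelPair.zero⟩

theorem inv_image [IsIntegral X] {L E F : X.Modules} (hL : PicF.IsInvertible L) {φ : E ⟶ CohB1.tensorMod E L}
    {ψ : F ⟶ CohB1.tensorMod F L} (f : E ⟶ F) (hf : f ≫ ψ = φ ≫ twMap f L) :
    Inv ψ (Abelian.image.ι f) := by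
  obtain ⟨w, hS⟩ := Cur.shortExact_kerImage f
  have := mono_twMap hL (Abelian.image.ι f)
  have := hS.epi_g
  have e : (φ ≫ twMap (Abelian.factorThruImage f) L) ≫ twMap (Abelian.image.ι f) L =
      Abelian.factorThruImage f ≫ Abelian.image.ι f ≫ ψ := by
    rw [Category.assoc, ← twMap_comp, ← Category.assoc (Abelian.factorThruImage f), Abelian.image.fac, hf]
  have z : kernel.ι f ≫ φ ≫ twMap (Abelian.factorThruImage f) L = 0 := by
    rw [← cancel_mono (twMap (Abelian.image.ι f) L), Category.assoc, e, ← Category.assoc, w, zero_comp, zero_comp]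
  refine ⟨hS.gIsCokernel.desc (CokernelCofork.ofπ _ z), ?_⟩
  rw [← cancel_epi (Abelian.factorThruImage f), ← Category.assoc, ← e]
  exact congrArg (· ≫ _) (hS.gIsCokernel.fac (CokernelCofork.ofπ _ z) WalkingParallelPair.one)

end Groth.Agent.VB30

namespace Groth.Agent.VB30

theorem conj_inv {C : Type*} [Category C] (e : C ≌ C) (E G : C) (φ : E ⟶ e.functor.obj E)
    (j : G ⟶ e.functor.obj E) (χ : G ⟶ e.functor.obj G) (hχ : χ ≫ e.functor.map j = j ≫ e.functor.map φ) :
    ∃ u : e.inverse.obj (e.functor.obj E) ⟶ E, IsIso u ∧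
      ∃ χ' : e.inverse.obj G ⟶ e.functor.obj (e.inverse.obj G),
        χ' ≫ e.functor.map (e.inverse.map j ≫ u) = (e.inverse.map j ≫ u) ≫ φ := by
  refine ⟨e.unitInv.app E, inferInstance, e.inverse.map χ ≫ e.unitInv.app G ≫ e.counitInv.app G, ?_⟩
  have n1 : e.unitInv.app G ≫ j = e.inverse.map (e.functor.map j) ≫ e.unitInv.app _ :=
    (e.unitInv.naturality j).symm
  have n2 : e.unitInv.app E ≫ φ = e.inverse.map (e.functor.map φ) ≫ e.unitInv.app _ :=
    (e.unitInv.naturality φ).symm
  have a1 : e.functor.map (e.unitInv.app E) = e.counit.app (e.functor.obj E) :=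
    (e.counit_app_functor E).symm
  have a2 : e.functor.map (e.inverse.map j) ≫ e.counit.app (e.functor.obj E) = e.counit.app G ≫ j :=
    e.counit.naturality j
  have a4 : e.counitInv.app G ≫ e.counit.app G ≫ j = j := by
    simp
  rw [Functor.map_comp, a1, a2, Category.assoc, Category.assoc, a4, n1, Category.assoc, n2,
    ← Category.assoc, ← Category.assoc, ← Functor.map_comp, ← Functor.map_comp, hχ]

end Groth.Agent.VB30

namespace Groth.Agent.VB30.Cur

variable {k : Type u} [Field k] {X : Scheme.{u}} [X.Over (Spec (CommRingCat.of k))] [IsIntegral X]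
variable (h : Cur k X)
include h

set_option maxHeartbeats 1000000 in
/-- A morphism between semistable twisted objects does not drop the slope. -/
theorem slope_le_of_inv {E F : X.Modules} (hE : FlatMod.IsFinLocFree E) (hF : FlatMod.IsFinLocFree F)
    (f : E ⟶ F) (hne : f ≠ 0)
    (hK : 0 < rk (kernel f) → FlatMod.IsFinLocFree (kernel f) →
      dg k (kernel f) * rk E ≤ dg k E * rk (kernel f))
    (hI : 0 < rk (Abelian.image f) → FlatMod.IsFinLocFree (Abelian.image f) →
      dg k (Abelian.image f) * rk F ≤ dg k F * rk (Abelian.image f)) :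
    dg k E * rk F ≤ dg k F * rk E := by
  have hEc := isCoh_of_isFinLocFree hE
  have hFc := isCoh_of_isFinLocFree hF
  have hKc := h.isCoh_kernel f hEc hFc
  have hKl := h.isFinLocFree_of_mono (kernel.ι f) hKc hE
  have hIc : Coh.IsCoh (Abelian.image f) := h.isCoh_kernel _ hFc (h.isCoh_cokernel f hEc hFc)
  have hIl := h.isFinLocFree_of_mono (Abelian.image.ι f) hIc hF
  obtain ⟨w, hS⟩ := shortExact_kerImage f
  have r1 := h.rk_add hS hEc
  have d1 := h.dg_add hS hKc hEc
  dsimp only at r1 d1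
  have hI0 : 0 < rk (Abelian.image f) := Nat.pos_of_ne_zero fun z => hne (by
    rw [← Abelian.image.fac f, (h.isZero_of_rk_eq_zero hIl z).eq_of_src (Abelian.image.ι f) 0, comp_zero])
  have a := hI hI0 hIl
  have b : dg k (kernel f) * rk E ≤ dg k E * rk (kernel f) := by
    rcases Nat.eq_zero_or_pos (rk (kernel f)) with z | z
    · rw [h.dg_of_rk_zero hKl z, z]; simp
    · exact hK z hKl
  have c : dg k E * rk (Abelian.image f) ≤ dg k (Abelian.image f) * rk E := by
    rw [d1, r1] at b ⊢
    push_cast at b ⊢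
    linarith
  refine le_of_mul_le_mul_right ?_ (show (0 : ℤ) < rk (Abelian.image f) by exact_mod_cast hI0)
  calc dg k E * rk F * rk (Abelian.image f) = dg k E * rk (Abelian.image f) * rk F := by ring
    _ ≤ dg k (Abelian.image f) * rk E * rk F := mul_le_mul_of_nonneg_right c (Int.natCast_nonneg _)
    _ = dg k (Abelian.image f) * rk F * rk E := by ring
    _ ≤ dg k F * rk (Abelian.image f) * rk E := mul_le_mul_of_nonneg_right a (Int.natCast_nonneg _)
    _ = dg k F * rk E * rk (Abelian.image f) := by ring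

theorem dg_structureModule : dg k (Coh.structureModule X) = 0 := by
  have h1 : PicF.IsInvertible (Coh.structureModule X) := EGA73.isInvertible_structureModule
  rw [← deg_eq_dg_of_isInvertible h1, Curv2.deg]
  simp

set_option maxHeartbeats 1000000 in
/-- The twist of a semistable pair is semistable. -/
theorem pair_twist {E L : X.Modules} (hE : FlatMod.IsFinLocFree E) (hL : PicF.IsInvertible L)
    (φ : E ⟶ CohB1.tensorMod E L)
    (hss : ∀ (G : X.Modules) (j : G ⟶ E), Mono j → 0 < rk G → FlatMod.IsFinLocFree G → Inv φ j →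
      dg k G * rk E ≤ dg k E * rk G)
    (G : X.Modules) (j : G ⟶ CohB1.tensorMod E L) (hj : Mono j) (h0 : 0 < rk G)
    (hG : FlatMod.IsFinLocFree G) (hinv : Inv (twMap φ L) j) :
    dg k G * rk E ≤ (dg k E + rk E * dg k L) * rk G := by
  have := h.isNoetherian
  obtain ⟨H, e, he, he', hH, ⟨i⟩⟩ := exists_twist_equiv hL
  obtain ⟨lG', rG', dG'⟩ := h.tensor_invertible hG hH
  have hdH : dg k L + dg k H = 0 := by
    rw [← h.dg_invertible_tensor hL hH, dg_congr i, h.dg_structureModule]
  obtain ⟨χ, hχ⟩ := hinv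
  have key := conj_inv e
  rw [he, he'] at key
  obtain ⟨u, hu, hu'⟩ := key E G φ j χ hχ
  let j' : CohB1.tensorMod G H ⟶ E := (Crv77.twist H).map j ≫ u
  have : Mono ((Crv77.twist H).map j) := mono_twMap hH j
  have hmu : Mono u := @IsIso.mono_of_iso _ _ _ _ u hu
  have hj' : Mono j' := @mono_comp _ _ _ _ _ ((Crv77.twist H).map j) this u hmu
  have hinv' : Inv φ j' := hu'
  have b := hss _ j' hj' (by omega) lG' hinv'
  rw [rG', dG'] at b
  have hdH' : dg k H = - dg k L := by linarith
  rw [hdH'] at b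
  linarith

theorem pair_deg_nonneg {E L : X.Modules} (hE : FlatMod.IsFinLocFree E) (hL : PicF.IsInvertible L)
    (φ : E ⟶ CohB1.tensorMod E L) (hne : φ ≠ 0)
    (hss : ∀ (G : X.Modules) (j : G ⟶ E), Mono j → 0 < rk G → FlatMod.IsFinLocFree G → Inv φ j →
      dg k G * rk E ≤ dg k E * rk G) :
    0 ≤ dg k L := by
  obtain ⟨lF, rF, dF⟩ := h.tensor_invertible hE hL
  have hf : φ ≫ twMap φ L = φ ≫ twMap φ L := rfl
  have := h.slope_le_of_inv hE lF φ hne
    (fun z hl => hss _ (kernel.ι φ) inferInstance z hl (inv_kernel hL φ hf))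
    (fun z hl => by
      rw [rF, dF]
      exact h.pair_twist hE hL φ hss _ (Abelian.image.ι φ) inferInstance z hl (inv_image hL φ hf))
  rw [rF, dF] at this
  have hr : (0 : ℤ) < rk E := by
    have : 0 < rk E := Nat.pos_of_ne_zero fun z => hne ((h.isZero_of_rk_eq_zero hE z).eq_of_src φ 0)
    exact_mod_cast this
  have h2 : 0 ≤ (rk E * rk E : ℤ) * dg k L := by linarith
  exact nonneg_of_mul_nonneg_right (by linarith) (mul_pos hr hr)

set_option maxHeartbeats 1000000 in
theorem pair_ss {E L : X.Modules} (hE : FlatMod.IsFinLocFree E) (hL : PicF.IsInvertible L)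
    (hL0 : dg k L = 0) (φ : E ⟶ CohB1.tensorMod E L)
    (hss : ∀ (G : X.Modules) (j : G ⟶ E), Mono j → 0 < rk G → FlatMod.IsFinLocFree G → Inv φ j →
      dg k G * rk E ≤ dg k E * rk G) :
    SS k E := by
  intro G i hi h0 hG
  have := h.isNoetherian
  have hEc := isCoh_of_isFinLocFree hE
  have := hEc.2
  obtain ⟨E₁, i₁, hi₁, l₁, p₁, hmax, hrk⟩ := h.exists_max hE (h0.trans_le (rk_le_of_mono i))
  have hC := h.isFinLocFree_cokernel_of_max i₁ hE l₁ p₁ hmax
  obtain ⟨lC, -, -⟩ := h.tensor_invertible hC hL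
  obtain ⟨H, e, he, he', hH, ⟨io⟩⟩ := exists_twist_equiv hL
  have hdH : dg k H = 0 := by
    have := h.dg_invertible_tensor hL hH
    rw [dg_congr io, h.dg_structureModule] at this
    omega
  have z : (i₁ ≫ φ) ≫ twMap (cokernel.π i₁) L = 0 := by
    refine h.hom_eq_zero l₁ lC (h.ss_of_max i₁ hmax) (fun Q j hj hQ0 hQ => ?_) _
    obtain ⟨lQ', rQ', dQ'⟩ := h.tensor_invertible hQ hH
    obtain ⟨u, hu⟩ : ∃ u : CohB1.tensorMod (CohB1.tensorMod (cokernel i₁) L) H ⟶ cokernel i₁, IsIso u := by
      have key : ∃ u : e.inverse.obj (e.functor.obj (cokernel i₁)) ⟶ cokernel i₁, IsIso u :=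
        ⟨e.unitInv.app _, inferInstance⟩
      rw [he, he'] at key
      exact key
    have hmu : Mono u := @IsIso.mono_of_iso _ _ _ _ u hu
    have hmj : Mono (twMap j H) := mono_twMap hH j
    have hm : Mono (twMap j H ≫ u) := mono_comp _ _
    have := h.quot_slope_lt i₁ hE l₁ p₁ hmax hrk (twMap j H ≫ u) lQ' (by omega)
    rw [rQ', dQ', hdH] at this
    simpa using this
  obtain ⟨w, hT⟩ := shortExact_twMap hL (shortExact_cokernel i₁)
  have := hT.mono_f
  have hinv : Inv φ i₁ :=
    ⟨hT.fIsKernel.lift (KernelFork.ofι _ z), hT.fIsKernel.fac (KernelFork.ofι _ z) WalkingParallelPair.zero⟩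
  have a := hss E₁ i₁ hi₁ p₁ l₁ hinv
  have b := hmax G i hi h0 hG
  refine le_of_mul_le_mul_right ?_ (show (0 : ℤ) < rk E₁ by exact_mod_cast p₁)
  calc dg k G * rk E * rk E₁ = dg k G * rk E₁ * rk E := by ring
    _ ≤ dg k E₁ * rk G * rk E := mul_le_mul_of_nonneg_right b (Int.natCast_nonneg _)
    _ = dg k E₁ * rk E * rk G := by ring
    _ ≤ dg k E * rk E₁ * rk G := mul_le_mul_of_nonneg_right a (Int.natCast_nonneg _)
    _ = dg k E * rk G * rk E₁ := by ring

end Groth.Agent.VB30.Cur
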