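import Groth.Agent.VB30.Apply
import Mathlib.RingTheory.IntegralClosure.IsIntegral.Basic

/-! Endomorphism algebras of bundles. -/

set_option autoImplicit false
set_option linter.style.haveILetI false
set_option linter.unusedSectionVars false
set_option backward.isDefEq.respectTransparency.types false

noncomputable section

universe u

open CategoryTheory CategoryTheory.Limits AlgebraicGeometry TopologicalSpace Opposite
open Groth.Agent.QC70 Groth.Agent.Props58.LocFree

namespace Groth.Agent.VB30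

variable {k : Type u} [Field k] {X : Scheme.{u}} [X.Over (Spec (CommRingCat.of k))] [IsIntegral X]

theorem scal_comm {E F : X.Modules} (φ : E ⟶ F) (c : k) : scal E c ≫ φ = φ ≫ scal F c :=
  Scheme.Modules.hom_ext _ _ fun W => by
    ext s
    exact Scheme.Modules.Hom.app_smul φ _ _

theorem scal_add (E : X.Modules) (c d : k) : scal E (c + d) = scal E c + scal E d :=
  Scheme.Modules.hom_ext _ _ fun W => by
    ext (s : Γ(E, W))
    change (X.presheaf.map (homOfLE (le_top : W ≤ ⊤)).op (show Γ(X, ⊤) from Coh.toGlobal (X ↘ Spec (CommRingCat.of k)) (c + d))) • s = _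
    rw [map_add]
    exact (congrArg (· • s) (map_add (X.presheaf.map (homOfLE (le_top : W ≤ ⊤)).op).hom _ _)).trans (add_smul _ _ _)

theorem scal_one (E : X.Modules) : scal E (1 : k) = 𝟙 E :=
  Scheme.Modules.hom_ext _ _ fun W => by
    ext (s : Γ(E, W))
    change (X.presheaf.map (homOfLE (le_top : W ≤ ⊤)).op (show Γ(X, ⊤) from Coh.toGlobal (X ↘ Spec (CommRingCat.of k)) (1 : k))) • s = _
    rw [map_one]
    exact (congrArg (· • s) (map_one (X.presheaf.map (homOfLE (le_top : W ≤ ⊤)).op).hom)).trans (one_smul _ _)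

theorem scal_mul (E : X.Modules) (c d : k) : scal E (c * d) = scal E d ≫ scal E c :=
  Scheme.Modules.hom_ext _ _ fun W => by
    ext (s : Γ(E, W))
    change (X.presheaf.map (homOfLE (le_top : W ≤ ⊤)).op (show Γ(X, ⊤) from Coh.toGlobal (X ↘ Spec (CommRingCat.of k)) (c * d))) • s = _
    rw [map_mul]
    exact (congrArg (· • s) (map_mul (X.presheaf.map (homOfLE (le_top : W ≤ ⊤)).op).hom _ _)).trans (mul_smul _ _ _)

theorem scal_zero (E : X.Modules) : scal E (0 : k) = 0 := by
  have := scal_add E (0 : k) 0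
  rwa [add_zero, left_eq_add] at this

theorem scal_neg (E : X.Modules) (c : k) : scal E (-c) = - scal E c :=
  eq_neg_of_add_eq_zero_left (by rw [← scal_add, neg_add_cancel, scal_zero])

theorem isIso_scal (E : X.Modules) {c : k} (hc : c ≠ 0) : IsIso (scal E c) :=
  ⟨scal E c⁻¹, by rw [← scal_mul, inv_mul_cancel₀ hc, scal_one], by rw [← scal_mul, mul_inv_cancel₀ hc, scal_one]⟩

theorem eq_zero_of_scal_eq_zero {E : X.Modules} (h0 : 0 < rk E) {c : k} (hc : scal E c = 0) : c = 0 := by
  by_contra hne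
  have := isIso_scal E hne
  rw [hc] at this
  have := rk_eq_zero_of_isZero (IsZero.of_mono_zero E E)
  omega

variable (k) in
/-- The scalars in the endomorphism ring. -/
def scalHom (E : X.Modules) : k →+* CategoryTheory.End E where
  toFun c := scal E c
  map_one' := scal_one E
  map_mul' c d := scal_mul E c d
  map_zero' := scal_zero E
  map_add' c d := scal_add E c d

/-- The `k`-algebra of endomorphisms. -/
@[instance_reducible]
def endAlg (E : X.Modules) : Algebra k (CategoryTheory.End E) :=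
  (scalHom k E).toAlgebra' fun c φ => (scal_comm φ c).symm

theorem eq_scal_of_toSheaf {E : X.Modules} {φ : E ⟶ E} {c : k}
    (h : (SheafOfModules.toSheaf X.ringCatSheaf).map φ =
      Coh.smulAb E (Coh.toGlobal (X ↘ Spec (CommRingCat.of k)) c)) : φ = scal E c :=
  (SheafOfModules.toSheaf X.ringCatSheaf).map_injective (h.trans (toSheaf_scal E c).symm)

theorem isIso_sub_scal {E : X.Modules} {f : E ⟶ E} {c : k} (h : IsIso (f - scal E c)) :
    IsIso ((SheafOfModules.toSheaf X.ringCatSheaf).map f - Coh.smulAb E (Coh.toGlobal (X ↘ Spec (CommRingCat.of k)) c)) := by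
  rw [← toSheaf_scal]
  have h2 : IsIso ((Crv77.toAbF X).map (f - scal E c)) := @Functor.map_isIso _ _ _ _ _ _ _ _ h
  rw [Functor.map_sub] at h2
  exact h2

/-- A split pair gives an idempotent. -/
theorem biprod_of_idem {E : X.Modules} (p : E ⟶ E) (hp : p ≫ p = p) :
    Nonempty (E ≅ Abelian.image p ⊞ kernel p) := by
  have : Epi (Abelian.factorThruImage p) := inferInstance
  let P := Abelian.factorThruImage p
  let J := Abelian.image.ι p
  have hJP : J ≫ P = 𝟙 _ := by
    rw [← cancel_epi P, ← cancel_mono J]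
    simp only [Category.assoc, Category.comp_id]
    rw [← Category.assoc P, Abelian.image.fac, hp]
  let R : E ⟶ kernel p := kernel.lift p (𝟙 E - p) (by rw [Preadditive.sub_comp, Category.id_comp, hp, sub_self])
  refine ⟨{ hom := biprod.lift P R, inv := biprod.desc J (kernel.ι p), hom_inv_id := ?_, inv_hom_id := ?_ }⟩
  · rw [biprod.lift_desc, Abelian.image.fac, kernel.lift_ι]
    exact add_sub_cancel p (𝟙 E)
  · refine biprod.hom_ext' _ _ (biprod.hom_ext _ _ ?_ ?_) (biprod.hom_ext _ _ ?_ ?_)
    · simp [hJP]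
    · rw [← cancel_mono (kernel.ι p)]
      simp only [biprod.inl_desc_assoc, Category.assoc, biprod.lift_snd, kernel.lift_ι, Category.comp_id,
        BinaryBicone.inl_snd, zero_comp, R]
      rw [Preadditive.comp_sub, Category.comp_id]
      have : J ≫ p = J := by
        rw [show J ≫ p = (J ≫ P) ≫ J by rw [Category.assoc, Abelian.image.fac], hJP, Category.id_comp]
      rw [this, sub_self]
    · rw [← cancel_mono J]
      simp only [biprod.inr_desc_assoc, Category.assoc, biprod.lift_fst, Category.comp_id,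
        BinaryBicone.inr_fst, zero_comp, P, J]
      rw [Abelian.image.fac, kernel.condition]
    · rw [← cancel_mono (kernel.ι p)]
      simp only [biprod.inr_desc_assoc, Category.assoc, biprod.lift_snd, kernel.lift_ι, Category.comp_id,
        BinaryBicone.inr_snd, Category.id_comp, R]
      rw [Preadditive.comp_sub, kernel.condition, sub_zero, Category.comp_id]

theorem idem_trivial {E : X.Modules}
    (hind : ∀ (E₁ E₂ : X.Modules), Nonempty (E ≅ E₁ ⊞ E₂) → IsZero E₁ ∨ IsZero E₂)
    (p : E ⟶ E) (hp : p ≫ p = p) : p = 0 ∨ p = 𝟙 E := by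
  rcases hind _ _ (biprod_of_idem p hp) with h | h
  · left
    rw [← Abelian.image.fac p, h.eq_of_tgt (Abelian.factorThruImage p) 0, zero_comp]
  · right
    have hm : Mono p := Preadditive.mono_of_kernel_zero (h.eq_of_src (kernel.ι p) 0)
    rw [← cancel_mono p, hp, Category.id_comp]

namespace Cur

variable (h : Cur k X)
include h

theorem finite_end {E : X.Modules} (hE : FlatMod.IsFinLocFree E) :
    letI := endAlg (k := k) E
    Module.Finite k (CategoryTheory.End E) := by
  letI := endAlg (k := k) E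
  have := h.isNoetherian
  have hc := isCoh_of_isFinLocFree hE
  have := h.curveCoh.finite (homMod E E) (isCoh_homMod hc hc) 0
  let T : Coh.HH X (homMod E E) 0 →ₗ[k] CategoryTheory.End E :=
    { toFun := homOf
      map_add' := homOf_add
      map_smul' := fun c x => by
        rw [RingHom.id_apply, Algebra.smul_def]
        exact homOf_smul c x }
  exact Module.Finite.of_surjective T homOf_surjective

set_option maxHeartbeats 1000000 in
/-- An endomorphism of an indecomposable bundle is an isomorphism or nilpotent. -/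
theorem isIso_or_nilpotent {E : X.Modules} (hE : FlatMod.IsFinLocFree E)
    (hind : ∀ (E₁ E₂ : X.Modules), Nonempty (E ≅ E₁ ⊞ E₂) → IsZero E₁ ∨ IsZero E₂)
    (a : CategoryTheory.End E) : IsUnit a ∨ IsNilpotent a := by
  letI := endAlg (k := k) E
  have := h.finite_end hE
  obtain ⟨q, hq, hqa⟩ := IsIntegral.of_finite k a
  obtain ⟨q', hqq', hq'⟩ := Polynomial.exists_eq_pow_rootMultiplicity_mul_and_not_dvd q hq.ne_zero 0
  set m := q.rootMultiplicity 0
  rw [map_zero, sub_zero] at hqq' hq'
  have hcop : IsCoprime (Polynomial.X ^ m : Polynomial k) q' :=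
    ((Polynomial.prime_X.irreducible.coprime_iff_not_dvd).2 hq').pow_left
  obtain ⟨u, v, huv⟩ := hcop
  set e : CategoryTheory.End E := Polynomial.aeval a (u * Polynomial.X ^ m)
  have hq0 : Polynomial.aeval a q = 0 := hqa
  have he : e * e = e := by
    have h1 : (u * Polynomial.X ^ m) * (u * Polynomial.X ^ m) = u * Polynomial.X ^ m - u * v * q := by
      rw [hqq']; linear_combination (u * Polynomial.X ^ m) * huv
    have h2 := congrArg (Polynomial.aeval a) h1
    rw [map_mul (Polynomial.aeval a) (u * Polynomial.X ^ m), map_sub, map_mul (Polynomial.aeval a) (u * v), hq0, mul_zero, sub_zero] at h2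
    exact h2
  rcases idem_trivial hind e he with h0 | h1
  · right
    refine ⟨m, ?_⟩
    have h3 : (Polynomial.X ^ m : Polynomial k) = Polynomial.X ^ m * (u * Polynomial.X ^ m) + v * q := by rw [hqq']; linear_combination (-(Polynomial.X ^ m)) * huv
    have h4 := congrArg (Polynomial.aeval a) h3
    rwa [map_pow, Polynomial.aeval_X, map_add, map_mul, map_mul (Polynomial.aeval a) v, hq0, mul_zero, add_zero,
      show Polynomial.aeval a (u * Polynomial.X ^ m) = 0 from h0, mul_zero] at h4
  · left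
    rcases Nat.eq_zero_or_pos m with hm | hm
    · have h5 : (1 : Polynomial k) = u + v * q := by rw [hqq']; rw [hm] at huv ⊢; linear_combination (-1) * huv
      obtain ⟨w, hw⟩ := Polynomial.X_dvd_sub_C (p := q')
      have hc0 : q'.coeff 0 ≠ 0 := fun hc => hq' (Polynomial.X_dvd_iff.2 hc)
      rw [hm, pow_zero, one_mul] at hqq'
      have h6 : Polynomial.aeval a (Polynomial.X * w) = - algebraMap k _ (q'.coeff 0) := by
        rw [← hw, map_sub, Polynomial.aeval_C, ← hqq', hq0, zero_sub]
      refine ⟨⟨a, - Polynomial.aeval a w * algebraMap k _ (q'.coeff 0)⁻¹, ?_, ?_⟩, rfl⟩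
      · rw [map_mul, Polynomial.aeval_X] at h6
        rw [← mul_assoc, mul_neg, h6, neg_neg, ← map_mul, mul_inv_cancel₀ hc0, map_one]
      · rw [mul_comm Polynomial.X w, map_mul, Polynomial.aeval_X] at h6
        rw [← Algebra.commutes, mul_neg, neg_mul, mul_assoc, h6, mul_neg, neg_neg, ← map_mul, inv_mul_cancel₀ hc0, map_one]
    · have h7 : Polynomial.aeval a (u * Polynomial.X ^ (m - 1) * Polynomial.X) = 1 := by
        rw [mul_assoc, ← pow_succ, Nat.sub_add_cancel hm]; exact h1
      have h8 : Polynomial.aeval a (Polynomial.X * (u * Polynomial.X ^ (m - 1))) = 1 := by rw [mul_comm]; exact h7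
      rw [map_mul, Polynomial.aeval_X] at h7 h8
      exact ⟨⟨a, _, h8, h7⟩, rfl⟩

theorem isIso_or_of_add {E : X.Modules} (hE : FlatMod.IsFinLocFree E)
    (hind : ∀ (E₁ E₂ : X.Modules), Nonempty (E ≅ E₁ ⊞ E₂) → IsZero E₁ ∨ IsZero E₂)
    (f₁ f₂ : E ⟶ E) (hu : IsIso (f₁ + f₂)) : IsIso f₁ ∨ IsIso f₂ := by
  obtain ⟨w, hw⟩ := (isUnit_iff_isIso (show CategoryTheory.End E from f₁ + f₂)).2 hu
  rcases h.isIso_or_nilpotent hE hind (↑w⁻¹ * (show CategoryTheory.End E from f₁)) with h1 | h1
  · left
    exact (isUnit_iff_isIso _).1 ((Units.isUnit_units_mul w⁻¹ _).1 h1)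
  · right
    have h2 : ↑w⁻¹ * (show CategoryTheory.End E from f₂) = 1 - ↑w⁻¹ * (show CategoryTheory.End E from f₁) := by
      rw [eq_sub_iff_add_eq', ← mul_add, Units.inv_mul_eq_one]
      exact hw
    have h3 := h1.isUnit_one_sub
    rw [← h2] at h3
    exact (isUnit_iff_isIso _).1 ((Units.isUnit_units_mul w⁻¹ _).1 h3)

theorem st_line {L : X.Modules} (h1 : rk L = 1) : St k L := fun G _ _ h0 hlt _ => by omega

theorem scalar_line [IsAlgClosed k] {L : X.Modules} (hL : PicF.IsInvertible L) (φ : L ⟶ L) :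
    ∃ c : k, φ = scal L c := by
  obtain ⟨l, r⟩ := lf_of_isInvertible hL
  exact h.exists_scalar l (by omega) (h.st_line r) φ

theorem iso_of_homs {L M : X.Modules} (hL : PicF.IsInvertible L) (hM : PicF.IsInvertible M)
    {a : L ⟶ M} {b : M ⟶ L} (ha : a ≠ 0) (hb : b ≠ 0) : IsIso a := by
  obtain ⟨l, r⟩ := lf_of_isInvertible hL
  obtain ⟨l', r'⟩ := lf_of_isInvertible hM
  have := (h.rk_image_eq_zero_or a l l' r).resolve_left ha
  exact h.isIso_of_rk_eq a (isCoh_of_isFinLocFree l) (isCoh_of_isFinLocFree l') (r.trans r'.symm)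
    ((h.line_hom b l' l r' r).resolve_left hb)

theorem iso_or_of_biprod {L M₁ M₂ R : X.Modules} (hL : PicF.IsInvertible L) (h₁ : PicF.IsInvertible M₁)
    (h₂ : PicF.IsInvertible M₂) (e : L ⊞ R ≅ M₁ ⊞ M₂) : Nonempty (L ≅ M₁) ∨ Nonempty (L ≅ M₂) := by
  by_contra hne
  rw [not_or] at hne
  obtain ⟨l, r⟩ := lf_of_isInvertible hL
  let a₁ : L ⟶ M₁ := biprod.inl ≫ e.hom ≫ biprod.fst
  let a₂ : L ⟶ M₂ := biprod.inl ≫ e.hom ≫ biprod.snd
  let b₁ : M₁ ⟶ L := biprod.inl ≫ e.inv ≫ biprod.fst
  let b₂ : M₂ ⟶ L := biprod.inr ≫ e.inv ≫ biprod.fst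
  have hid : a₁ ≫ b₁ + a₂ ≫ b₂ = 𝟙 L := by
    simp only [a₁, a₂, b₁, b₂, Category.assoc, ← Preadditive.comp_add]
    rw [← Category.assoc biprod.fst biprod.inl, ← Category.assoc biprod.snd biprod.inr,
      ← Preadditive.add_comp, biprod.total, Category.id_comp, e.hom_inv_id_assoc, biprod.inl_fst]
  have z₁ : a₁ ≫ b₁ = 0 := by
    by_contra hz
    have := h.iso_of_homs hL h₁ (a := a₁) (b := b₁) (fun e => hz (by rw [e, zero_comp]))
      (fun e => hz (by rw [e, comp_zero]))
    exact hne.1 ⟨asIso a₁⟩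
  have z₂ : a₂ ≫ b₂ = 0 := by
    by_contra hz
    have := h.iso_of_homs hL h₂ (a := a₂) (b := b₂) (fun e => hz (by rw [e, zero_comp]))
      (fun e => hz (by rw [e, comp_zero]))
    exact hne.2 ⟨asIso a₂⟩
  rw [z₁, z₂, add_zero] at hid
  have := rk_eq_zero_of_isZero ((IsZero.iff_id_eq_zero L).2 hid.symm)
  omega

end Cur

end Groth.Agent.VB30
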