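import Groth.Agent.VB30.Setup
import Groth.Agent.Crv77.PointDeg
import Mathlib.LinearAlgebra.Charpoly.Basic

/-! Semistable and stable bundles: morphisms, endomorphisms. -/

set_option autoImplicit false
set_option linter.style.haveILetI false
set_option linter.unusedSectionVars false
set_option backward.isDefEq.respectTransparency.types false

noncomputable section

universe u

open CategoryTheory CategoryTheory.Limits AlgebraicGeometry TopologicalSpace Opposite
open Groth.Agent.QC70 Groth.Agent.Props58.LocFree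

namespace Groth.Agent.VB30

variable {k : Type u} [Field k] {X : Scheme.{u}} [X.Over (Spec (CommRingCat.of k))] [IsIntegral X]

variable (k) in
/-- Semistability in terms of `dg`. -/
def SS (E : X.Modules) : Prop :=
  ∀ (G : X.Modules) (i : G ⟶ E), Mono i → 0 < rk G → FlatMod.IsFinLocFree G →
    dg k G * rk E ≤ dg k E * rk G

variable (k) in
/-- Stability in terms of `dg`. -/
def St (E : X.Modules) : Prop :=
  ∀ (G : X.Modules) (i : G ⟶ E), Mono i → 0 < rk G → rk G < rk E → FlatMod.IsFinLocFree G →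
    dg k G * rk E < dg k E * rk G

theorem ss_of_slope {E : X.Modules} {r : ℕ} (hE : FlatMod.IsFinLocFreeOfRank r E)
    (h : ∀ (F : X.Modules) (r' : ℕ) (i : F ⟶ E), Mono i → 0 < r' → FlatMod.IsFinLocFreeOfRank r' F →
      Curv2.deg k X F r' * (r : ℤ) ≤ Curv2.deg k X E r * (r' : ℤ)) : SS k E := fun G i hi h0 hG => by
  have := h G _ i hi h0 (isFinLocFreeOfRank_rk hG)
  rw [deg_eq_dg hE] at this
  rwa [rk_eq_of_isFinLocFreeOfRank hE]

theorem slope_of_ss {E : X.Modules} {r : ℕ} (hE : FlatMod.IsFinLocFreeOfRank r E) (h : SS k E)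
    (F : X.Modules) (r' : ℕ) (i : F ⟶ E) (hi : Mono i) (h0 : 0 < r') (hF : FlatMod.IsFinLocFreeOfRank r' F) :
    Curv2.deg k X F r' * (r : ℤ) ≤ Curv2.deg k X E r * (r' : ℤ) := by
  have := h F i hi (by rwa [rk_eq_of_isFinLocFreeOfRank hF]) (isFinLocFree_of_rank hF)
  rwa [rk_eq_of_isFinLocFreeOfRank hE, rk_eq_of_isFinLocFreeOfRank hF, ← deg_eq_dg hE, ← deg_eq_dg hF] at this

theorem st_of_slope {E : X.Modules} {r : ℕ} (hE : FlatMod.IsFinLocFreeOfRank r E)
    (h : ∀ (F : X.Modules) (r' : ℕ) (i : F ⟶ E), Mono i → 0 < r' → r' < r → FlatMod.IsFinLocFreeOfRank r' F →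
      Curv2.deg k X F r' * (r : ℤ) < Curv2.deg k X E r * (r' : ℤ)) : St k E := fun G i hi h0 hlt hG => by
  rw [rk_eq_of_isFinLocFreeOfRank hE] at hlt
  have := h G _ i hi h0 hlt (isFinLocFreeOfRank_rk hG)
  rw [deg_eq_dg hE] at this
  rwa [rk_eq_of_isFinLocFreeOfRank hE]

namespace Cur

variable (h : Cur k X)
include h

theorem dg_of_rk_zero {M : X.Modules} (hM : FlatMod.IsFinLocFree M) (h0 : rk M = 0) : dg k M = 0 := by
  have hz := h.isZero_of_rk_eq_zero hM h0
  rw [(h.dg_torsion (isCoh_of_isFinLocFree hM) h0).1]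
  have : Subsingleton (Coh.HH X M 0) := subsingleton_of_forall_eq 0 fun x => by
    rw [← Crv77.hmap_id (A := k) M 0 x, hz.eq_of_src (𝟙 M) 0]
    apply (Crv77.sec M).injective
    rw [Crv77.sec_hmap, map_zero]
    rfl
  exact_mod_cast Module.finrank_zero_of_subsingleton

/-- A stable module is semistable. -/
theorem ss_of_st {E : X.Modules} (hE : FlatMod.IsFinLocFree E) (hs : St k E) : SS k E :=
  fun G i hi h0 hG => by
    rcases lt_or_eq_of_le (haveI := (isCoh_of_isFinLocFree hE).2; rk_le_of_mono i) with hlt | heq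
    · exact (hs G i hi h0 hlt hG).le
    · rw [heq]
      exact mul_le_mul_of_nonneg_right
        (h.dg_le_of_mono i (isCoh_of_isFinLocFree hG) (isCoh_of_isFinLocFree hE) heq).1 (Int.natCast_nonneg _)

/-- The image of a nonzero morphism out of a semistable bundle has at least its slope. -/
theorem exists_image {E F : X.Modules} (f : E ⟶ F) (hf : f ≠ 0) (hE : FlatMod.IsFinLocFree E)
    (hF : FlatMod.IsFinLocFree F) (hs : SS k E) :
    ∃ (I : X.Modules) (j : I ⟶ F), Mono j ∧ FlatMod.IsFinLocFree I ∧ 0 < rk I ∧ rk I ≤ rk E ∧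
      rk I ≤ rk F ∧ dg k E * rk I ≤ dg k I * rk E ∧
      (St k E → rk I < rk E → dg k E * rk I < dg k I * rk E) ∧
      (rk I = rk E → Mono f ∧ dg k I = dg k E) := by
  obtain ⟨K, I, i, p, j, hi, hp, hj, -, -, hK, hI, hr, hd, hm, hz⟩ := h.exists_ker_im f hE hF
  have := (isCoh_of_isFinLocFree hF).2
  have hrI : 0 < rk I := Nat.pos_of_ne_zero fun h0 => hf (hz h0)
  refine ⟨I, j, hj, hI, hrI, by omega, rk_le_of_mono j, ?_, fun hst hlt => ?_, fun he => ?_⟩
  · rcases Nat.eq_zero_or_pos (rk K) with h0 | h0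
    · rw [hd, h.dg_of_rk_zero hK h0, hr, h0]; simp
    · have := hs K i hi h0 hK
      rw [hd, hr] at this ⊢
      push_cast at this ⊢
      nlinarith
  · have := hst K i hi (by omega) (by omega) hK
    rw [hd, hr] at this ⊢
    push_cast at this ⊢
    nlinarith
  · exact ⟨hm (by omega), by rw [hd, h.dg_of_rk_zero hK (by omega), zero_add]⟩

theorem hom_eq_zero {E F : X.Modules} (hE : FlatMod.IsFinLocFree E)
    (hF : FlatMod.IsFinLocFree F) (hEs : SS k E)
    (hlt : ∀ (G : X.Modules) (i : G ⟶ F), Mono i → 0 < rk G → FlatMod.IsFinLocFree G →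
      dg k G * rk E < dg k E * rk G) (f : E ⟶ F) : f = 0 := by
  by_contra hf
  obtain ⟨I, j, hj, hI, hrI, -, -, hd, -, -⟩ := h.exists_image f hf hE hF hEs
  have := hlt I j hj hrI hI
  linarith

theorem hom_eq_zero_of_slope {E F : X.Modules} (hE : FlatMod.IsFinLocFree E) (hF : FlatMod.IsFinLocFree F)
    (hEs : SS k E) (hFs : SS k F) (hlt : dg k F * rk E < dg k E * rk F) (f : E ⟶ F) : f = 0 := by
  refine h.hom_eq_zero hE hF hEs (fun G i hi h0 hG => ?_) f
  have h1 := hFs G i hi h0 hG
  have hr : (0 : ℤ) < rk F := by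
    have := (isCoh_of_isFinLocFree hF).2
    exact_mod_cast h0.trans_le (rk_le_of_mono i)
  have h2 : (0 : ℤ) < rk G := by exact_mod_cast h0
  refine lt_of_mul_lt_mul_right ?_ hr.le
  calc dg k G * rk E * rk F = dg k G * rk F * rk E := by ring
    _ ≤ dg k F * rk G * rk E := mul_le_mul_of_nonneg_right h1 (Int.natCast_nonneg _)
    _ = dg k F * rk E * rk G := by ring
    _ < dg k E * rk F * rk G := mul_lt_mul_of_pos_right hlt h2
    _ = dg k E * rk G * rk F := by ring

/-- A nonzero morphism between semistable bundles of equal slope, one of them stable, the other of the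
same rank or also stable, is an isomorphism. -/
theorem isIso_of_ne_zero {E F : X.Modules} (hE : FlatMod.IsFinLocFree E) (hF : FlatMod.IsFinLocFree F)
    (hEs : SS k E) (hFs : SS k F) (hμ : dg k E * rk F = dg k F * rk E)
    (hst : (St k E ∧ St k F) ∨ (rk E = rk F ∧ (St k E ∨ St k F))) (f : E ⟶ F) (hf : f ≠ 0) : IsIso f := by
  obtain ⟨I, j, hj, hI, hrI, hIE, hIF, hd, hdst, heq⟩ := h.exists_image f hf hE hF hEs
  have hposE : (0 : ℤ) < rk E := by exact_mod_cast hrI.trans_le hIE
  have hposF : (0 : ℤ) < rk F := by exact_mod_cast hrI.trans_le hIF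
  have hposI : (0 : ℤ) < rk I := by exact_mod_cast hrI
  have hIss := hFs I j hj hrI hI
  have key : dg k E * rk I * rk F ≤ dg k I * rk F * rk E := by nlinarith [mul_le_mul_of_nonneg_right hd hposF.le]
  have key2 : dg k I * rk F * rk E ≤ dg k E * rk I * rk F := by
    calc dg k I * rk F * rk E ≤ dg k F * rk I * rk E := mul_le_mul_of_nonneg_right hIss hposE.le
      _ = dg k F * rk E * rk I := by ring
      _ = dg k E * rk F * rk I := by rw [hμ]
      _ = dg k E * rk I * rk F := by ring
  have hEr : rk I = rk E ∧ rk I = rk F := by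
    have a : St k E → rk I = rk E := fun hs => (lt_or_eq_of_le hIE).resolve_left fun hlt => by
      have := mul_lt_mul_of_pos_right (hdst hs hlt) hposF
      nlinarith
    have b : St k F → rk I = rk F := fun hs => (lt_or_eq_of_le hIF).resolve_left fun hlt => by
      have := mul_lt_mul_of_pos_right (hs I j hj hrI hlt hI) hposE
      nlinarith
    rcases hst with ⟨ha, hb⟩ | ⟨he, hs | hs⟩
    · exact ⟨a ha, b hb⟩
    · exact ⟨a hs, (a hs).trans he⟩
    · exact ⟨(b hs).trans he.symm, b hs⟩
  obtain ⟨hm, -⟩ := heq hEr.1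
  have hrEF : rk E = rk F := hEr.1.symm.trans hEr.2
  refine h.isIso_of_rk_eq f (isCoh_of_isFinLocFree hE) (isCoh_of_isFinLocFree hF) hrEF ?_
  rw [hrEF] at hμ
  exact (mul_right_cancel₀ hposF.ne' hμ).ge

end Cur

/-- Multiplication by a constant. -/
def scal (E : X.Modules) (c : k) : E ⟶ E :=
  HomOn.toHom
    { app := fun W _ =>
        (X.presheaf.map (homOfLE (le_top : W ≤ ⊤)).op
          (show Γ(X, ⊤) from Coh.toGlobal (X ↘ Spec (CommRingCat.of k)) c)) • LinearMap.id
      app_res := fun {W W'} hW h s => by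
        simp only [LinearMap.smul_apply, LinearMap.id_apply]
        rw [QC70.res_smul]
        exact congrArg (fun r : Γ(X, W') => r • res E h s)
          (congr($(X.presheaf.map_comp (homOfLE (le_top : W ≤ ⊤)).op (homOfLE h).op) _)) }

theorem toSheaf_scal (E : X.Modules) (c : k) :
    (SheafOfModules.toSheaf X.ringCatSheaf).map (scal E c) =
      Coh.smulAb E (Coh.toGlobal (X ↘ Spec (CommRingCat.of k)) c) := by
  ext U m
  rfl

theorem stalk_scal (E : X.Modules) (c : k) (x : X) (e : E.presheaf.stalk x) :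
    stalkMapM (scal E c) x e = Curv2.stalkMap k X x c • e := by
  obtain ⟨W, hW, s, rfl⟩ := germM_exist e
  rw [stalkMapM_germ]
  refine (germM_smul hW _ s).trans (congrArg (· • _) ?_)
  exact X.presheaf.germ_res_apply (homOfLE (le_top : W ≤ ⊤)) x hW _

namespace Cur

variable (h : Cur k X)
include h

/-- Over an algebraically closed field every endomorphism minus some constant fails to be invertible. -/
theorem exists_scal_not_isIso [IsAlgClosed k] {E : X.Modules} (hE : FlatMod.IsFinLocFree E)
    (h0 : 0 < rk E) (φ : E ⟶ E) : ∃ c : k, ¬ IsIso (φ - scal E c) := by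
  classical
  have := h.proper
  have := h.isNoetherian
  obtain ⟨P, -, hP⟩ := IsClosed.exists_closed_singleton (isClosed_univ (X := X)) Set.univ_nonempty
  obtain ⟨U, n, s, hPU, hs⟩ := isFinLocFree_iff.mp hE P
  have := hs.free_stalk P hPU
  have := hs.finite_stalk P hPU
  have hn : n = rk E := by
    have := (hs.stalkEquiv (genericPoint X) (gen_mem hPU)).finrank_eq
    rwa [Module.finrank_fin_fun] at this
  let A : Module.End (X.presheaf.stalk P) (E.presheaf.stalk P) := stalkLinear φ P
  have hdeg : A.charpoly.natDegree = n := by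
    rw [LinearMap.charpoly_natDegree, ← (hs.stalkEquiv P hPU).finrank_eq, Module.finrank_fin_fun]
  let e : k ≃+* X.residueField P :=
    RingEquiv.ofBijective (Curv2.resMap k X P) (Crv77.resMap_bijective k hP)
  set q := A.charpoly.map ((e.symm : X.residueField P →+* k).comp (X.residue P).hom) with hq
  have hqd : q.natDegree = n := by rw [hq, A.charpoly_monic.natDegree_map, hdeg]
  obtain ⟨c, hc⟩ := IsAlgClosed.exists_root q fun hd => by
    rw [Polynomial.degree_eq_natDegree ((A.charpoly_monic.map _).ne_zero), hqd] at hd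
    norm_cast at hd
    omega
  refine ⟨c, fun hiso => ?_⟩
  set r := Curv2.stalkMap k X P c
  have hres : (X.residue P).hom (A.charpoly.eval r) = 0 := by
    apply e.symm.injective
    rw [map_zero]
    let g : X.presheaf.stalk P →+* k := (e.symm : X.residueField P →+* k).comp (X.residue P).hom
    have hgr : g r = c := e.symm_apply_apply c
    calc e.symm ((X.residue P).hom (A.charpoly.eval r)) = g (A.charpoly.eval r) := rfl
      _ = (A.charpoly.map g).eval (g r) := (Polynomial.eval_map_apply g r).symm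
      _ = 0 := by rw [hgr]; exact hc
  have hnu : ¬ IsUnit (A.charpoly.eval r) := fun hu => (hu.map (X.residue P).hom).ne_zero hres
  rw [LinearMap.eval_charpoly] at hnu
  refine hnu ((LinearMap.isUnit_iff_isUnit_det _).1 ((Module.End.isUnit_iff _).2 ?_))
  have hb : Function.Bijective (stalkMapM (φ - scal E c) P) :=
    ⟨injective_stalkMapM_of_mono _ P, surjective_stalkMapM_of_epi _ P⟩
  have heq : ∀ z, (algebraMap _ (Module.End (X.presheaf.stalk P) (E.presheaf.stalk P)) r - A) z =
      -stalkMapM (φ - scal E c) P z := fun z => by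
    have h1 := stalkMapM_add (φ - scal E c) (scal E c) P z
    rw [sub_add_cancel, stalk_scal] at h1
    rw [LinearMap.sub_apply, Module.algebraMap_end_apply, show A z = stalkMapM φ P z from rfl, h1]
    abel
  rw [show (⇑(algebraMap _ (Module.End (X.presheaf.stalk P) (E.presheaf.stalk P)) r - A)) =
    fun z => -stalkMapM (φ - scal E c) P z from funext heq]
  exact neg_involutive.bijective.comp hb

theorem exists_scalar [IsAlgClosed k] {E : X.Modules} (hE : FlatMod.IsFinLocFree E)
    (h0 : 0 < rk E) (hst : St k E) (φ : E ⟶ E) : ∃ c : k, φ = scal E c := by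
  obtain ⟨c, hc⟩ := h.exists_scal_not_isIso hE h0 φ
  refine ⟨c, sub_eq_zero.1 ?_⟩
  by_contra hne
  have hss := h.ss_of_st hE hst
  exact hc (h.isIso_of_ne_zero hE hE hss hss rfl (Or.inl ⟨hst, hst⟩) _ hne)

end Cur

end Groth.Agent.VB30
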