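import Groth.Agent.VB30.Stalk
import Groth.Agent.QC70.Closure
import Groth.Agent.Crv77.TwistSection

/-! Vector bundles on a proper regular curve: rank, degree, saturation. -/

set_option autoImplicit false
set_option linter.style.haveILetI false
set_option backward.isDefEq.respectTransparency.types false

noncomputable section

universe u

open CategoryTheory CategoryTheory.Limits AlgebraicGeometry TopologicalSpace Opposite
open Groth.Agent.QC70 Groth.Agent.Props58.LocFree

namespace Groth.Agent.VB30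

variable {k : Type u} [Field k] {X : Scheme.{u}} [X.Over (Spec (CommRingCat.of k))] [IsIntegral X]

variable (k X) in
/-- A proper curve with valuation rings as local rings. -/
structure Cur : Prop where
  proper : IsProper (X ↘ Spec (CommRingCat.of k))
  dim : topologicalKrullDim X = 1
  stalks : ∀ y : X, ∃ _ : IsDomain (X.presheaf.stalk y), ValuationRing (X.presheaf.stalk y)

omit [IsIntegral X] in
/-- `χ(M) - rk(M) χ(O)`. -/
theorem isCoh_of_isFinLocFree {M : X.Modules} (h : FlatMod.IsFinLocFree M) : Coh.IsCoh M :=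
  ⟨isQuasicoherent_of_isFinLocFree h, isFiniteType_of_isFinLocFree h⟩

variable (k) in
/-- `χ(M) - rk(M) χ(O)`. -/
def dg (M : X.Modules) : ℤ := Curv2.deg k X M (rk M)

theorem deg_eq_dg {M : X.Modules} {n : ℕ} (h : FlatMod.IsFinLocFreeOfRank n M) :
    Curv2.deg k X M n = dg k M := by
  rw [dg, rk_eq_of_isFinLocFreeOfRank h]

theorem dg_congr {M N : X.Modules} (e : M ≅ N) : dg k M = dg k N := by
  rw [dg, dg, rk_congr e, Curv2.deg, Curv2.deg, Crv77.euler_congr e]

namespace Cur

set_option linter.unusedSectionVars false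

variable (h : Cur k X)
include h

theorem isNoetherian : IsNoetherian X :=
  have := h.proper
  Crv77.isNoetherian_of_proper (k := k) (X := X)

theorem curveCoh : Crv77.CurveCoh k X :=
  have := h.proper
  Crv77.curveCoh_of_proper k X h.dim.le

theorem isFinLocFree_of_isTF {M : X.Modules} (hM : Coh.IsCoh M) (htf : IsTF M) :
    FlatMod.IsFinLocFree M := by
  have := h.isNoetherian
  refine (Div89.isFinLocFree_iff_torsionFree_of_dim_le_one (fun x => ?_) h.dim.le hM).1
    fun x => htf.noZeroSMulDivisors x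
  obtain ⟨_, _⟩ := h.stalks x
  have hN : IsNoetherianRing (X.presheaf.stalk x) := inferInstance
  have : IsPrincipalIdealRing (X.presheaf.stalk x) :=
    ((IsBezout.TFAE (R := X.presheaf.stalk x)).out 0 1).1 hN
  infer_instance

theorem isFinLocFree_of_mono {M N : X.Modules} (φ : M ⟶ N) [Mono φ] (hM : Coh.IsCoh M)
    (hN : FlatMod.IsFinLocFree N) : FlatMod.IsFinLocFree M :=
  h.isFinLocFree_of_isTF hM ((isTF_of_isFinLocFree hN).of_mono φ)

theorem rk_add {S : ShortComplex X.Modules} (hS : S.ShortExact) (h₂ : Coh.IsCoh S.X₂) :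
    rk S.X₂ = rk S.X₁ + rk S.X₃ :=
  have := h₂.2
  VB30.rk_add hS

theorem dg_add {S : ShortComplex X.Modules} (hS : S.ShortExact) (h₁ : Coh.IsCoh S.X₁)
    (h₂ : Coh.IsCoh S.X₂) : dg k S.X₂ = dg k S.X₁ + dg k S.X₃ := by
  simp only [dg, Curv2.deg, h.rk_add hS h₂, h.curveCoh.euler_add hS h₁ h₂]
  push_cast
  ring

theorem exists_suppIn {M : X.Modules} (hM : Coh.IsCoh M) (h0 : rk M = 0) :
    ∃ S : Set X, S.Finite ∧ (∀ x ∈ S, IsClosed ({x} : Set X)) ∧ Crv77.SuppIn M S := by
  have := h.isNoetherian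
  have := hM.2
  obtain ⟨U, hU, hs⟩ := exists_nhd_sections_subsingleton (M := M) (genericPoint X) (rk_eq_zero_iff.1 h0)
  obtain ⟨hfin, hcl⟩ := Crv77.finite_closed h.dim.le (U := U) ⟨_, hU⟩
  refine ⟨(U : Set X)ᶜ, hfin, hcl, fun x hx => subsingleton_of_forall_eq 0 fun e => ?_⟩
  obtain ⟨W, hxW, s, rfl⟩ := germM_exist e
  have := hs (W ⊓ U) inf_le_right
  rw [← germM_res (inf_le_left : W ⊓ U ≤ W) (show x ∈ W ⊓ U from ⟨hxW, not_not.1 hx⟩) s,
    Subsingleton.elim (res M inf_le_left s) 0]
  exact germM_zero _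

theorem dg_torsion {M : X.Modules} (hM : Coh.IsCoh M) (h0 : rk M = 0) :
    dg k M = Module.finrank k (Coh.HH X M 0) ∧ (Module.finrank k (Coh.HH X M 0) = 0 → IsZero M) := by
  obtain ⟨S, hS, hcl, hsupp⟩ := h.exists_suppIn hM h0
  refine ⟨?_, fun hz => ?_⟩
  · rw [dg, h0, Curv2.deg, h.curveCoh.euler_eq_of_suppIn hM hsupp hS hcl]
    simp
  · have := h.curveCoh.finite M hM 0
    exact Crv77.SuppIn.isZero hsupp hS hcl (Module.finrank_zero_iff.1 hz)

theorem isCoh_cokernel {M N : X.Modules} (φ : M ⟶ N) (hM : Coh.IsCoh M) (hN : Coh.IsCoh N) :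
    Coh.IsCoh (cokernel φ) :=
  QC70.isCoh_cokernel φ hM.1 hN

theorem isCoh_kernel {M N : X.Modules} (φ : M ⟶ N) (hM : Coh.IsCoh M) (hN : Coh.IsCoh N) :
    Coh.IsCoh (kernel φ) := by
  have := h.isNoetherian
  exact QC70.isCoh_kernel φ hM hN.1

/-- A monomorphism between modules of the same rank increases the degree, equality only for isomorphisms. -/
theorem dg_le_of_mono {M N : X.Modules} (φ : M ⟶ N) [Mono φ] (hM : Coh.IsCoh M) (hN : Coh.IsCoh N)
    (hr : rk M = rk N) : dg k M ≤ dg k N ∧ (dg k M = dg k N → IsIso φ) := by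
  have hS : (ShortComplex.mk φ (cokernel.π φ) (cokernel.condition φ)).ShortExact :=
    { exact := ShortComplex.exact_of_g_is_cokernel _ (cokernelIsCokernel _) }
  have h1 := h.dg_add hS hM hN
  have h2 := h.rk_add hS hN
  have hc := h.isCoh_cokernel φ hM hN
  obtain ⟨h3, h4⟩ := h.dg_torsion (M := cokernel φ) hc (by dsimp only at h2; omega)
  dsimp only at h1
  refine ⟨by omega, fun he => ?_⟩
  have : Epi φ := Abelian.epi_of_cokernel_π_eq_zero _ ((h4 (by omega)).eq_of_tgt _ _)
  exact isIso_of_mono_of_epi φ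

set_option maxHeartbeats 1000000 in
/-- The saturation of a submodule. -/
theorem exists_saturation {G E : X.Modules} (i : G ⟶ E) [Mono i] (hG : Coh.IsCoh G)
    (hE : FlatMod.IsFinLocFree E) :
    ∃ (G' : X.Modules) (i' : G' ⟶ E) (a : G ⟶ G'), Mono i' ∧ Mono a ∧ a ≫ i' = i ∧
      FlatMod.IsFinLocFree G' ∧ FlatMod.IsFinLocFree (cokernel i') ∧ rk G' = rk G ∧ dg k G ≤ dg k G' := by
  have hEc := isCoh_of_isFinLocFree hE
  have hQ := h.isCoh_cokernel i hG hEc
  have := h.isNoetherian
  have := hQ.1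
  let T := torsion (cokernel i)
  have hT : Coh.IsCoh T.mod := QC70.isCoh_of_mono T.ι (isQCoh_torsion _) hQ
  have hQ' := h.isCoh_cokernel T.ι hT hQ
  let q : E ⟶ cokernel T.ι := cokernel.π i ≫ cokernel.π T.ι
  have hG' := h.isCoh_kernel q hEc hQ'
  have hlf := h.isFinLocFree_of_mono (kernel.ι q) hG' hE
  let a : G ⟶ kernel q := kernel.lift q i (by simp [q])
  have : Mono a := mono_of_mono_fac (kernel.lift_ι q i _)
  have hS : (ShortComplex.mk (kernel.ι q) q (kernel.condition q)).ShortExact :=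
    { exact := ShortComplex.exact_of_f_is_kernel _ (kernelIsKernel _)
      epi_g := inferInstanceAs (Epi (cokernel.π i ≫ cokernel.π T.ι)) }
  have hS₁ : (ShortComplex.mk T.ι (cokernel.π T.ι) (cokernel.condition _)).ShortExact :=
    { exact := ShortComplex.exact_of_g_is_cokernel _ (cokernelIsCokernel _) }
  have hS₂ : (ShortComplex.mk i (cokernel.π i) (cokernel.condition _)).ShortExact :=
    { exact := ShortComplex.exact_of_g_is_cokernel _ (cokernelIsCokernel _) }
  have r1 := h.rk_add hS hEc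
  have r2 := h.rk_add hS₁ hQ
  have r3 := h.rk_add hS₂ hEc
  have r4 : rk T.mod = 0 := rk_torsion (cokernel i)
  dsimp only at r1 r2 r3
  have e : cokernel (kernel.ι q) ≅ cokernel T.ι :=
    (cokernelIsCokernel _).coconePointUniqueUpToIso hS.gIsCokernel
  refine ⟨kernel q, kernel.ι q, a, inferInstance, inferInstance, kernel.lift_ι q i _, hlf, ?_, by omega,
    (h.dg_le_of_mono a hG hG' (by omega)).1⟩
  exact h.isFinLocFree_of_isTF (QC70.isCoh_of_iso e.symm hQ') ((isTF_cokernel_torsion _).of_mono e.hom)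

theorem isZero_of_rk_eq_zero {M : X.Modules} (hM : FlatMod.IsFinLocFree M) (h0 : rk M = 0) : IsZero M := by
  have hMc := isCoh_of_isFinLocFree hM
  have := hMc.2
  have hs := rk_eq_zero_iff.1 h0
  refine isZero_of_sections_subsingleton fun W => subsingleton_of_forall_eq 0 fun s =>
    section_ext M s 0 fun p hp => ?_
  have : germM M W p hp s = 0 := isTF_of_isFinLocFree hM p (Subsingleton.elim _ _)
  obtain ⟨W', hW, hpW, hz⟩ := germM_eq_zero this
  exact ⟨W', hW, hpW, by rw [hz, res_zero]⟩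

omit h in
theorem shortExact_kerImage {E F : X.Modules} (f : E ⟶ F) :
    ∃ w, (ShortComplex.mk (kernel.ι f) (Abelian.factorThruImage f) w).ShortExact :=
  have w : kernel.ι f ≫ Abelian.factorThruImage f = 0 := by
    rw [← cancel_mono (Abelian.image.ι f), Category.assoc, Abelian.image.fac, kernel.condition, zero_comp]
  ⟨w, { exact := ShortComplex.exact_of_f_is_kernel _ (isKernelOfComp _ _ (kernelIsKernel f) w
        (Abelian.image.fac f)) }⟩

/-- Kernel and image of a morphism of vector bundles. -/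
theorem exists_ker_im {E F : X.Modules} (f : E ⟶ F) (hE : FlatMod.IsFinLocFree E)
    (hF : FlatMod.IsFinLocFree F) :
    ∃ (K I : X.Modules) (i : K ⟶ E) (p : E ⟶ I) (j : I ⟶ F), Mono i ∧ Epi p ∧ Mono j ∧ i ≫ f = 0 ∧
      p ≫ j = f ∧ FlatMod.IsFinLocFree K ∧ FlatMod.IsFinLocFree I ∧
      rk E = rk K + rk I ∧ dg k E = dg k K + dg k I ∧ (rk K = 0 → Mono f) ∧ (rk I = 0 → f = 0) := by
  have hEc := isCoh_of_isFinLocFree hE
  have hFc := isCoh_of_isFinLocFree hF
  have hK := h.isCoh_kernel f hEc hFc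
  have hI : Coh.IsCoh (Abelian.image f) := h.isCoh_kernel _ hFc (h.isCoh_cokernel f hEc hFc)
  have hKl := h.isFinLocFree_of_mono (kernel.ι f) hK hE
  have hIl := h.isFinLocFree_of_mono (Abelian.image.ι f) hI hF
  obtain ⟨w, hS⟩ := shortExact_kerImage f
  have r1 : rk E = rk (kernel f) + rk (Abelian.image f) :=
    h.rk_add (S := ShortComplex.mk (kernel.ι f) (Abelian.factorThruImage f) w) hS hEc
  have r2 : dg k E = dg k (kernel f) + dg k (Abelian.image f) :=
    h.dg_add (S := ShortComplex.mk (kernel.ι f) (Abelian.factorThruImage f) w) hS hK hEc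
  have r3 : rk (kernel f) = 0 → Mono f := fun h0 =>
    Preadditive.mono_of_kernel_zero ((h.isZero_of_rk_eq_zero hKl h0).eq_of_src (kernel.ι f) 0)
  have r4 : rk (Abelian.image f) = 0 → f = 0 := fun h0 => by
    rw [← Abelian.image.fac f, (h.isZero_of_rk_eq_zero hIl h0).eq_of_tgt (Abelian.factorThruImage f) 0]
    exact zero_comp
  exact ⟨kernel f, Abelian.image f, kernel.ι f, Abelian.factorThruImage f, Abelian.image.ι f,
    inferInstance, inferInstance, inferInstance, kernel.condition f, Abelian.image.fac f, hKl, hIl,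
    r1, r2, r3, r4⟩

theorem isIso_of_rk_eq {M N : X.Modules} (φ : M ⟶ N) [Mono φ] (hM : Coh.IsCoh M) (hN : Coh.IsCoh N)
    (hr : rk M = rk N) (hd : dg k N ≤ dg k M) : IsIso φ := by
  obtain ⟨h1, h2⟩ := h.dg_le_of_mono φ hM hN hr
  exact h2 (le_antisymm h1 hd)

set_option maxHeartbeats 1000000 in
/-- Degrees of submodules are bounded. -/
theorem dg_le_h0 {G E : X.Modules} (i : G ⟶ E) [Mono i] (hG : Coh.IsCoh G) (hE : Coh.IsCoh E) :
    dg k G ≤ Module.finrank k (Coh.HH X E 0) - (rk G : ℤ) * Curv2.euler k X (Coh.structureModule X) := by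
  have := h.curveCoh.finite E hE 0
  have hle : Module.finrank k (Coh.HH X G 0) ≤ Module.finrank k (Coh.HH X E 0) := by
    have hS : (ShortComplex.mk i (cokernel.π i) (cokernel.condition _)).ShortExact :=
      { exact := ShortComplex.exact_of_g_is_cokernel _ (cokernelIsCokernel _) }
    exact LinearMap.finrank_le_finrank_of_injective (Crv77.injective_f_zero (A := k) hS)
  have := h.curveCoh.euler_eq hG
  simp only [dg, Curv2.deg, Crv77.h] at this ⊢
  omega

end Cur

end Groth.Agent.VB30
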