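import Groth.Agent.VB30.HomSeq
import Groth.Agent.CrvPic30.Classify
import Groth.Agent.Crv77.Sections

/-! Serre duality for bundles on curves, as equalities of dimensions. -/

set_option autoImplicit false
set_option linter.style.haveILetI false
set_option linter.unusedSectionVars false
set_option backward.isDefEq.respectTransparency.types false

noncomputable section

universe u

open CategoryTheory CategoryTheory.Limits AlgebraicGeometry TopologicalSpace Opposite
open CategoryTheory.Abelian
open Groth.Agent.QC70 Groth.Agent.Props58.LocFree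

namespace Groth.Agent.VB30

variable {k : Type u} [Field k] {X : Scheme.{u}} [X.Over (Spec (CommRingCat.of k))] [IsIntegral X]

theorem twist_adj {L H : X.Modules} {e : X.Modules ≌ X.Modules} (he : e.functor = Crv77.twist L)
    (he' : e.inverse = Crv77.twist H) : Nonempty (Crv77.twist L ⊣ Crv77.twist H) :=
  ⟨he ▸ he' ▸ e.toAdjunction⟩

/-- `𝓗om(L, N) ≅ N ⊗ L⁻¹`. -/
theorem exists_homMod_invertible [NoetherianSpace X] {L : X.Modules} (hL : PicF.IsInvertible L) (N : X.Modules) :
    ∃ H : X.Modules, PicF.IsInvertible H ∧ Nonempty (CohB1.tensorMod L H ≅ Coh.structureModule X) ∧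
      Nonempty (homMod L N ≅ CohB1.tensorMod N H) := by
  obtain ⟨H, e, he, he', hH, hi⟩ := exists_twist_equiv hL
  obtain ⟨A⟩ := twist_adj he he'
  exact ⟨H, hH, hi, ⟨((homModAdjR L : Crv77.twist L ⊣ homFunctor L).rightAdjointUniq A).app N⟩⟩

/-- A class in degree zero of `𝓗om` as a morphism. -/
def homOf {E N : X.Modules} (x : Coh.HH X (homMod E N) 0) : E ⟶ N :=
  (ofSec (Crv77.sec (homMod E N) x)).toHom

theorem homOf_add {E N : X.Modules} (x y : Coh.HH X (homMod E N) 0) :
    homOf (x + y) = homOf x + homOf y :=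
  Scheme.Modules.hom_ext _ _ fun W => by
    ext s
    exact congrArg (fun φ : HomOn E N ⊤ => φ.app W le_top s) (map_add (Crv77.sec (homMod E N)) x y)

theorem homOf_smul {E N : X.Modules} (c : k) (x : Coh.HH X (homMod E N) 0) :
    homOf (c • x) = homOf x ≫ scal N c :=
  Scheme.Modules.hom_ext _ _ fun W => by
    ext s
    exact congrArg (fun φ : HomOn E N ⊤ => φ.app W le_top s) (Crv77.sec_smul k (homMod E N) c x)

theorem homOf_injective {E N : X.Modules} : Function.Injective (homOf (E := E) (N := N)) := fun x y h => by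
  refine (Crv77.sec (homMod E N)).injective (HomOn.ext' fun W hW s => ?_)
  exact congr((Scheme.Modules.Hom.app $h W) s)

theorem homOf_surjective {E N : X.Modules} : Function.Surjective (homOf (E := E) (N := N)) := fun φ => by
  refine ⟨(Crv77.sec (homMod E N)).symm (HomOn.ofHom φ ⊤).toSec, ?_⟩
  unfold homOf
  rw [AddEquiv.apply_symm_apply]
  rfl

omit [IsIntegral X] in
theorem hmap_add {E N : X.Modules} (f g : E ⟶ N) (n : ℕ) (x : Coh.HH X E n) :
    Crv77.hmap k (f + g) n x = Crv77.hmap k f n x + Crv77.hmap k g n x := by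
  change Ext.comp x (Ext.mk₀ ((Crv77.toAbF X).map (f + g))) (add_zero n) = _
  rw [Functor.map_add]
  exact (congrArg (fun t => Ext.comp x t (add_zero n)) (Ext.mk₀_add _ _)).trans (Ext.comp_add _ _ _ _)

theorem hmap_scal {E N : X.Modules} (f : E ⟶ N) (c : k) (n : ℕ) (x : Coh.HH X E n) :
    Crv77.hmap k (f ≫ scal N c) n x = c • Crv77.hmap k f n x := by
  rw [← Crv77.hmap_comp, Crv77.smul_eq_comp k N n c]
  exact congrArg (fun t => Ext.comp _ (Ext.mk₀ t) (add_zero n)) (toSheaf_scal N c)

namespace Cur

variable (h : Cur k X)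
include h

set_option maxHeartbeats 1000000 in
/-- `𝓗om(E, N)` for bundles. -/
theorem homMod_lf {E N : X.Modules} (hE : FlatMod.IsFinLocFree E) (hN : FlatMod.IsFinLocFree N) :
    FlatMod.IsFinLocFree (homMod E N) ∧ rk (homMod E N) = rk E * rk N ∧
      dg k (homMod E N) = rk E * dg k N - rk N * dg k E := by
  have := h.isNoetherian
  have hNc := isCoh_of_isFinLocFree hN
  induction hn : rk E generalizing E with
  | zero =>
    have hz := h.isZero_of_rk_eq_zero hE hn
    have hsp : (ShortComplex.mk (𝟙 E) (𝟙 E) (hz.eq_of_src _ _)).ShortExact :=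
      ShortComplex.Splitting.shortExact
        { r := 0, s := 0, f_r := hz.eq_of_src _ _, s_g := hz.eq_of_src _ _, id := hz.eq_of_src _ _ }
    have hT := shortExact_homComap_lf hsp hE N
    have hc : Coh.IsCoh (homMod E N) := isCoh_homMod (isCoh_of_isFinLocFree hE) hNc
    have a := h.rk_add hT hc
    have b := h.dg_add hT hc hc
    dsimp only at a b
    change rk (homMod E N) = rk (homMod E N) + rk (homMod E N) at a
    change dg k (homMod E N) = dg k (homMod E N) + dg k (homMod E N) at b
    obtain ⟨d, z⟩ := h.dg_torsion hc (by omega)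
    have hz' := z (by omega)
    refine ⟨h.isFinLocFree_of_isTF hc fun x => ?_, (rk_eq_zero_of_isZero hz').trans (zero_mul _).symm, ?_⟩
    · have : Subsingleton ((homMod E N).presheaf.stalk x) := subsingleton_of_forall_eq 0 fun e => by
        have := congrArg (fun f => stalkMapM f x e) (hz'.eq_of_src (𝟙 _) 0)
        rwa [stalkMapM_id, stalkMapM_zero] at this
      exact Function.injective_of_subsingleton _
    · rw [h.dg_of_rk_zero hE hn]
      have : dg k (homMod E N) = 0 := by omega
      rw [this]
      simp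
  | succ n ih =>
    obtain ⟨S, hS, rfl, h1, h3, hr3⟩ := h.exists_line_sub hE hn
    have hT := shortExact_homComap_lf hS h3 N
    obtain ⟨l3, r3, d3⟩ := ih h3 hr3
    obtain ⟨H, hH, ⟨i⟩, ⟨j⟩⟩ := exists_homMod_invertible h1 N
    obtain ⟨lt, rt, dt⟩ := h.tensor_invertible hN hH
    have l1 : FlatMod.IsFinLocFree (homMod S.X₁ N) :=
      h.isFinLocFree_of_isTF (QC70.isCoh_of_iso j.symm (isCoh_of_isFinLocFree lt))
        ((isTF_of_isFinLocFree lt).of_mono j.hom)
    have r1 : rk (homMod S.X₁ N) = rk N := (rk_congr j).trans rt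
    have d1 : dg k (homMod S.X₁ N) = dg k N - rk N * dg k S.X₁ := by
      rw [dg_congr j, dt]
      have := h.dg_invertible_tensor h1 hH
      rw [dg_congr i, h.dg_structureModule] at this
      rw [show dg k H = - dg k S.X₁ by linarith]
      ring
    have c2 : Coh.IsCoh (homMod S.X₂ N) := isCoh_homMod (isCoh_of_isFinLocFree hE) hNc
    have a := h.rk_add hT c2
    have b := h.dg_add hT (isCoh_of_isFinLocFree l3) c2
    have c := h.dg_add hS (isCoh_of_isFinLocFree (lf_of_isInvertible h1).1) (isCoh_of_isFinLocFree hE)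
    change rk (homMod S.X₂ N) = rk (homMod S.X₃ N) + rk (homMod S.X₁ N) at a
    change dg k (homMod S.X₂ N) = dg k (homMod S.X₃ N) + dg k (homMod S.X₁ N) at b
    refine ⟨h.isFinLocFree_of_isTF c2
      (isTF_of_shortExact hT (isTF_of_isFinLocFree l3) (isTF_of_isFinLocFree l1)), ?_, ?_⟩
    · rw [a, r1, r3]; ring
    · rw [b, c, d1, d3]
      push_cast
      ring

/-- `𝓗om(E, N)` for a bundle `E` and an invertible `N`. -/
theorem homMod_invertible {E N : X.Modules} (hE : FlatMod.IsFinLocFree E) (hN : PicF.IsInvertible N) :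
    FlatMod.IsFinLocFree (homMod E N) ∧ rk (homMod E N) = rk E ∧
      dg k (homMod E N) = rk E * dg k N - dg k E := by
  obtain ⟨lN, rN⟩ := lf_of_isInvertible hN
  obtain ⟨l, r, d⟩ := h.homMod_lf hE lN
  rw [rN] at r d
  exact ⟨l, by rw [r, mul_one], by rw [d]; ring⟩

theorem subsingleton_h1_of_rk_zero {M : X.Modules} (hM : Coh.IsCoh M) (h0 : rk M = 0) :
    Subsingleton (Coh.HH X M 1) := by
  obtain ⟨S, hS, hcl, hsupp⟩ := h.exists_suppIn hM h0
  exact hsupp.subsingleton_HH hS hcl 0

set_option maxHeartbeats 1000000 in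
/-- A nonzero morphism to a line bundle is surjective on `H¹`. -/
theorem h1_surjective {E ω : X.Modules} (hE : FlatMod.IsFinLocFree E) (hω : PicF.IsInvertible ω)
    (φ : E ⟶ ω) (hφ : φ ≠ 0) : Function.Surjective (Crv77.hmap k φ 1) := by
  obtain ⟨lω, rω⟩ := lf_of_isInvertible hω
  have hωc := isCoh_of_isFinLocFree lω
  have := hωc.2
  obtain ⟨K, I, i, p, j, hi, hp, hj, -, hpj, lK, lI, hr, -, -, hz⟩ := h.exists_ker_im φ hE lω
  have hI1 : rk I = 1 := by
    have := rk_le_of_mono j
    have : rk I ≠ 0 := fun e => hφ (hz e)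
    omega
  have hj1 : Function.Surjective (Crv77.hmap k j 1) := fun y => by
    have hS := shortExact_cokernel j
    have hQ := h.isCoh_cokernel j (isCoh_of_isFinLocFree lI) hωc
    have hQ0 : rk (cokernel j) = 0 := by
      have := (h.rk_cokernel j (isCoh_of_isFinLocFree lI) hωc).1
      omega
    have := h.subsingleton_h1_of_rk_zero hQ hQ0
    exact (Crv77.exact_f_g (A := k) hS 1 y).1 (Subsingleton.elim _ _)
  have hp1 : Function.Surjective (Crv77.hmap k p 1) := fun y => by
    have hS : (ShortComplex.mk (kernel.ι p) p (kernel.condition p)).ShortExact :=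
      { exact := ShortComplex.exact_of_f_is_kernel _ (kernelIsKernel _) }
    have hKc := h.isCoh_kernel p (isCoh_of_isFinLocFree hE) (isCoh_of_isFinLocFree lI)
    have := h.curveCoh.vanish _ hKc 2 le_rfl
    exact (Crv77.exact_g_δ k hS 1 y).1 (@Subsingleton.elim _ this _ _)
  intro y
  obtain ⟨z, rfl⟩ := hj1 y
  obtain ⟨x, rfl⟩ := hp1 z
  exact ⟨x, by rw [Crv77.hmap_comp, hpj]⟩

/-- The easy half of duality. -/
theorem finrank_hom_le {E ω : X.Modules} (hE : FlatMod.IsFinLocFree E) (hω : PicF.IsInvertible ω)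
    (h1 : Module.finrank k (Coh.HH X ω 1) = 1) :
    Module.finrank k (Coh.HH X (homMod E ω) 0) ≤ Module.finrank k (Coh.HH X E 1) := by
  have := h.curveCoh.finite E (isCoh_of_isFinLocFree hE) 1
  have : Module.Free k (Coh.HH X ω 1) := Module.Free.of_divisionRing k _
  have : Nontrivial (Coh.HH X ω 1) := Module.nontrivial_of_finrank_eq_succ h1
  have : Module.Finite k (Coh.HH X ω 1) := Module.finite_of_finrank_eq_succ h1
  have : Module.Free k (Coh.HH X E 1) := Module.Free.of_divisionRing k _
  let ι : Coh.HH X ω 1 ≃ₗ[k] k := LinearEquiv.ofFinrankEq _ _ (h1.trans (Module.finrank_self k).symm)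
  let T : Coh.HH X (homMod E ω) 0 →ₗ[k] Module.Dual k (Coh.HH X E 1) :=
    { toFun := fun x => ι.toLinearMap.comp (Crv77.hmap k (homOf x) 1)
      map_add' := fun x y => LinearMap.ext fun z => by
        simp [homOf_add, hmap_add]
      map_smul' := fun c x => LinearMap.ext fun z => by
        simp [homOf_smul, hmap_scal] }
  have hT : Function.Injective T := (injective_iff_map_eq_zero _).2 fun x hx => by
    by_contra hne
    have hφ : homOf x ≠ 0 := fun hz => hne <| homOf_injective (hz.trans (Eq.symm (by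
      have := homOf_add (0 : Coh.HH X (homMod E ω) 0) 0
      rw [add_zero] at this
      exact left_eq_add.1 this)))
    obtain ⟨y, hy⟩ := exists_ne (0 : Coh.HH X ω 1)
    obtain ⟨z, rfl⟩ := h.h1_surjective hE hω _ hφ y
    exact hy (ι.injective ((LinearMap.congr_fun hx z).trans (map_zero ι).symm))
  calc Module.finrank k (Coh.HH X (homMod E ω) 0) ≤ Module.finrank k (Module.Dual k (Coh.HH X E 1)) :=
        LinearMap.finrank_le_finrank_of_injective hT
    _ = _ := Subspace.dual_finrank_eq

end Cur

end Groth.Agent.VB30
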