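import Groth.Agent.VB30.Bound
import Groth.Agent.Frob53.FrobLine
import Groth.Agent.DCK91.PullFlat
import Groth.Agent.Strict99.Basic
import Groth.Agent.Amp73.PullTensor

/-! Frobenius pullbacks of line bundles and the growth of sections of Frobenius pullbacks. -/

set_option autoImplicit false
set_option linter.style.haveILetI false
set_option linter.unusedSectionVars false
set_option backward.isDefEq.respectTransparency.types false

noncomputable section

universe u

open CategoryTheory CategoryTheory.Limits AlgebraicGeometry TopologicalSpace Opposite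
open Groth.Agent.QC70 Groth.Agent.Props58.LocFree

namespace Groth.Agent.VB30

variable (p : ℕ) [Fact p.Prime] {X : Scheme.{u}} [FrobSch.IsCharP X p]

/-- Frobenius pullback of an invertible module is its `p`-th power. -/
theorem nonempty_frob_pullback {L : X.Modules} (hL : PicF.IsInvertible L) :
    Nonempty ((Scheme.Modules.pullback (FrobSch.frob X p)).obj L ≅ CohB1.tensorPow L p) := by
  let η : L ⟶ Frob53.pf p (CohB1.tensorPow L p) := HomOn.toHom
    { app := fun W _ =>
        { toFun := fun l => Amp73.epow l p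
          map_add' := fun a b => Frob53.epow_add p hL a b
          map_smul' := fun r a => Amp73.epow_smul r a p }
      app_res := fun {W W'} _ h l => (Amp73.res_epow h l p).symm }
  let φ : (Scheme.Modules.pullback (FrobSch.frob X p)).obj L ⟶ CohB1.tensorPow L p :=
    ((Scheme.Modules.pullbackPushforwardAdjunction (FrobSch.frob X p)).homEquiv _ _).symm η
  have hφ : ∀ (U : X.Opens) (e : Γ(L, U)),
      φ.app (FrobSch.frob X p ⁻¹ᵁ U) (Amp73.pullS (FrobSch.frob X p) L U e) = η.app U e := fun U e => by
    have h := (Scheme.Modules.pullbackPushforwardAdjunction (FrobSch.frob X p)).homEquiv_unit L (CohB1.tensorPow L p) φ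
    rw [show (Scheme.Modules.pullbackPushforwardAdjunction (FrobSch.frob X p)).homEquiv _ _ φ = η from
      Equiv.apply_symm_apply _ _] at h
    exact (congrArg (fun f : L ⟶ _ => f.app U e) h).symm
  suffices IsIso φ from ⟨asIso φ⟩
  refine Amp73.isIso_of_frames φ fun x => ?_
  obtain ⟨W, hxW, -, e, he⟩ := Mero90.exists_affine_frame hL x ⊤ trivial
  refine ⟨FrobSch.frob X p ⁻¹ᵁ W.1, _, hxW, Amp73.isFrame_pullS (FrobSch.frob X p) hL he, ?_⟩
  rw [hφ]
  exact Amp73.isFrame_epow he p

theorem isFlat_of_lf {M : X.Modules} (h : FlatMod.IsFinLocFree M) : FlatMod.IsFlat M := fun x => by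
  obtain ⟨U, n, b, hx, hb⟩ := isFinLocFree_iff.mp h x
  have := hb.free_stalk x hx
  exact (inferInstance : Module.Flat (X.presheaf.stalk x) (M.presheaf.stalk x))

theorem iterate_shortExact {S : ShortComplex X.Modules} (hS : S.ShortExact) (h3 : FlatMod.IsFinLocFree S.X₃) :
    ∀ n : ℕ, ∃ (f : ((Scheme.Modules.pullback (FrobSch.frob X p)).obj)^[n] S.X₁ ⟶
        ((Scheme.Modules.pullback (FrobSch.frob X p)).obj)^[n] S.X₂)
      (g : ((Scheme.Modules.pullback (FrobSch.frob X p)).obj)^[n] S.X₂ ⟶
        ((Scheme.Modules.pullback (FrobSch.frob X p)).obj)^[n] S.X₃) (w : f ≫ g = 0),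
      (ShortComplex.mk f g w).ShortExact ∧
        FlatMod.IsFinLocFree (((Scheme.Modules.pullback (FrobSch.frob X p)).obj)^[n] S.X₃)
  | 0 => ⟨S.f, S.g, S.zero, hS, h3⟩
  | n + 1 => by
    obtain ⟨f, g, w, hT, h⟩ := iterate_shortExact hS h3 n
    rw [Function.iterate_succ', Function.comp_apply, Function.comp_apply, Function.comp_apply]
    have := DCK91.shortExact_pullback (FrobSch.frob X p) _ hT (isFlat_of_lf h)
    exact ⟨_, _, _, this, Strict99.isFinLocFree_pullback _ h⟩

theorem iterate_lf {E : X.Modules} (h : FlatMod.IsFinLocFree E) :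
    ∀ n : ℕ, FlatMod.IsFinLocFree (((Scheme.Modules.pullback (FrobSch.frob X p)).obj)^[n] E)
  | 0 => h
  | n + 1 => by
    rw [Function.iterate_succ', Function.comp_apply]
    exact Strict99.isFinLocFree_pullback _ (iterate_lf h n)

theorem iterate_line {L : X.Modules} (hL : PicF.IsInvertible L) : ∀ n : ℕ,
    ∃ M : X.Modules, PicF.IsInvertible M ∧ Nonempty (((Scheme.Modules.pullback (FrobSch.frob X p)).obj)^[n] L ≅ M) ∧
      ∀ {k : Type u} [Field k] [X.Over (Spec (CommRingCat.of k))] [IsIntegral X], Cur k X →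
        dg k M = (p : ℤ) ^ n * dg k L
  | 0 => ⟨L, hL, ⟨Iso.refl _⟩, fun _ => by simp⟩
  | n + 1 => by
    obtain ⟨M, hM, ⟨i⟩, d⟩ := iterate_line hL n
    obtain ⟨j⟩ := nonempty_frob_pullback p hM
    refine ⟨CohB1.tensorPow M p, EGA73.isInvertible_tensorPow hM p, ⟨?_⟩, fun h => ?_⟩
    · rw [Function.iterate_succ', Function.comp_apply]
      exact (Scheme.Modules.pullback (FrobSch.frob X p)).mapIso i ≪≫ j
    · rw [h.dg_tensorPow hM p, d h, pow_succ]; ring

variable {k : Type u} [Field k] [X.Over (Spec (CommRingCat.of k))] [IsIntegral X]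

section Setup

variable (hS : CrvPic30.Setup k X)
include hS

theorem finrank_h0_line_le [IsAlgClosed k] {M : X.Modules} (hM : PicF.IsInvertible M) :
    Module.finrank k (Coh.HH X M 0) ≤ (dg k M).natAbs + 1 := by
  have h := cur_of_setup hS
  obtain ⟨l, r⟩ := lf_of_isInvertible hM
  have := finrank_h0_le_of_ss hS l (h.ss_of_st l (h.st_line r)) ((dg k M).natAbs + 1) (by rw [r]; push_cast; linarith [le_abs_self (dg k M)])
  rwa [r, one_mul] at this

theorem exists_frob_bound [IsAlgClosed k] {E : X.Modules} (hE : FlatMod.IsFinLocFree E) {N : X.Modules}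
    (hN : PicF.IsInvertible N) : ∃ C : ℕ, ∀ n : ℕ,
      Module.finrank k (Coh.HH X (CohB1.tensorMod (((Scheme.Modules.pullback (FrobSch.frob X p)).obj)^[n] E) N) 0) ≤
        C * p ^ n := by
  have h := cur_of_setup hS
  have := h.isNoetherian
  have hp : ∀ n, 1 ≤ p ^ n := fun n => Nat.one_le_pow _ _ (Fact.out : p.Prime).pos
  induction hn : rk E generalizing E with
  | zero =>
    have hz := h.isZero_of_rk_eq_zero hE hn
    refine ⟨0, fun n => ?_⟩
    have hz' : IsZero (((Scheme.Modules.pullback (FrobSch.frob X p)).obj)^[n] E) := by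
      induction n with
      | zero => exact hz
      | succ n ih =>
        rw [Function.iterate_succ', Function.comp_apply]
        have := (Scheme.Modules.pullbackPushforwardAdjunction (FrobSch.frob X p)).left_adjoint_additive
        exact Functor.map_isZero _ ih
    have hl := iterate_lf p hE n
    have hsub := ValVan29.subsingleton_hh_of_isZero (ValVan29.isZero_tensorMod hz' hN) 0
    rw [Module.finrank_zero_of_subsingleton (R := k)]
    exact Nat.zero_le _
  | succ m ih =>
    obtain ⟨S, hS', rfl, h1, h3, hr⟩ := h.exists_line_sub hE hn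
    obtain ⟨C, hC⟩ := ih h3 hr
    refine ⟨C + ((dg k S.X₁).natAbs + ((dg k N).natAbs + 1)), fun n => ?_⟩
    obtain ⟨f, g, w, hT, l3⟩ := iterate_shortExact p hS' h3 n
    obtain ⟨w', hw⟩ := shortExact_twMap hN hT
    obtain ⟨M, hM, ⟨i⟩, d⟩ := iterate_line p h1 n
    have hb := hC n
    have ha := finrank_h0_line_le hS (EGA73.isInvertible_tensorMod hM hN)
    rw [h.dg_invertible_tensor hM hN, d h] at ha
    have ha' : Module.finrank k (Coh.HH X (CohB1.tensorMod
        (((Scheme.Modules.pullback (FrobSch.frob X p)).obj)^[n] S.X₁) N) 0) ≤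
        p ^ n * (dg k S.X₁).natAbs + (dg k N).natAbs + 1 := by
      rw [(Crv77.hEquiv k (EGA73.tensIso i (Iso.refl N)) 0).finrank_eq]
      refine ha.trans ?_
      have := Int.natAbs_add_le ((p : ℤ) ^ n * dg k S.X₁) (dg k N)
      rw [Int.natAbs_mul, Int.natAbs_pow, Int.natAbs_natCast] at this
      omega
    have := h.curveCoh.finite _ (isCoh_of_isFinLocFree (h.tensor_invertible (iterate_lf p hE n) hN).1) 0
    have hex := Crv77.exact_f_g k hw 0
    have e : Module.finrank k (Coh.HH X (CohB1.tensorMod
        (((Scheme.Modules.pullback (FrobSch.frob X p)).obj)^[n] S.X₂) N) 0) ≤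
        Module.finrank k (Coh.HH X (CohB1.tensorMod (((Scheme.Modules.pullback (FrobSch.frob X p)).obj)^[n] S.X₁) N) 0) +
        Module.finrank k (Coh.HH X (CohB1.tensorMod (((Scheme.Modules.pullback (FrobSch.frob X p)).obj)^[n] S.X₃) N) 0) := by
      have := h.curveCoh.finite _ (isCoh_of_isFinLocFree (h.tensor_invertible (iterate_lf p h3 n) hN).1) 0
      have := h.curveCoh.finite _
        (isCoh_of_isFinLocFree (h.tensor_invertible (iterate_lf p (lf_of_isInvertible h1).1 n) hN).1) 0
      let α := Crv77.hmap k (twMap f N) 0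
      let β := Crv77.hmap k (twMap g N) 0
      rw [← β.finrank_range_add_finrank_ker, LinearMap.exact_iff.1 (show Function.Exact α β from hex), add_comm]
      exact Nat.add_le_add α.finrank_range_le β.range.finrank_le
    refine e.trans ((Nat.add_le_add ha' hb).trans ?_)
    nlinarith [hp n, Nat.zero_le ((dg k N).natAbs)]

end Setup

end Groth.Agent.VB30

end
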