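import Groth.Agent.VB30.Sum
import Groth.Agent.Mero90.Frames

/-! Destabilising subsheaves, bounds, rank two. -/

set_option autoImplicit false
set_option linter.style.haveILetI false
set_option linter.unusedSectionVars false
set_option backward.isDefEq.respectTransparency.types false

noncomputable section

universe u

open CategoryTheory CategoryTheory.Limits AlgebraicGeometry TopologicalSpace Opposite
open Groth.Agent.QC70 Groth.Agent.Props58.LocFree

namespace Groth.Agent.VB30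

variable {k : Type u} [Field k] {X : Scheme.{u}} [X.Over (Spec (CommRingCat.of k))] [IsIntegral X]

theorem lf_of_isInvertible {L : X.Modules} (hL : PicF.IsInvertible L) :
    FlatMod.IsFinLocFree L ∧ rk L = 1 :=
  have h := Mero90.isFinLocFreeOfRank_of_isInvertible hL
  ⟨isFinLocFree_of_rank h, rk_eq_of_isFinLocFreeOfRank h⟩

theorem deg_eq_dg_of_isInvertible {L : X.Modules} (hL : PicF.IsInvertible L) :
    Curv2.deg k X L 1 = dg k L :=
  deg_eq_dg (Mero90.isFinLocFreeOfRank_of_isInvertible hL)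

/-- Stability with non-isomorphisms as proper submodules. -/
theorem st_of_slope' {E : X.Modules} {r : ℕ} (hE : FlatMod.IsFinLocFreeOfRank r E)
    (h : ∀ (G : X.Modules) (r' : ℕ) (i : G ⟶ E), Mono i → 0 < r' → FlatMod.IsFinLocFreeOfRank r' G →
      (¬ IsIso i) → Curv2.deg k X G r' * (r : ℤ) < Curv2.deg k X E r * (r' : ℤ)) : St k E :=
  st_of_slope hE fun F r' i hi h0 hlt hF => h F r' i hi h0 hF fun hiso => by
    have := rk_congr (asIso i)
    rw [rk_eq_of_isFinLocFreeOfRank hF, rk_eq_of_isFinLocFreeOfRank hE] at this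
    omega

theorem mono_fac_iso {M M' E : X.Modules} {i : M ⟶ E} {i' : M' ⟶ E} [Mono i] [Mono i'] (a : M ⟶ M')
    (b : M' ⟶ M) (ha : a ≫ i' = i) (hb : b ≫ i = i') : ∃ φ : M ≅ M', φ.hom ≫ i' = i :=
  ⟨⟨a, b, by rw [← cancel_mono i, Category.assoc, hb, ha, Category.id_comp],
    by rw [← cancel_mono i', Category.assoc, ha, hb, Category.id_comp]⟩, ha⟩

theorem exists_fac {N A B : X.Modules} (i : A ⟶ B) [Mono i] (f : N ⟶ B) (hf : f ≫ cokernel.π i = 0) :
    ∃ a : N ⟶ A, a ≫ i = f :=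
  ⟨_, (Abelian.monoLift_comp i f hf)⟩

theorem shortExact_cokernel {A B : X.Modules} (i : A ⟶ B) [Mono i] :
    (ShortComplex.mk i (cokernel.π i) (cokernel.condition i)).ShortExact :=
  { exact := ShortComplex.exact_of_g_is_cokernel _ (cokernelIsCokernel _) }

namespace Cur

variable (h : Cur k X)
include h

theorem rk_cokernel {A B : X.Modules} (i : A ⟶ B) [Mono i] (hA : Coh.IsCoh A) (hB : Coh.IsCoh B) :
    rk B = rk A + rk (cokernel i) ∧ dg k B = dg k A + dg k (cokernel i) := by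
  have a := h.rk_add (shortExact_cokernel i) hB
  have b := h.dg_add (shortExact_cokernel i) hA hB
  exact ⟨a, b⟩

theorem bddAbove_dg {E : X.Modules} (hE : FlatMod.IsFinLocFree E) :
    ∃ N : ℤ, ∀ (G : X.Modules) (i : G ⟶ E), Mono i → Coh.IsCoh G → dg k G ≤ N := by
  refine ⟨Module.finrank k (Coh.HH X E 0) + (rk E : ℤ) * |Curv2.euler k X (Coh.structureModule X)|,
    fun G i hi hG => ?_⟩
  have := h.dg_le_h0 i hG (isCoh_of_isFinLocFree hE)
  have hr : (rk G : ℤ) ≤ rk E := by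
    have := (isCoh_of_isFinLocFree hE).2
    exact_mod_cast rk_le_of_mono i
  have h1 := mul_le_mul_of_nonneg_right hr (abs_nonneg (Curv2.euler k X (Coh.structureModule X)))
  have h2 := mul_le_mul_of_nonneg_left (neg_le_abs (Curv2.euler k X (Coh.structureModule X)))
    (Int.natCast_nonneg (rk G))
  linarith

set_option maxHeartbeats 1000000 in
/-- The maximal destabilising submodule. -/
theorem exists_max {E : X.Modules} (hE : FlatMod.IsFinLocFree E) (h0 : 0 < rk E) :
    ∃ (E₁ : X.Modules) (i₁ : E₁ ⟶ E), Mono i₁ ∧ FlatMod.IsFinLocFree E₁ ∧ 0 < rk E₁ ∧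
      (∀ (G : X.Modules) (i : G ⟶ E), Mono i → 0 < rk G → FlatMod.IsFinLocFree G →
        dg k G * rk E₁ ≤ dg k E₁ * rk G) ∧
      (∀ (G : X.Modules) (i : G ⟶ E), Mono i → 0 < rk G → FlatMod.IsFinLocFree G →
        dg k G * rk E₁ = dg k E₁ * rk G → rk G ≤ rk E₁) := by
  classical
  have := (isCoh_of_isFinLocFree hE).2
  obtain ⟨N, hN⟩ := h.bddAbove_dg hE
  let P : ℕ → ℤ → Prop := fun n d => ∃ (G : X.Modules) (i : G ⟶ E), Mono i ∧ FlatMod.IsFinLocFree G ∧
    rk G = n ∧ dg k G = d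
  have hb : ∀ n, ∃ b : ℤ, ∀ d, P n d → d ≤ b := fun n => ⟨N, fun d ⟨G, i, hi, hG, _, hd⟩ =>
    hd ▸ hN G i hi (isCoh_of_isFinLocFree hG)⟩
  let s : Finset ℕ := (Finset.Icc 1 (rk E)).filter fun n => ∃ d, P n d
  have hs : rk E ∈ s :=
    Finset.mem_filter.2 ⟨Finset.mem_Icc.2 ⟨h0, le_rfl⟩, _, E, 𝟙 E, inferInstance, hE, rfl, rfl⟩
  let m : ℕ → ℤ := fun n => if hn : ∃ d, P n d then (Int.exists_greatest_of_bdd (hb n) hn).choose else 0
  have hm : ∀ n, (∃ d, P n d) → P n (m n) ∧ ∀ d, P n d → d ≤ m n := fun n hn => by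
    simp only [m, dif_pos hn]
    exact (Int.exists_greatest_of_bdd (hb n) hn).choose_spec
  obtain ⟨n, hn, hmax⟩ := s.exists_max_image (fun n => toLex ((m n : ℚ) / n, n)) ⟨_, hs⟩
  obtain ⟨hn1, hnd⟩ := Finset.mem_filter.1 hn
  obtain ⟨hn1, -⟩ := Finset.mem_Icc.1 hn1
  obtain ⟨⟨E₁, i₁, hi₁, hE₁, hr₁, hd₁⟩, -⟩ := hm n hnd
  have key : ∀ (G : X.Modules) (i : G ⟶ E), Mono i → 0 < rk G → FlatMod.IsFinLocFree G →
      rk G ∈ s ∧ dg k G ≤ m (rk G) := fun G i hi hG0 hG =>
    have hP : ∃ d, P (rk G) d := ⟨_, G, i, hi, hG, rfl, rfl⟩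
    ⟨Finset.mem_filter.2 ⟨Finset.mem_Icc.2 ⟨hG0, rk_le_of_mono i⟩, hP⟩,
      (hm _ hP).2 _ ⟨G, i, hi, hG, rfl, rfl⟩⟩
  have hnq : (0 : ℚ) < n := by exact_mod_cast hn1
  refine ⟨E₁, i₁, hi₁, hE₁, by omega, fun G i hi hG0 hG => ?_, fun G i hi hG0 hG he => ?_⟩
  all_goals
    obtain ⟨hs', hle⟩ := key G i hi hG0 hG
    have hGq : (0 : ℚ) < rk G := by exact_mod_cast hG0
    have hleq : (dg k G : ℚ) ≤ m (rk G) := by exact_mod_cast hle
    rw [hr₁, hd₁] at *
  · rcases Prod.Lex.le_iff.1 (hmax _ hs') with h1 | ⟨h1, -⟩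
    · simp only [ofLex_toLex] at h1
      rw [div_lt_div_iff₀ hGq hnq] at h1
      have : (dg k G : ℚ) * n ≤ m n * rk G := by nlinarith
      exact_mod_cast this
    · simp only [ofLex_toLex] at h1
      rw [div_eq_div_iff hGq.ne' hnq.ne'] at h1
      have : (dg k G : ℚ) * n ≤ m n * rk G := by nlinarith
      exact_mod_cast this
  · rcases Prod.Lex.le_iff.1 (hmax _ hs') with h1 | ⟨-, h2⟩
    · simp only [ofLex_toLex] at h1
      rw [div_lt_div_iff₀ hGq hnq] at h1
      have : (dg k G : ℚ) * n = m n * rk G := by exact_mod_cast he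
      nlinarith
    · exact h2

theorem ss_of_max {E E₁ : X.Modules} (i₁ : E₁ ⟶ E) [Mono i₁]
    (hmax : ∀ (G : X.Modules) (i : G ⟶ E), Mono i → 0 < rk G → FlatMod.IsFinLocFree G →
      dg k G * rk E₁ ≤ dg k E₁ * rk G) : SS k E₁ :=
  fun G i hi h0 hG => hmax G (i ≫ i₁) (mono_comp _ _) h0 hG

/-- A submodule of maximal slope has a locally free quotient. -/
theorem isFinLocFree_cokernel_of_max {E E₁ : X.Modules} (i₁ : E₁ ⟶ E) [Mono i₁] (hE : FlatMod.IsFinLocFree E)
    (hE₁ : FlatMod.IsFinLocFree E₁) (h0 : 0 < rk E₁)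
    (hmax : ∀ (G : X.Modules) (i : G ⟶ E), Mono i → 0 < rk G → FlatMod.IsFinLocFree G →
      dg k G * rk E₁ ≤ dg k E₁ * rk G) : FlatMod.IsFinLocFree (cokernel i₁) := by
  obtain ⟨G', i', a, hi', ha, hfac, hG', hQ, hr, hd⟩ :=
    h.exists_saturation i₁ (isCoh_of_isFinLocFree hE₁) hE
  have h1 := hmax G' i' hi' (by omega) hG'
  rw [hr] at h1
  have := h.isIso_of_rk_eq a (isCoh_of_isFinLocFree hE₁) (isCoh_of_isFinLocFree hG') hr.symm
    (le_of_mul_le_mul_right h1 (by exact_mod_cast h0))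
  have e : cokernel i' ≅ cokernel i₁ :=
    cokernel.mapIso i' i₁ (asIso a).symm (Iso.refl E)
      (by simp only [Iso.refl_hom, Category.comp_id, Iso.symm_hom, asIso_inv, IsIso.eq_inv_comp, hfac])
  exact h.isFinLocFree_of_isTF (QC70.isCoh_of_iso e (isCoh_of_isFinLocFree hQ))
    ((isTF_of_isFinLocFree hQ).of_mono e.inv)

theorem rk_image_eq_zero_or {E F : X.Modules} (f : E ⟶ F) (hE : FlatMod.IsFinLocFree E)
    (hF : FlatMod.IsFinLocFree F) (h1 : rk E = 1) : f = 0 ∨ Mono f := by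
  obtain ⟨K, I, i, p, j, hi, hp, hj, -, -, -, -, hr, -, hm, hz⟩ := h.exists_ker_im f hE hF
  rcases Nat.eq_zero_or_pos (rk I) with h0 | h0
  · exact Or.inl (hz h0)
  · exact Or.inr (hm (by omega))

theorem line_hom {E F : X.Modules} (f : E ⟶ F) (hE : FlatMod.IsFinLocFree E)
    (hF : FlatMod.IsFinLocFree F) (h1 : rk E = 1) (h2 : rk F = 1) : f = 0 ∨ dg k E ≤ dg k F := by
  rcases h.rk_image_eq_zero_or f hE hF h1 with h0 | h0
  · exact Or.inl h0
  · exact Or.inr (h.dg_le_of_mono f (isCoh_of_isFinLocFree hE) (isCoh_of_isFinLocFree hF) (h1.trans h2.symm)).1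

end Cur

end Groth.Agent.VB30

namespace Groth.Agent.VB30

variable {k : Type u} [Field k] {X : Scheme.{u}} [X.Over (Spec (CommRingCat.of k))] [IsIntegral X]

theorem rk_eq_zero_of_isZero {M : X.Modules} (hz : IsZero M) : rk M = 0 := by
  have : Subsingleton (gst M) := subsingleton_of_forall_eq 0 fun e => by
    obtain ⟨W, hW, s, rfl⟩ := germM_exist e
    have := congrArg (fun f => stalkMapM f (genericPoint X) (germM M W _ hW s)) (hz.eq_of_src (𝟙 M) 0)
    rwa [stalkMapM_id, stalkMapM_zero] at this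
  exact Module.finrank_zero_of_subsingleton

theorem isIntegral_nonempty_gst {E : X.Modules} {r : ℕ} (hE : FlatMod.IsFinLocFreeOfRank r E)
    (hr : 0 < r) (hz : IsZero E) : False := by
  have := rk_eq_zero_of_isZero hz
  rw [rk_eq_of_isFinLocFreeOfRank hE] at this
  omega

theorem not_mono_zero {E F : X.Modules} (hE : FlatMod.IsFinLocFree E) (hr : 0 < rk E)
    (hm : Mono (0 : E ⟶ F)) : False := by
  have := rk_eq_zero_of_isZero (IsZero.of_mono_zero E F)
  omega

theorem Cur.one_le_h0 (h : Cur k X) : 1 ≤ Module.finrank k (Coh.HH X (Coh.structureModule X) 0) := by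
  have := h.curveCoh.finite _ Crv77.isCoh_structureModule 0
  have : Nonempty (⊤ : X.Opens) := ⟨⟨genericPoint X, trivial⟩⟩
  have : Nontrivial Γ(Coh.structureModule X, ⊤) := inferInstanceAs (Nontrivial Γ(X, ⊤))
  have : Nontrivial (Coh.HH X (Coh.structureModule X) 0) :=
    (Crv77.sec (Coh.structureModule X)).toEquiv.nontrivial
  exact Module.finrank_pos

end Groth.Agent.VB30

namespace Groth.Agent.VB30.Cur

variable {k : Type u} [Field k] {X : Scheme.{u}} [X.Over (Spec (CommRingCat.of k))] [IsIntegral X]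
variable (h : Cur k X)
include h

/-- From quotient slopes to submodule slopes. -/
theorem sub_of_quot {E : X.Modules} (hE : FlatMod.IsFinLocFree E)
    (hq : ∀ (Q : X.Modules) (p : E ⟶ Q), Epi p → 0 < rk Q → FlatMod.IsFinLocFree Q → rk Q < rk E →
      dg k E * rk Q ≤ dg k Q * rk E)
    (G : X.Modules) (i : G ⟶ E) (hi : Mono i) (hG : FlatMod.IsFinLocFree G) (h0 : 0 < rk G) :
    dg k G * rk E ≤ dg k E * rk G := by
  obtain ⟨G', i', a, hi', ha, -, hG', hQ, hr, hd⟩ := h.exists_saturation i (isCoh_of_isFinLocFree hG) hE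
  obtain ⟨r1, d1⟩ := h.rk_cokernel i' (isCoh_of_isFinLocFree hG') (isCoh_of_isFinLocFree hE)
  have h1 := mul_le_mul_of_nonneg_right hd (Int.natCast_nonneg (rk E))
  rcases Nat.eq_zero_or_pos (rk (cokernel i')) with z | z
  · have h2 := h.dg_of_rk_zero hQ z
    have hrE : rk G = rk E := by omega
    rw [hrE]
    exact mul_le_mul_of_nonneg_right (by omega) (Int.natCast_nonneg _)
  · have h2 := hq _ (cokernel.π i') inferInstance z hQ (by omega)
    rw [d1, r1, hr] at *
    push_cast at *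
    nlinarith

theorem sub_of_quot_strict {E : X.Modules} (hE : FlatMod.IsFinLocFree E)
    (hq : ∀ (Q : X.Modules) (p : E ⟶ Q), Epi p → 0 < rk Q → FlatMod.IsFinLocFree Q → ¬ IsIso p →
      dg k E * rk Q < dg k Q * rk E)
    (G : X.Modules) (i : G ⟶ E) (hi : Mono i) (hG : FlatMod.IsFinLocFree G) (h0 : 0 < rk G)
    (hni : ¬ IsIso i) : dg k G * rk E < dg k E * rk G := by
  have hEc := isCoh_of_isFinLocFree hE
  have hGc := isCoh_of_isFinLocFree hG
  obtain ⟨G', i', a, hi', ha, -, hG', hQ, hr, hd⟩ := h.exists_saturation i hGc hE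
  obtain ⟨r1, d1⟩ := h.rk_cokernel i' (isCoh_of_isFinLocFree hG') hEc
  rcases Nat.eq_zero_or_pos (rk (cokernel i')) with z | z
  · have hrE : rk G = rk E := by omega
    obtain ⟨hle, heq⟩ := h.dg_le_of_mono i hGc hEc hrE
    have hlt : dg k G < dg k E := lt_of_le_of_ne hle fun he => hni (heq he)
    rw [hrE] at h0 ⊢
    exact mul_lt_mul_of_pos_right hlt (by exact_mod_cast h0)
  · have hp : ¬ IsIso (cokernel.π i') := fun hp => by
      have := rk_congr (asIso (cokernel.π i'))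
      omega
    have h2 := hq _ (cokernel.π i') inferInstance z hQ hp
    have h1 := mul_le_mul_of_nonneg_right hd (Int.natCast_nonneg (rk E))
    rw [d1, r1, hr] at *
    push_cast at *
    nlinarith

/-- The maximal slope drops strictly in the quotient. -/
theorem quot_slope_lt {E E₁ : X.Modules} (i₁ : E₁ ⟶ E) [Mono i₁] (hE : FlatMod.IsFinLocFree E)
    (hE₁ : FlatMod.IsFinLocFree E₁) (h0 : 0 < rk E₁)
    (hmax : ∀ (G : X.Modules) (i : G ⟶ E), Mono i → 0 < rk G → FlatMod.IsFinLocFree G →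
      dg k G * rk E₁ ≤ dg k E₁ * rk G)
    (hrk : ∀ (G : X.Modules) (i : G ⟶ E), Mono i → 0 < rk G → FlatMod.IsFinLocFree G →
      dg k G * rk E₁ = dg k E₁ * rk G → rk G ≤ rk E₁)
    {Q : X.Modules} (j : Q ⟶ cokernel i₁) [Mono j] (hQ : FlatMod.IsFinLocFree Q) (hQ0 : 0 < rk Q) :
    dg k Q * rk E₁ < dg k E₁ * rk Q := by
  have hC := h.isFinLocFree_cokernel_of_max i₁ hE hE₁ h0 hmax
  obtain ⟨G, i, hi, hG, hr, hd⟩ :=
    h.exists_preimage (shortExact_cokernel i₁) hE₁ hE hC j (isCoh_of_isFinLocFree hQ)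
  dsimp only at hr hd
  have a := hmax G i hi (by omega) hG
  have b : dg k G * rk E₁ ≠ dg k E₁ * rk G := fun he => by
    have := hrk G i hi (by omega) hG he
    omega
  have c := lt_of_le_of_ne a b
  rw [hd, hr] at c
  push_cast at c
  linarith

theorem fac_of_max {E E₁ E₂ : X.Modules} (i₁ : E₁ ⟶ E) (i₂ : E₂ ⟶ E) [Mono i₁] [Mono i₂]
    (hE : FlatMod.IsFinLocFree E) (hE₁ : FlatMod.IsFinLocFree E₁) (hE₂ : FlatMod.IsFinLocFree E₂)
    (h₁ : 0 < rk E₁) (h₂ : 0 < rk E₂)
    (hm₁ : ∀ (G : X.Modules) (i : G ⟶ E), Mono i → 0 < rk G → FlatMod.IsFinLocFree G →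
      dg k G * rk E₁ ≤ dg k E₁ * rk G)
    (hm₂ : ∀ (G : X.Modules) (i : G ⟶ E), Mono i → 0 < rk G → FlatMod.IsFinLocFree G →
      dg k G * rk E₂ ≤ dg k E₂ * rk G)
    (hq : ∀ (Q : X.Modules) (j : Q ⟶ cokernel i₂), Mono j → 0 < rk Q → FlatMod.IsFinLocFree Q →
      dg k Q * rk E₂ < dg k E₂ * rk Q) :
    ∃ a : E₁ ⟶ E₂, a ≫ i₂ = i₁ := by
  refine exists_fac i₂ i₁ ?_
  by_contra hne
  have hC := h.isFinLocFree_cokernel_of_max i₂ hE hE₂ h₂ hm₂
  obtain ⟨I, j, hj, hI, hI0, -, -, hd, -, -⟩ :=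
    h.exists_image _ hne hE₁ hC (h.ss_of_max i₁ hm₁)
  have a := hq I j hj hI0 hI
  have b := hm₁ E₂ i₂ inferInstance h₂ hE₂
  have p1 : (0 : ℤ) < rk E₁ := by exact_mod_cast h₁
  have p2 : (0 : ℤ) < rk E₂ := by exact_mod_cast h₂
  have p3 : (0 : ℤ) ≤ rk I := Int.natCast_nonneg _
  nlinarith [mul_le_mul_of_nonneg_right hd p2.le, mul_le_mul_of_nonneg_right b p3,
    mul_lt_mul_of_pos_right a p1]

set_option maxHeartbeats 1000000 in
/-- Semistable bundles of a fixed slope have semistable kernels and cokernels. -/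
theorem kernel_cokernel_ss {E F : X.Modules} (hE : FlatMod.IsFinLocFree E) (hF : FlatMod.IsFinLocFree F)
    (hE0 : 0 < rk E) (hF0 : 0 < rk F) (hEs : SS k E) (hFs : SS k F)
    (hμ : dg k E * rk F = dg k F * rk E) (f : E ⟶ F) :
    (FlatMod.IsFinLocFree (kernel f) ∧ dg k (kernel f) * rk E = dg k E * rk (kernel f) ∧ SS k (kernel f)) ∧
      (FlatMod.IsFinLocFree (cokernel f) ∧ dg k (cokernel f) * rk F = dg k F * rk (cokernel f) ∧
        SS k (cokernel f)) := by
  have hEc := isCoh_of_isFinLocFree hE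
  have hFc := isCoh_of_isFinLocFree hF
  have hKc := h.isCoh_kernel f hEc hFc
  have hK := h.isFinLocFree_of_mono (kernel.ι f) hKc hE
  have hIc : Coh.IsCoh (Abelian.image f) := h.isCoh_kernel _ hFc (h.isCoh_cokernel f hEc hFc)
  have hI := h.isFinLocFree_of_mono (Abelian.image.ι f) hIc hF
  obtain ⟨w, hS⟩ := shortExact_kerImage f
  have r1 := h.rk_add hS hEc
  have d1 := h.dg_add hS hKc hEc
  dsimp only at r1 d1
  have pE : (0 : ℤ) < rk E := by exact_mod_cast hE0
  have pF : (0 : ℤ) < rk F := by exact_mod_cast hF0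
  have a1 : dg k (kernel f) * rk E ≤ dg k E * rk (kernel f) := by
    rcases Nat.eq_zero_or_pos (rk (kernel f)) with z | z
    · rw [h.dg_of_rk_zero hK z, z]; simp
    · exact hEs _ (kernel.ι f) inferInstance z hK
  have a2 : ∀ (G : X.Modules) (i : G ⟶ F), Mono i → FlatMod.IsFinLocFree G →
      dg k G * rk F ≤ dg k F * rk G := fun G i hi hG => by
    rcases Nat.eq_zero_or_pos (rk G) with z | z
    · rw [h.dg_of_rk_zero hG z, z]; simp
    · exact hFs G i hi z hG
  have a3 := a2 _ (Abelian.image.ι f) inferInstance hI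
  have a4 : dg k E * rk (Abelian.image f) ≤ dg k (Abelian.image f) * rk E := by
    rw [d1, r1] at a1 ⊢
    push_cast at a1 ⊢
    linarith
  have a5 : dg k (Abelian.image f) * rk F = dg k F * rk (Abelian.image f) := by
    refine le_antisymm a3 (le_of_mul_le_mul_right ?_ pE)
    calc dg k F * rk (Abelian.image f) * rk E = dg k F * rk E * rk (Abelian.image f) := by ring
      _ = dg k E * rk (Abelian.image f) * rk F := by rw [← hμ]; ring
      _ ≤ dg k (Abelian.image f) * rk E * rk F := mul_le_mul_of_nonneg_right a4 pF.le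
      _ = dg k (Abelian.image f) * rk F * rk E := by ring
  have a6 : dg k (Abelian.image f) * rk E = dg k E * rk (Abelian.image f) := by
    refine mul_right_cancel₀ pF.ne' ?_
    calc dg k (Abelian.image f) * rk E * rk F = dg k (Abelian.image f) * rk F * rk E := by ring
      _ = dg k F * rk E * rk (Abelian.image f) := by rw [a5]; ring
      _ = dg k E * rk (Abelian.image f) * rk F := by rw [← hμ]; ring
  refine ⟨⟨hK, ?_, fun G i hi h0 hG => ?_⟩, ?_⟩
  · rw [d1, r1] at *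
    push_cast at *
    linarith
  · have b := hEs G (i ≫ kernel.ι f) (mono_comp _ _) h0 hG
    have c : dg k (kernel f) * rk E = dg k E * rk (kernel f) := by
      rw [d1, r1] at *
      push_cast at *
      linarith
    refine le_of_mul_le_mul_right ?_ pE
    calc dg k G * rk (kernel f) * rk E = dg k G * rk E * rk (kernel f) := by ring
      _ ≤ dg k E * rk G * rk (kernel f) := mul_le_mul_of_nonneg_right b (Int.natCast_nonneg _)
      _ = dg k E * rk (kernel f) * rk G := by ring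
      _ = dg k (kernel f) * rk G * rk E := by rw [← c]; ring
  -- the image is saturated
  obtain ⟨G', i', a, hi', ha, hfac, hG', hQ', hr, hd⟩ := h.exists_saturation (Abelian.image.ι f) hIc hF
  have a7 := a2 G' i' hi' hG'
  rw [hr, ← a5] at a7
  have := h.isIso_of_rk_eq a hIc (isCoh_of_isFinLocFree hG') hr.symm (le_of_mul_le_mul_right a7 pF)
  let e₁ : cokernel i' ≅ cokernel (Abelian.image.ι f) :=
    cokernel.mapIso i' (Abelian.image.ι f) (asIso a).symm (Iso.refl F)
      (by simp only [Iso.refl_hom, Category.comp_id, Iso.symm_hom, asIso_inv, IsIso.eq_inv_comp, hfac])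
  let e₂ : cokernel f ≅ cokernel (Abelian.image.ι f) :=
    (cokernelIsCokernel f).coconePointUniqueUpToIso
      (isCokernelEpiComp (cokernelIsCokernel (Abelian.image.ι f)) (Abelian.factorThruImage f)
        (Abelian.image.fac f).symm)
  let e : cokernel i' ≅ cokernel f := e₁ ≪≫ e₂.symm
  have hCc := h.isCoh_cokernel f hEc hFc
  have hC : FlatMod.IsFinLocFree (cokernel f) :=
    h.isFinLocFree_of_isTF hCc ((isTF_of_isFinLocFree hQ').of_mono e.inv)
  obtain ⟨r2, d2⟩ := h.rk_cokernel i' (isCoh_of_isFinLocFree hG') hFc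
  have hd' : dg k G' = dg k (Abelian.image f) := (dg_congr (asIso a)).symm
  rw [rk_congr e, hr] at r2
  rw [dg_congr e, hd'] at d2
  have c : dg k (cokernel f) * rk F = dg k F * rk (cokernel f) := by
    have a5' := a5
    rw [d2, r2] at a5' ⊢
    push_cast at a5' ⊢
    linarith
  refine ⟨hC, c, fun Q j hj h0 hQ => ?_⟩
  have hj' : Mono (j ≫ e.inv) := mono_comp _ _
  obtain ⟨G, i, hi, hG, rG, dG⟩ :=
    h.exists_preimage (shortExact_cokernel i') hG' hF hQ' (j ≫ e.inv) (isCoh_of_isFinLocFree hQ)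
  dsimp only at rG dG
  have b := a2 G i hi hG
  rw [rG, dG, hr, hd'] at b
  push_cast at b
  have b' : dg k Q * rk F ≤ dg k F * rk Q := by linarith
  refine le_of_mul_le_mul_right ?_ pF
  calc dg k Q * rk (cokernel f) * rk F = dg k Q * rk F * rk (cokernel f) := by ring
    _ ≤ dg k F * rk Q * rk (cokernel f) := mul_le_mul_of_nonneg_right b' (Int.natCast_nonneg _)
    _ = dg k F * rk (cokernel f) * rk Q := by ring
    _ = dg k (cokernel f) * rk Q * rk F := by rw [← c]; ring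

end Groth.Agent.VB30.Cur
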