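import Groth.Agent.Div89.FreeStalks
import Groth.Agent.Crv77.RR
import Groth.Agent.QC70.SubMod

/-! The generic stalk of a module on an integral scheme: torsion and rank. -/

set_option autoImplicit false
set_option linter.style.haveILetI false
set_option backward.isDefEq.respectTransparency.types false

noncomputable section

universe u

open CategoryTheory CategoryTheory.Limits AlgebraicGeometry TopologicalSpace Opposite
open Groth.Agent.QC70 Groth.Agent.Props58.LocFree

namespace Groth.Agent.VB30

variable {X : Scheme.{u}} [IsIntegral X]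

theorem gen_mem {U : X.Opens} {y : X} (hy : y ∈ U) : genericPoint X ∈ U :=
  (genericPoint_specializes y).mem_open U.2 hy

/-- The stalk at the generic point. -/
abbrev gst (M : X.Modules) := M.presheaf.stalk (genericPoint X)

instance gstModule (M : X.Modules) : Module X.functionField (gst M) :=
  FlatMod.moduleStalk M (genericPoint X)

/-- The germ at the generic point, from the stalk at any point. -/
def toGen (M : X.Modules) (x : X) : M.presheaf.stalk x →+ gst M :=
  (TopCat.Presheaf.stalkSpecializes M.presheaf (genericPoint_specializes x)).hom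

theorem toGen_germ (M : X.Modules) {U : X.Opens} {x : X} (hx : x ∈ U) (s : Γ(M, U)) :
    toGen M x (germM M U x hx s) = germM M U (genericPoint X) (gen_mem hx) s :=
  TopCat.Presheaf.germ_stalkSpecializes_apply M.presheaf hx (genericPoint_specializes x) s

/-- The restriction of scalars of `toGen`. -/
def toGenO (x : X) : X.presheaf.stalk x →+* X.functionField :=
  (X.presheaf.stalkSpecializes (genericPoint_specializes x)).hom

theorem toGenO_injective (x : X) : Function.Injective (toGenO x) := by
  refine (injective_iff_map_eq_zero _).2 fun r hr => ?_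
  obtain ⟨W, hxW, a, rfl⟩ := TopCat.Presheaf.exists_germ_eq X.presheaf r
  have h : X.presheaf.germ W (genericPoint X) (gen_mem hxW) a = 0 :=
    (TopCat.Presheaf.germ_stalkSpecializes_apply X.presheaf hxW (genericPoint_specializes x) a).symm.trans hr
  rw [germ_injective_of_isIntegral X (genericPoint X) (gen_mem hxW)
    (h.trans (map_zero (X.presheaf.germ W (genericPoint X) (gen_mem hxW)).hom).symm), map_zero]

theorem toGen_smul (M : X.Modules) (x : X) (r : X.presheaf.stalk x) (e : M.presheaf.stalk x) :
    toGen M x (r • e) = toGenO x r • toGen M x e := by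
  obtain ⟨W, hxW, s, rfl⟩ := germM_exist e
  obtain ⟨W', hxW', a, rfl⟩ := TopCat.Presheaf.exists_germ_eq X.presheaf r
  have h : x ∈ W ⊓ W' := ⟨hxW, hxW'⟩
  rw [← germM_res (inf_le_left : W ⊓ W' ≤ W) h s, ← germ_resO (inf_le_right : W ⊓ W' ≤ W') h a,
    ← germM_smul, toGen_germ, toGen_germ, germM_smul]
  exact congrArg (· • _)
    (TopCat.Presheaf.germ_stalkSpecializes_apply X.presheaf h (genericPoint_specializes x) _).symm

theorem toGen_stalkMapM {M N : X.Modules} (φ : M ⟶ N) (x : X) (e : M.presheaf.stalk x) :
    toGen N x (stalkMapM φ x e) = stalkMapM φ (genericPoint X) (toGen M x e) := by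
  obtain ⟨W, hxW, s, rfl⟩ := germM_exist e
  rw [stalkMapM_germ, toGen_germ, toGen_germ, stalkMapM_germ]

/-- No torsion: the germ at the generic point detects elements of stalks. -/
def IsTF (M : X.Modules) : Prop := ∀ x : X, Function.Injective (toGen M x)

theorem IsTF.of_mono {M N : X.Modules} (φ : M ⟶ N) [Mono φ] (h : IsTF N) : IsTF M := fun x a b e =>
  injective_stalkMapM_of_mono φ x (h x (by rw [toGen_stalkMapM, toGen_stalkMapM, e]))

theorem IsTF.noZeroSMulDivisors {M : X.Modules} (h : IsTF M) (x : X) :
    NoZeroSMulDivisors (X.presheaf.stalk x) (M.presheaf.stalk x) := ⟨fun {r e} hre => by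
  refine or_iff_not_imp_left.2 fun hr => h x ?_
  have h1 : toGenO x r • toGen M x e = 0 := by rw [← toGen_smul, hre, map_zero]
  rw [map_zero]
  exact (smul_eq_zero.1 h1).resolve_left fun h0 => hr (toGenO_injective x (h0.trans (map_zero _).symm))⟩

theorem isTF_of_isFinLocFree {M : X.Modules} (h : FlatMod.IsFinLocFree M) : IsTF M := fun x => by
  obtain ⟨U, n, s, hx, hs⟩ := isFinLocFree_iff.mp h x
  refine (injective_iff_map_eq_zero _).2 fun e he => ?_
  obtain ⟨c, rfl⟩ := (hs x hx).2 e
  have h0 : germComb s (genericPoint X) (gen_mem hx) (fun i => toGenO x (c i)) = 0 := by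
    rw [← he]
    simp only [germComb, map_sum, toGen_smul, toGen_germ]
  have h1 := (hs (genericPoint X) (gen_mem hx)).1 (h0.trans
    (show (0 : gst M) = germComb s (genericPoint X) (gen_mem hx) 0 by simp [germComb]))
  have hc : c = 0 := funext fun i => toGenO_injective x ((congrFun h1 i).trans (map_zero _).symm)
  simp [germComb, hc]

/-- The generic rank. -/
def rk (M : X.Modules) : ℕ := Module.finrank X.functionField (gst M)

/-- The generic stalk of a morphism. -/
def gmap {M N : X.Modules} (φ : M ⟶ N) : gst M →ₗ[X.functionField] gst N :=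
  stalkLinear φ (genericPoint X)

theorem gmap_apply {M N : X.Modules} (φ : M ⟶ N) (e : gst M) :
    gmap φ e = stalkMapM φ (genericPoint X) e := rfl

theorem finite_gst (M : X.Modules) [M.IsFiniteType] : Module.Finite X.functionField (gst M) :=
  finite_stalk_of_isFiniteType (M := M) (genericPoint X)

theorem rk_congr {M N : X.Modules} (e : M ≅ N) : rk M = rk N :=
  (LinearEquiv.ofBijective (gmap e.hom)
    ⟨injective_stalkMapM_of_mono e.hom _, surjective_stalkMapM_of_epi e.hom _⟩).finrank_eq

theorem rk_eq_of_isFinLocFreeOfRank {M : X.Modules} {n : ℕ} (h : FlatMod.IsFinLocFreeOfRank n M) :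
    rk M = n := by
  obtain ⟨U, hU, ⟨e⟩⟩ := h (genericPoint X)
  obtain ⟨s, hs⟩ := exists_stalkBasis_of_iso e
  have := (hs.stalkEquiv (genericPoint X) hU).finrank_eq
  rw [Module.finrank_fin_fun] at this
  exact this.symm

omit [IsIntegral X] in
theorem isFinLocFree_of_rank {M : X.Modules} {n : ℕ} (h : FlatMod.IsFinLocFreeOfRank n M) :
    FlatMod.IsFinLocFree M := fun x => by
  obtain ⟨U, hx, he⟩ := h x
  exact ⟨U, n, hx, he⟩

theorem isFinLocFreeOfRank_rk {M : X.Modules} (h : FlatMod.IsFinLocFree M) :
    FlatMod.IsFinLocFreeOfRank (rk M) M := fun x => by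
  obtain ⟨U, n, hx, ⟨e⟩⟩ := h x
  obtain ⟨s, hs⟩ := exists_stalkBasis_of_iso e
  have := (hs.stalkEquiv (genericPoint X) (gen_mem hx)).finrank_eq
  rw [Module.finrank_fin_fun] at this
  exact ⟨U, hx, ⟨e ≪≫ eqToIso (by rw [rk, ← this])⟩⟩

/-- Ranks add in short exact sequences. -/
theorem rk_add {S : ShortComplex X.Modules} (hS : S.ShortExact) [S.X₂.IsFiniteType] :
    rk S.X₂ = rk S.X₁ + rk S.X₃ := by
  have := hS.mono_f
  have := hS.epi_g
  have := finite_gst S.X₂
  have hs : Function.Surjective (gmap S.g) := surjective_stalkMapM_of_epi S.g _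
  have hi : Function.Injective (gmap S.f) := injective_stalkMapM_of_mono S.f _
  have hk : LinearMap.ker (gmap S.g) = LinearMap.range (gmap S.f) := by
    refine le_antisymm (fun e he => stalkMapM_exact S hS.exact _ e he) ?_
    rintro _ ⟨d, rfl⟩
    rw [LinearMap.mem_ker, gmap_apply, gmap_apply, ← stalkMapM_comp, S.zero, stalkMapM_zero]
  have h1 := (gmap S.g).finrank_range_add_finrank_ker
  rw [LinearMap.range_eq_top.2 hs, finrank_top, hk, LinearMap.finrank_range_of_inj hi] at h1
  unfold rk
  omega

theorem rk_eq_zero_iff {M : X.Modules} [M.IsFiniteType] : rk M = 0 ↔ Subsingleton (gst M) := by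
  have := finite_gst M
  exact Module.finrank_zero_iff

theorem rk_le_of_mono {M N : X.Modules} (φ : M ⟶ N) [Mono φ] [N.IsFiniteType] : rk M ≤ rk N := by
  have := finite_gst N
  exact LinearMap.finrank_le_finrank_of_injective (f := gmap φ) (injective_stalkMapM_of_mono φ _)

theorem rk_le_of_epi {M N : X.Modules} (φ : M ⟶ N) [Epi φ] [M.IsFiniteType] : rk N ≤ rk M := by
  have := finite_gst M
  exact LinearMap.finrank_le_finrank_of_surjective (f := gmap φ) (surjective_stalkMapM_of_epi φ _)

/-- The sections killed at the generic point. -/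
def torsion (M : X.Modules) : LocalSubmod M where
  obj V :=
    { carrier := {s | ∀ hη : genericPoint X ∈ V, germM M V _ hη s = 0}
      add_mem' := fun {a b} ha hb hη => by rw [germM_add, ha hη, hb hη, add_zero]
      zero_mem' := fun hη => germM_zero hη
      smul_mem' := fun c s hs hη => by rw [germM_smul, hs hη, smul_zero] }
  res_mem {V W} h s hs hη := by rw [germM_res]; exact hs (h hη)
  of_locally {V} s h hη := by
    obtain ⟨W, hW, hηW, hs⟩ := h _ hη
    rw [← germM_res hW hηW s]
    exact hs hηW

theorem isQCoh_torsion (M : X.Modules) [M.IsQuasicoherent] : Coh.IsQCoh (torsion M).mod := by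
  choose U hU using fun x : X => Div89.exists_affine_mem x
  refine isQuasicoherent_of_isLocAt _ (fun x => (U x).1)
    (IsOpenCover.mk (top_le_iff.mp fun y _ => Opens.mem_iSup.mpr ⟨y, hU y⟩)) (fun x => (U x).2) fun x => ?_
  have hloc : IsLocAt M (U x).1 := isLocAt_of_isQuasicoherent M (U x).2
  constructor
  · intro f s
    by_cases hf : genericPoint X ∈ X.basicOpen f
    · obtain ⟨n, t, ht⟩ := hloc.exists_of f ((torsion M).ι.app _ s)
      refine ⟨n, (⟨t, fun hη => ?_⟩ : (torsion M).obj _), Subtype.ext ht⟩
      rw [← germM_res (X.basicOpen_le f) hf t, ht, germM_smul]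
      exact (congrArg (_ • ·) ((show (torsion M).obj _ from s).2 hf)).trans (smul_zero _)
    · refine ⟨0, 0, ?_⟩
      refine section_ext _ _ _ fun p hp => absurd (gen_mem hp) hf
  · intro f t ht
    obtain ⟨n, hn⟩ := hloc.eq_zero_of f ((torsion M).ι.app _ t) (by rw [← app_res, ht, map_zero])
    exact ⟨n, Subtype.ext hn⟩

theorem rk_torsion (M : X.Modules) : rk (torsion M).mod = 0 := by
  have : Subsingleton (gst (torsion M).mod) := subsingleton_of_forall_eq 0 fun e => by
    refine injective_stalkMapM_of_mono (torsion M).ι (genericPoint X)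
      (Eq.trans ?_ (map_zero (gmap (torsion M).ι)).symm)
    obtain ⟨W, hW, s, rfl⟩ := germM_exist e
    rw [stalkMapM_germ]
    exact (show (torsion M).obj W from s).2 hW
  exact Module.finrank_zero_of_subsingleton

theorem isTF_cokernel_torsion (M : X.Modules) : IsTF (cokernel (torsion M).ι) := fun x => by
  refine (injective_iff_map_eq_zero _).2 fun e he => ?_
  obtain ⟨d, rfl⟩ := surjective_stalkMapM_of_epi (cokernel.π (torsion M).ι) x e
  rw [toGen_stalkMapM] at he
  obtain ⟨c, hc⟩ := stalkMapM_exact (ShortComplex.mk (torsion M).ι (cokernel.π _) (cokernel.condition _))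
    (ShortComplex.exact_of_g_is_cokernel _ (cokernelIsCokernel _)) _ _ he
  have hz : toGen M x d = 0 := by
    rw [← hc]
    obtain ⟨W, hW, s, rfl⟩ := germM_exist c
    rw [stalkMapM_germ]
    exact (show (torsion M).obj W from s).2 hW
  obtain ⟨W, hW, s, rfl⟩ := germM_exist d
  rw [toGen_germ] at hz
  have hsW : s ∈ (torsion M).obj W := fun _ => hz
  have hs : s = (torsion M).ι.app W (⟨s, hsW⟩ : (torsion M).obj W) := rfl
  rw [stalkMapM_germ, hs]
  have h0 := congrArg (fun ψ => ψ.app W (⟨s, hsW⟩ : (torsion M).obj W)) (cokernel.condition (torsion M).ι)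
  exact (congrArg (germM _ W x hW) h0).trans (germM_zero hW)

end Groth.Agent.VB30
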