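import Groth.Agent.VB30.VeryAmpleCrit
import Groth.Agent.CrvPic30.Clifford
import Groth.Agent.Curves2.VeryAmple.Embed
import Groth.Agent.AlgGrp79.SmoothDescent

/-! Very ampleness criteria. -/

set_option autoImplicit false
set_option linter.style.haveILetI false
set_option linter.unusedSectionVars false
set_option backward.isDefEq.respectTransparency.types false

noncomputable section

universe u

open CategoryTheory CategoryTheory.Limits AlgebraicGeometry TopologicalSpace Opposite
open Groth.Agent.QC70 Groth.Agent.Props58.LocFree FunFld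
attribute [local instance] Groth.Agent.CrvPic30.ffAlg

namespace Groth.Agent.VB30

variable {k : Type u} [Field k] [IsAlgClosed k] {X : Scheme.{u}} [X.Over (Spec (CommRingCat.of k))] [IsIntegral X]
  [IsProper (X ↘ Spec (CommRingCat.of k))]

variable (hS : CrvPic30.Setup k X)
include hS

theorem veryAmple_iff_sepDiv [Smooth (X ↘ Spec (CommRingCat.of k))] {L : X.Modules} {E : Divisor k X.functionField}
    (eL : L ≅ hS.O E) :
    (∃ (n : ℕ) (i : X ⟶ CohB1.ProjSpace n k), IsClosedImmersion i ∧
        i ≫ CohB1.ProjSpace.toSpec n k = (X ↘ (Spec (CommRingCat.of k))) ∧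
        Nonempty ((Scheme.Modules.pullback i).obj (Twist.twistProjSpace n k 1) ≅ L)) ↔ SepDiv E := by
  have hL : PicF.IsInvertible L := EGA73.isInvertible_of_iso eL.symm (hS.isInvertible_O E)
  constructor
  · rintro ⟨n, i, hi, hiw, ⟨e⟩⟩
    rw [sepDiv_iff hS eL]
    intro P Q hP hQ
    have := (cur_of_setup hS).h0_le_of_immersion i hi hiw (EGA73.isInvertible_of_iso e.symm hL) hP hQ
    rw [← (Crv77.hEquiv k (EGA73.tensIso (EGA73.tensIso e (Iso.refl _)) (Iso.refl _) ≪≫
      EGA73.tensAssoc' L _ _) 0).finrank_eq, ← (Crv77.hEquiv k e 0).finrank_eq]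
    exact this
  · intro hs
    exact Curves2.VeryAmple.exists_closedImmersion_projSpace k (X ↘ Spec (CommRingCat.of k)) L
      (VA.isRelVeryAmplePn_of_sep hS.dim L hL (sep_of_sepDiv hS eL hs) (gg_of_sepDiv hS eL hs)
        (ample_of_sepDiv hS eL hs))

theorem sepDiv_canonical_iff {W : Divisor k X.functionField} (hW : IsCanonical k X.functionField W)
    (_hg : 2 ≤ Curv2.genus k X) :
    SepDiv W ↔ ¬ ∃ (M : X.Modules) (s : Fin 2 → LinSer.Sect X M), LinSer.IsLinSer k X M 2 1 s := by
  have hRR : ∀ P Q : Place k X.functionField,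
      SepDiv W → ell (Finsupp.single P 1 + Finsupp.single Q 1 : Divisor k X.functionField) = 1 := fun P Q hs => by
    have := FF30.riemann_roch' hS.ff hW (Finsupp.single P 1 + Finsupp.single Q 1)
    rw [← sub_sub, FF30.deg_add, hS.ffield.deg_single', hS.ffield.deg_single'] at this
    have := hs P Q
    rw [FF30.ell_canonical hS.ff hW] at this
    omega
  rw [show (∃ (M : X.Modules) (s : Fin 2 → LinSer.Sect X M), LinSer.IsLinSer k X M 2 1 s) ↔ _ from
    hS.exists_linSer_iff 2 1]
  constructor
  · rintro hs ⟨D, hd, hl⟩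
    obtain ⟨A, hA, hprin, hdA⟩ := CrvPic30.exists_eff hS.ffield (show 0 < ell D by omega)
    rw [FF30.ell_congr hS.ffield hprin] at hl
    obtain ⟨P, hP⟩ : ∃ P, 0 < A P := by
      by_contra! hn
      have : A = 0 := le_antisymm (fun P => by simpa using hn P) hA
      rw [this, CrvPic30.deg_zero'] at hdA
      omega
    have hA1 : 0 ≤ A - Finsupp.single P 1 := fun R => by
      rw [Finsupp.coe_sub, Pi.sub_apply, Finsupp.zero_apply]
      by_cases e : P = R
      · subst e; rw [Finsupp.single_eq_same]; omega
      · rw [Finsupp.single_eq_of_ne (Ne.symm e), sub_zero]; exact hA R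
    obtain ⟨Q, hQ⟩ : ∃ Q, 0 < (A - Finsupp.single P 1 : Divisor k X.functionField) Q := by
      by_contra! hn
      have : A - Finsupp.single P 1 = 0 := le_antisymm (fun R => by simpa using hn R) hA1
      rw [sub_eq_zero.1 this, hS.ffield.deg_single'] at hdA
      omega
    have hle : Finsupp.single P 1 + Finsupp.single Q 1 ≤ A := fun R => by
      simp only [Finsupp.coe_sub, Pi.sub_apply] at hQ
      have := hA1 R
      simp only [Finsupp.coe_sub, Pi.sub_apply, Finsupp.zero_apply] at this
      rw [Finsupp.coe_add, Pi.add_apply]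
      by_cases e : Q = R
      · subst e
        rw [Finsupp.single_eq_same]
        omega
      · rw [Finsupp.single_eq_of_ne (Ne.symm e)]
        omega
    have hAeq := hS.ffield.eq_of_le_of_deg_le hle (by
      rw [hdA, hd, FF30.deg_add, hS.ffield.deg_single', hS.ffield.deg_single']; norm_num)
    rw [← hAeq] at hl
    have := hRR P Q hs
    omega
  · intro hno P Q
    have h1 := CrvPic30.ell_pos_of_nonneg hS.ff (E := Finsupp.single P 1 + Finsupp.single Q 1)
      (add_nonneg (Finsupp.single_nonneg.2 zero_le_one) (Finsupp.single_nonneg.2 zero_le_one))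
    have hle : ell (Finsupp.single P 1 + Finsupp.single Q 1 : Divisor k X.functionField) ≤ 1 := by
      by_contra hlt
      exact hno ⟨Finsupp.single P 1 + Finsupp.single Q 1, by rw [FF30.deg_add, hS.ffield.deg_single', hS.ffield.deg_single']; norm_num, by omega⟩
    have := FF30.riemann_roch' hS.ff hW (Finsupp.single P 1 + Finsupp.single Q 1)
    rw [← sub_sub, FF30.deg_add, hS.ffield.deg_single', hS.ffield.deg_single'] at this
    rw [FF30.ell_canonical hS.ff hW]
    omega

end Groth.Agent.VB30
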