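import Groth.Agent.VB30.Canon
import Groth.Agent.VB30.Setup
import Groth.Agent.Curves2.Genus0.EtaleIso
import Groth.Agent.HP96.FieldExt
import Groth.Agent.Om3.BaseChange
import Groth.Agent.Om3.TopForms
import Groth.Agent.RedPts82.SmoothDim
import Groth.Agent.GGDesc24.Basic

/-! The canonical bundle of a smooth curve over an arbitrary field, by extension to an algebraic closure. -/

set_option autoImplicit false
set_option linter.style.haveILetI false
set_option linter.unusedSectionVars false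
set_option backward.isDefEq.respectTransparency.types false

noncomputable section

universe u

open CategoryTheory CategoryTheory.Limits AlgebraicGeometry TopologicalSpace Opposite
open Groth.Agent.QC70 Groth.Agent.Props58.LocFree

namespace Groth.Agent.VB30.OmegaField

variable (k : Type u) [Field k] (X : Scheme.{u}) [X.Over (Spec (CommRingCat.of k))]
  [IsProper (X ↘ Spec (CommRingCat.of k))] [Smooth (X ↘ Spec (CommRingCat.of k))] [IsIntegral X]

local notation "KK" => AlgebraicClosure k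
local notation "Ω" => Omega.sheaf (X ↘ Spec (CommRingCat.of k))

local instance bcOver : (Curv2.bc k X KK).Over (Spec (CommRingCat.of KK)) := ⟨Curv2.bcSnd k X KK⟩

theorem isPullback : IsPullback (Curv2.bcFst k X KK) (Curv2.bc k X KK ↘ Spec (CommRingCat.of KK))
    (X ↘ Spec (CommRingCat.of k)) (Spec.map (CommRingCat.ofHom (algebraMap k KK))) :=
  IsPullback.of_hasPullback _ _

variable (hdim : topologicalKrullDim X = 1) (h0 : Module.finrank k (Coh.HH X (Coh.structureModule X) 0) = 1)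
include hdim

omit [IsProper (X ↘ Spec (CommRingCat.of k))] in
theorem omega_inv [QuasiSeparated (X ↘ Spec (CommRingCat.of k))] : PicF.IsInvertible Ω := by
  have := RedPts82.smoothOfRelativeDimension_of_irreducible (X ↘ Spec (CommRingCat.of k)) 1 (by exact_mod_cast hdim)
  exact isInvertible_of_rank_one (Om3.TopForms.isFinLocFreeOfRank_omega _ 1)

theorem nonempty_omega_bc :
    Nonempty ((Scheme.Modules.pullback (Curv2.bcFst k X KK)).obj Ω ≅
      Omega.sheaf (Curv2.bc k X KK ↘ Spec (CommRingCat.of KK))) := by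
  have H := isPullback k X
  have : IsProper (Curv2.bc k X KK ↘ Spec (CommRingCat.of KK)) := MorphismProperty.of_isPullback H inferInstance
  obtain ⟨c, hc, -⟩ := Om3.existsUnique_diffCompat (Curv2.bcFst k X KK) H.w.symm
    (Var76.OmegaUniv.isUniversal (X ↘ Spec (CommRingCat.of k)))
    (OmegaSh.dOmega (Curv2.bc k X KK ↘ Spec (CommRingCat.of KK)))
  have := Om3.isIso_of_isPullback _ _ _ _ H (Var76.OmegaUniv.isUniversal (X ↘ Spec (CommRingCat.of k)))
    (Var76.OmegaUniv.isUniversal (Curv2.bc k X KK ↘ Spec (CommRingCat.of KK))) c hc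
  exact ⟨asIso c⟩

include h0

theorem bc_curve :
    IsProper (Curv2.bc k X KK ↘ Spec (CommRingCat.of KK)) ∧ Smooth (Curv2.bc k X KK ↘ Spec (CommRingCat.of KK)) ∧
      IsIntegral (Curv2.bc k X KK) ∧ topologicalKrullDim (Curv2.bc k X KK) = 1 ∧
      Module.finrank KK (Coh.HH (Curv2.bc k X KK) (Coh.structureModule (Curv2.bc k X KK)) 0) = 1 :=
  Curves2.Genus0.curve_baseChange k hdim h0 (Curv2.bcFst k X KK) (isPullback k X)

/-- Both cohomology groups are unchanged by the extension to an algebraic closure. -/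
theorem h_bc {M : X.Modules} (hM : Coh.IsCoh M) :
    Module.finrank KK (Coh.HH (Curv2.bc k X KK) ((Scheme.Modules.pullback (Curv2.bcFst k X KK)).obj M) 0) =
        Module.finrank k (Coh.HH X M 0) ∧
    Module.finrank KK (Coh.HH (Curv2.bc k X KK) ((Scheme.Modules.pullback (Curv2.bcFst k X KK)).obj M) 1) =
        Module.finrank k (Coh.HH X M 1) ∧
    Curv2.euler KK (Curv2.bc k X KK) ((Scheme.Modules.pullback (Curv2.bcFst k X KK)).obj M) = Curv2.euler k X M := by
  obtain ⟨_, _, _, hdim', -⟩ := bc_curve k X hdim h0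
  have := hM.1
  have := Crv77.isNoetherian_of_proper k X
  have := Crv77.isNoetherian_of_proper KK (Curv2.bc k X KK)
  have e0 := Curves2.Genus0.finrank_h0_pullback (K := KK) M (Curv2.bcFst k X KK) (isPullback k X)
  have ee := HP96.euler_bc (k := k) (K := KK) hM
  have a := (Crv77.curveCoh_of_proper k X hdim.le).euler_eq hM
  have b := (Crv77.curveCoh_of_proper KK (Curv2.bc k X KK) hdim'.le).euler_eq
    (HP96.isCoh_bc (k := k) (K := KK) hM)
  refine ⟨e0, ?_, ee⟩
  simp only [Crv77.h] at a b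
  rw [ee, a, e0] at b
  omega

theorem genus_bc : Curv2.genus KK (Curv2.bc k X KK) = Curv2.genus k X ∧
    Curv2.euler KK (Curv2.bc k X KK) (Coh.structureModule (Curv2.bc k X KK)) = Curv2.euler k X (Coh.structureModule X) := by
  obtain ⟨_, a, b⟩ := h_bc k X hdim h0 Crv77.isCoh_structureModule
  exact ⟨((Crv77.hEquiv KK (PicLoc.pullbackStructureIso (Curv2.bcFst k X KK)) 1).finrank_eq.symm.trans a),
    (Crv77.euler_congr (k := KK) (PicLoc.pullbackStructureIso (Curv2.bcFst k X KK))).symm.trans b⟩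

theorem omega_facts_field [QuasiSeparated (X ↘ Spec (CommRingCat.of k))] :
    Module.finrank k (Coh.HH X Ω 0) = Curv2.genus k X ∧ Curv2.deg k X Ω 1 = 2 * (Curv2.genus k X : ℤ) - 2 := by
  obtain ⟨_, _, _, hdim', -⟩ := bc_curve k X hdim h0
  have hI := omega_inv k X hdim
  obtain ⟨eΩ⟩ := nonempty_omega_bc k X hdim
  obtain ⟨a0, -, ae⟩ := h_bc k X hdim h0 (Crv77.isCoh_of_isInvertible hI)
  obtain ⟨g, eO⟩ := genus_bc k X hdim h0
  have hS : CrvPic30.Setup KK (Curv2.bc k X KK) := CrvPic30.setup_of_smooth_algClosed hdim'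
  obtain ⟨hK, hd, -⟩ := omega_facts hS eΩ
  rw [← deg_eq_dg_of_isInvertible hK, g] at hd
  let := CrvPic30.ffAlg KK (Curv2.bc k X KK)
  obtain ⟨W, hW, ⟨eW⟩⟩ := hS.nonempty_iso_omega
  obtain ⟨hh, -⟩ := hS.h0_canonical hW (eΩ ≪≫ eW)
  rw [a0, g] at hh
  refine ⟨hh, ?_⟩
  rw [Curv2.deg, ae, eO] at hd
  exact hd

theorem gg_field [QuasiSeparated (X ↘ Spec (CommRingCat.of k))] (hg : 1 ≤ Curv2.genus k X) :
    Curv2.IsGloballyGenerated Ω := by
  obtain ⟨_, _, _, hdim', -⟩ := bc_curve k X hdim h0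
  have hS : CrvPic30.Setup KK (Curv2.bc k X KK) := CrvPic30.setup_of_smooth_algClosed hdim'
  obtain ⟨eΩ⟩ := nonempty_omega_bc k X hdim
  let := CrvPic30.ffAlg KK (Curv2.bc k X KK)
  obtain ⟨W, hW, ⟨eW⟩⟩ := hS.nonempty_iso_omega
  have hgg := hS.omega_globallyGenerated hW (eΩ ≪≫ eW) (by rw [(genus_bc k X hdim h0).1]; exact hg)
  have := (Crv77.isCoh_of_isInvertible (omega_inv k X hdim)).1
  have : Flat (Spec.map (CommRingCat.ofHom (algebraMap k KK))) := Var76.FibBC.flat_of_field _
  have : Surjective (Spec.map (CommRingCat.ofHom (algebraMap k KK))) :=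
    ⟨fun x => ⟨IsLocalRing.closedPoint KK, Subsingleton.elim (α := Spec (CommRingCat.of k)) _ _⟩⟩
  have : CompactSpace X := QuasiCompact.compactSpace_of_compactSpace (X ↘ Spec (CommRingCat.of k))
  have : QuasiSeparatedSpace X := quasiSeparatedSpace_of_quasiSeparated (X ↘ Spec (CommRingCat.of k))
  exact GGDesc24.isGloballyGenerated_of_pullback (isPullback k X) _ hgg

theorem iso_omega_field [QuasiSeparated (X ↘ Spec (CommRingCat.of k))] {L : X.Modules} (hL : PicF.IsInvertible L)
    (hdeg : Curv2.deg k X L 1 = 2 * (Curv2.genus k X : ℤ) - 2)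
    (hh : Curv2.genus k X ≤ Module.finrank k (Coh.HH X L 0)) : Nonempty (L ≅ Ω) := by
  obtain ⟨_, _, _, hdim', -⟩ := bc_curve k X hdim h0
  have := Crv77.isNoetherian_of_proper k X
  have hI := omega_inv k X hdim
  have hS : CrvPic30.Setup KK (Curv2.bc k X KK) := CrvPic30.setup_of_smooth_algClosed hdim'
  obtain ⟨eΩ⟩ := nonempty_omega_bc k X hdim
  obtain ⟨g, eO⟩ := genus_bc k X hdim h0
  obtain ⟨hK, hd, hK1⟩ := omega_facts hS eΩ
  have h := cur_of_smooth k X hdim
  obtain ⟨a0, a1, ae⟩ := h_bc k X hdim h0 (Crv77.isCoh_of_isInvertible hL)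
  let p := Curv2.bcFst k X KK
  have hL' : PicF.IsInvertible ((Scheme.Modules.pullback p).obj L) := Amp73.isInvertible_pullback p hL
  have hdL : dg KK ((Scheme.Modules.pullback p).obj L) = 2 * (Curv2.genus KK (Curv2.bc k X KK) : ℤ) - 2 := by
    rw [← deg_eq_dg_of_isInvertible hL', g, ← hdeg, Curv2.deg, Curv2.deg, ae, eO]
  have hh1 : Module.finrank KK (Coh.HH (Curv2.bc k X KK) ((Scheme.Modules.pullback p).obj L) 1) ≠ 0 := by
    rw [a1]
    have r := (Crv77.curveCoh_of_proper k X hdim.le).riemann h0 (Crv77.isCoh_of_isInvertible hL)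
    simp only [Crv77.h] at r
    rw [hdeg] at r
    omega
  obtain ⟨e'⟩ := iso_of_h1 hS hK hK1 hd hL' hdL hh1
  obtain ⟨H, hH, ⟨eH⟩⟩ := Crv77.exists_inverse hI
  have hN : PicF.IsInvertible (CohB1.tensorMod L H) := EGA73.isInvertible_tensorMod hL hH
  have eN : (Scheme.Modules.pullback p).obj (CohB1.tensorMod L H) ≅ Coh.structureModule (Curv2.bc k X KK) :=
    Desc59.AmpleDesc.pullTensIso p L H ≪≫ EGA73.tensIso e' (Iso.refl _) ≪≫
      (Desc59.AmpleDesc.pullTensIso p Ω H).symm ≪≫ (Scheme.Modules.pullback p).mapIso eH ≪≫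
      PicLoc.pullbackStructureIso p
  obtain ⟨b0, -, be⟩ := h_bc k X hdim h0 (Crv77.isCoh_of_isInvertible hN)
  obtain ⟨lN, rN⟩ := lf_of_isInvertible hN
  obtain ⟨lO, rO⟩ := lf_of_isInvertible (X := X) EGA73.isInvertible_structureModule
  have := h.curveCoh.finite _ (isCoh_of_isFinLocFree lN) 0
  have hN0 : Module.finrank k (Coh.HH X (CohB1.tensorMod L H) 0) = 1 := by
    rw [← b0, (Crv77.hEquiv KK eN 0).finrank_eq]
    exact (bc_curve k X hdim h0).2.2.2.2
  have hdN : dg k (CohB1.tensorMod L H) = dg k (Coh.structureModule X) := by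
    rw [h.dg_structureModule, ← deg_eq_dg_of_isInvertible hN, Curv2.deg, ← be, Crv77.euler_congr (k := KK) eN, eO]
    simp
  have : Nontrivial (Coh.HH X (CohB1.tensorMod L H) 0) := Module.nontrivial_of_finrank_pos (R := k) (by omega)
  obtain ⟨x, hx⟩ := exists_ne (0 : Coh.HH X (CohB1.tensorMod L H) 0)
  have hs : Mono (Crv77.toHom x) := (h.rk_image_eq_zero_or _ lO lN rO).resolve_left fun e =>
    hx <| (Crv77.sec _).injective (by rw [map_zero, ← Crv77.toHom_app_one x, e]; rfl)
  obtain ⟨-, hiso⟩ := h.dg_le_of_mono (Crv77.toHom x) (isCoh_of_isFinLocFree lO) (isCoh_of_isFinLocFree lN)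
    (rO.trans rN.symm)
  have := hiso hdN.symm
  exact ⟨(EGA73.tensUnitRight L).symm ≪≫ EGA73.tensIso (Iso.refl L) (eH.symm ≪≫ EGA73.tensComm _ _) ≪≫
    (EGA73.tensAssoc' L H _).symm ≪≫ EGA73.tensIso (asIso (Crv77.toHom x)).symm (Iso.refl _) ≪≫
    EGA73.tensUnitLeft _⟩

end Groth.Agent.VB30.OmegaField
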