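import Groth.Agent.VB30.Apply
import Groth.Agent.GGDesc24.Basic

/-! Generation of semistable bundles by global sections at a point of degree one. -/

set_option autoImplicit false
set_option linter.style.haveILetI false
set_option linter.unusedSectionVars false
set_option backward.isDefEq.respectTransparency.types false

noncomputable section

universe u

attribute [local instance] Curv2.resAlgebra

open CategoryTheory CategoryTheory.Limits AlgebraicGeometry TopologicalSpace Opposite
open scoped TensorProduct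
open Groth.Agent.QC70 Groth.Agent.Props58.LocFree

namespace Groth.Agent.VB30

variable {k : Type u} [Field k] {X : Scheme.{u}} [X.Over (Spec (CommRingCat.of k))] [IsIntegral X]

local instance resStalkAlgebra (P : X) : Algebra (X.presheaf.stalk P) (X.residueField P) :=
  inferInstanceAs (Algebra (X.presheaf.stalk P) (IsLocalRing.ResidueField (X.presheaf.stalk P)))

/-- The sections whose germ at `P` is killed by a functional. -/
def kerSub (E : X.Modules) {P : X} (ψ : E.presheaf.stalk P →ₗ[X.presheaf.stalk P] X.residueField P) :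
    LocalSubmod E where
  obj U :=
    { carrier := {s | ∀ hP : P ∈ U, ψ (germM E U P hP s) = 0}
      add_mem' := fun {a b} ha hb hP => by rw [germM_add, map_add, ha hP, hb hP, add_zero]
      zero_mem' := fun hP => by rw [germM_zero, map_zero]
      smul_mem' := fun c s hs hP => by rw [germM_smul, map_smul, hs hP, smul_zero] }
  res_mem {U W} h s hs hP := by rw [germM_res]; exact hs (h hP)
  of_locally {U} s h hP := by
    obtain ⟨W, hW, hPW, hs⟩ := h _ hP
    rw [← germM_res hW hPW s]
    exact hs hPW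

omit [X.Over (Spec (CommRingCat.of k))] in
theorem isQCoh_kerSub (E : X.Modules) [E.IsQuasicoherent] {P : X}
    (ψ : E.presheaf.stalk P →ₗ[X.presheaf.stalk P] X.residueField P) : Coh.IsQCoh (kerSub E ψ).mod := by
  choose U hU using fun x : X => Div89.exists_affine_mem x
  refine isQuasicoherent_of_isLocAt _ (fun x => (U x).1)
    (IsOpenCover.mk (top_le_iff.mp fun y _ => Opens.mem_iSup.mpr ⟨y, hU y⟩)) (fun x => (U x).2) fun x => ?_
  have hloc : IsLocAt E (U x).1 := isLocAt_of_isQuasicoherent E (U x).2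
  constructor
  · intro f s
    obtain ⟨n, t, ht⟩ := hloc.exists_of f ((kerSub E ψ).ι.app _ s)
    have ht' : ∀ hPf : P ∈ X.basicOpen f, ψ (germM E _ P (X.basicOpen_le f hPf) t) = 0 := fun hPf => by
      rw [← germM_res (X.basicOpen_le f) hPf t, ht, germM_smul, map_smul]
      exact (congrArg (_ • ·) ((show (kerSub E ψ).obj _ from s).2 hPf)).trans (smul_zero _)
    refine ⟨n + 1, (⟨f • t, fun hP => ?_⟩ : (kerSub E ψ).obj _), Subtype.ext ?_⟩
    · rw [germM_smul, map_smul]
      by_cases hPf : P ∈ X.basicOpen f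
      · rw [ht' hPf, smul_zero]
      · have hnu : ¬ IsUnit (X.presheaf.germ (U x).1 P hP f) := fun hu => hPf ((X.mem_basicOpen f P hP).2 hu)
        have h0 : algebraMap (X.presheaf.stalk P) (X.residueField P) (X.presheaf.germ (U x).1 P hP f) = 0 :=
          IsLocalRing.residue_eq_zero_iff _ |>.2 ((IsLocalRing.mem_maximalIdeal _).2 hnu)
        rw [Algebra.smul_def]
        exact (congrArg (· * _) h0).trans (zero_mul _)
    · change res E (X.basicOpen_le f) (f • t) = _
      rw [res_smul, ht, pow_succ', mul_smul]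
      rfl
  · intro f t ht
    obtain ⟨n, hn⟩ := hloc.eq_zero_of f ((kerSub E ψ).ι.app _ t) (by rw [← app_res, ht, map_zero])
    exact ⟨n, Subtype.ext hn⟩

omit [X.Over (Spec (CommRingCat.of k))] in
theorem suppIn_coker_kerSub (E : X.Modules) {P : X} (hP : IsClosed ({P} : Set X))
    (ψ : E.presheaf.stalk P →ₗ[X.presheaf.stalk P] X.residueField P) :
    Crv77.SuppIn (cokernel (kerSub E ψ).ι) {P} := fun y hy => subsingleton_of_forall_eq (0 : (cokernel (kerSub E ψ).ι).presheaf.stalk y) fun e => by
  obtain ⟨d, rfl⟩ := surjective_stalkMapM_of_epi (cokernel.π (kerSub E ψ).ι) y e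
  obtain ⟨W, hW, s, rfl⟩ := germM_exist d
  let W' : X.Opens := W ⊓ ⟨{P}ᶜ, hP.isOpen_compl⟩
  have hy' : y ∈ W' := ⟨hW, hy⟩
  have hs : res E (inf_le_left : W' ≤ W) s ∈ (kerSub E ψ).obj W' := fun hPW => absurd rfl hPW.2
  rw [← germM_res (inf_le_left : W' ≤ W) hy' s, stalkMapM_germ]
  have h0 := congrArg (fun f => f.app W' (⟨_, hs⟩ : (kerSub E ψ).obj W')) (cokernel.condition (kerSub E ψ).ι)
  exact (congrArg (germM _ W' y hy') h0).trans (germM_zero hy')

namespace Cur

variable (h : Cur k X)
include h

set_option maxHeartbeats 1000000 in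
/-- An elementary transformation at a point of degree one. -/
theorem exists_elementary {E : X.Modules} (hE : FlatMod.IsFinLocFree E) {P : X} (hP : IsClosed ({P} : Set X))
    (hd : Module.finrank k (X.residueField P) = 1)
    (ψ : E.presheaf.stalk P →ₗ[X.presheaf.stalk P] X.residueField P) (hψ : ψ ≠ 0) :
    ∃ hlf : FlatMod.IsFinLocFree (kerSub E ψ).mod,
      rk (kerSub E ψ).mod = rk E ∧ dg k (kerSub E ψ).mod = dg k E - 1 := by
  have := h.isNoetherian
  have hEc := isCoh_of_isFinLocFree hE
  have := hEc.1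
  have hKc : Coh.IsCoh (kerSub E ψ).mod := QC70.isCoh_of_mono (kerSub E ψ).ι (isQCoh_kerSub E ψ) hEc
  have hKl := h.isFinLocFree_of_mono (kerSub E ψ).ι hKc hE
  obtain ⟨r1, d1⟩ := h.rk_cokernel (kerSub E ψ).ι hKc hEc
  set T := cokernel (kerSub E ψ).ι
  have hTc : Coh.IsCoh T := h.isCoh_cokernel _ hKc hEc
  have hsupp : Crv77.SuppIn T {P} := suppIn_coker_kerSub E hP ψ
  have hPne : P ≠ genericPoint X := fun e => by
    have hall : ∀ y : X, y = P := fun y => by
      have := (genericPoint_specializes y).mem_closed hP (e ▸ rfl)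
      exact this
    obtain ⟨y, hy⟩ := Crv77.exists_ne_genericPoint h.dim
    exact hy ((hall y).trans e)
  have hT0 : rk T = 0 := by
    have := hsupp (genericPoint X) (fun e => hPne e.symm)
    exact Module.finrank_zero_of_subsingleton
  refine ⟨hKl, by omega, ?_⟩
  obtain ⟨dT, zT⟩ := h.dg_torsion hTc hT0
  have hfin := h.curveCoh.finite T hTc 0
  -- the value at `P`
  let π := cokernel.π (kerSub E ψ).ι
  have hker : ∀ e : E.presheaf.stalk P, stalkMapM π P e = 0 ↔ ψ e = 0 := fun e => by
    constructor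
    · intro he
      obtain ⟨c, rfl⟩ := stalkMapM_exact (ShortComplex.mk (kerSub E ψ).ι π (cokernel.condition _))
        (ShortComplex.exact_of_g_is_cokernel _ (cokernelIsCokernel _)) P e he
      obtain ⟨W, hW, s, rfl⟩ := germM_exist c
      rw [stalkMapM_germ]
      exact (show (kerSub E ψ).obj W from s).2 hW
    · intro he
      obtain ⟨W, hW, s, rfl⟩ := germM_exist e
      have hs : s ∈ (kerSub E ψ).obj W := fun _ => he
      rw [stalkMapM_germ]
      have h0 := congrArg (fun f => f.app W (⟨s, hs⟩ : (kerSub E ψ).obj W)) (cokernel.condition (kerSub E ψ).ι)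
      exact (congrArg (germM _ W P hW) h0).trans (germM_zero hW)
  have h1 : Module.finrank k (Coh.HH X T 0) ≠ 0 := fun e => by
    refine hψ (LinearMap.ext fun x => (hker x).1 ?_)
    have := congrArg (fun f => stalkMapM f P x) ((zT e).eq_of_tgt π 0)
    rwa [stalkMapM_zero] at this
  have h2 : Module.finrank k (Coh.HH X T 0) ≤ 1 := by
    let g : Coh.HH X T 0 → T.presheaf.stalk P := fun x => germM T ⊤ P trivial (Crv77.sec T x)
    have hginj : ∀ x, g x = 0 → x = 0 := fun x hx => by
      have hsub : ∀ y : X, y ≠ P → Subsingleton (T.presheaf.stalk y) := fun y hy => hsupp y hy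
      refine (Crv77.sec T).injective ?_
      rw [map_zero]
      obtain ⟨W, hW, hPW, hz⟩ := germM_eq_zero (M := T) (s := Crv77.sec T x) hx
      refine section_ext T _ 0 fun y _ => ?_
      by_cases hy : y = P
      · exact ⟨W, hW, hy ▸ hPW, by rw [hz, res_zero]⟩
      · have := hsub y hy
        have h0 : germM T ⊤ y trivial (Crv77.sec T x) = 0 := Subsingleton.elim _ _
        obtain ⟨W', hW', hyW', hz'⟩ := germM_eq_zero h0
        exact ⟨W', hW', hyW', by rw [hz', res_zero]⟩
    by_contra hlt
    obtain ⟨a, ha⟩ : ∃ a : Coh.HH X T 0, a ≠ 0 := by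
      have := Module.nontrivial_of_finrank_pos (R := k) (Nat.pos_of_ne_zero h1)
      exact exists_ne 0
    refine hlt (finrank_le_one a fun b => ?_)
    obtain ⟨ea, hea⟩ := surjective_stalkMapM_of_epi π P (g a)
    obtain ⟨eb, heb⟩ := surjective_stalkMapM_of_epi π P (g b)
    have hψa : ψ ea ≠ 0 := fun hz => ha (hginj a (by rw [← hea, (hker ea).2 hz]))
    obtain ⟨c, hc'⟩ := (finrank_eq_one_iff_of_nonzero' (1 : X.residueField P) one_ne_zero).1 hd (ψ eb / ψ ea)
    have hc : Curv2.resMap k X P c = ψ eb / ψ ea := (Algebra.algebraMap_eq_smul_one c).trans hc'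
    refine ⟨c, sub_eq_zero.1 (hginj _ ?_)⟩
    have hcs : g (c • a) = Curv2.stalkMap k X P c • g a := by
      change germM T ⊤ P trivial (Crv77.sec T (c • a)) = _
      rw [Crv77.sec_smul, germM_smul]
      rfl
    have hk : ψ (Curv2.stalkMap k X P c • ea - eb) = 0 := by
      rw [map_sub, map_smul, Algebra.smul_def, sub_eq_zero]
      change Curv2.resMap k X P c * ψ ea = ψ eb
      rw [hc, div_mul_cancel₀ _ hψa]
    change germM T ⊤ P trivial (Crv77.sec T (c • a - b)) = 0
    rw [map_sub]
    have hsub : ∀ s t : Γ(T, ⊤), germM T ⊤ P trivial (s - t) = germM T ⊤ P trivial s - germM T ⊤ P trivial t :=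
      fun s t => map_sub (T.presheaf.germ ⊤ P trivial).hom s t
    rw [hsub]
    change g (c • a) - g b = 0
    rw [hcs, ← hea, ← heb, ← stalkMapM_smul', ← stalkMapM_sub', (hker _).2 hk]
  omega
where
  stalkMapM_sub' {M N : X.Modules} {f : M ⟶ N} {x : X} {a b : M.presheaf.stalk x} :
      stalkMapM f x (a - b) = stalkMapM f x a - stalkMapM f x b := map_sub (stalkLinear f x) a b

  stalkMapM_smul' {M N : X.Modules} {f : M ⟶ N} {x : X} {a : M.presheaf.stalk x} {r : X.presheaf.stalk x} :
      stalkMapM f x (r • a) = r • stalkMapM f x a := map_smul (stalkLinear f x) r a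

end Cur

omit [X.Over (Spec (CommRingCat.of k))] [IsIntegral X] in
/-- A finite locally free module generated by global sections at every closed point is globally generated. -/
theorem isGloballyGenerated_of_span [CompactSpace X] {E : X.Modules} (hE : FlatMod.IsFinLocFree E)
    (h : ∀ P : X, IsClosed ({P} : Set X) →
      Submodule.span (X.presheaf.stalk P) (Set.range fun s : Γ(E, ⊤) => germM E ⊤ P trivial s) = ⊤) :
    Curv2.IsGloballyGenerated E := by
  refine (GGDesc24.isGloballyGenerated_iff E).2 fun T q hq => ?_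
  have hclosed : ∀ (P : X), IsClosed ({P} : Set X) → ∀ e, stalkMapM q P e = 0 := fun P hP e => by
    have he : e ∈ Submodule.span (X.presheaf.stalk P) (Set.range fun s : Γ(E, ⊤) => germM E ⊤ P trivial s) := by
      rw [h P hP]; trivial
    have hle : Submodule.span (X.presheaf.stalk P) (Set.range fun s : Γ(E, ⊤) => germM E ⊤ P trivial s) ≤
        LinearMap.ker (stalkLinear q P) := Submodule.span_le.2 (by
      rintro _ ⟨s, rfl⟩
      change stalkMapM q P (germM E ⊤ P trivial s) = 0
      rw [stalkMapM_germ, hq, germM_zero])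
    exact hle he
  have hall : ∀ (y : X) e, stalkMapM q y e = 0 := fun y e => by
    obtain ⟨P, hP, hyP⟩ := Crv77.exists_isClosed_specializes y
    obtain ⟨U, n, b, hPU, hb⟩ := isFinLocFree_iff.mp hE P
    have hyU : y ∈ U := hyP.mem_open U.2 hPU
    obtain ⟨c, rfl⟩ := (hb y hyU).2 e
    change stalkLinear q y (∑ i, c i • germM E U y hyU (b i)) = 0
    rw [map_sum]
    refine Finset.sum_eq_zero fun i _ => ?_
    rw [map_smul]
    have h0 := hclosed P hP (germM E U P hPU (b i))
    rw [stalkMapM_germ] at h0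
    obtain ⟨W, hW, hPW, hz⟩ := germM_eq_zero h0
    have hyW : y ∈ W := hyP.mem_open W.2 hPW
    have : stalkLinear q y (germM E U y hyU (b i)) = 0 := by
      change stalkMapM q y _ = 0
      rw [stalkMapM_germ, ← germM_res hW hyW, hz, germM_zero]
    rw [this, smul_zero]
  refine Scheme.Modules.hom_ext _ _ fun W => ?_
  ext s
  refine section_ext T _ 0 fun y hy => ?_
  have h0 := hall y (germM E W y hy s)
  rw [stalkMapM_germ] at h0
  obtain ⟨W', hW', hyW', hz⟩ := germM_eq_zero h0
  exact ⟨W', hW', hyW', by rw [hz, res_zero]⟩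

section Setup

variable (hS : CrvPic30.Setup k X)
include hS

set_option maxHeartbeats 1000000 in
/-- Global sections generate the stalk at a point of degree one. -/
theorem span_germ_eq_top {E : X.Modules} (hE : FlatMod.IsFinLocFree E)
    (hgen : ∀ (E' : X.Modules) (j : E' ⟶ E), Mono j → FlatMod.IsFinLocFree E' → rk E' = rk E →
      dg k E' = dg k E - 1 → Subsingleton (Coh.HH X E' 1))
    {P : X} (hP : IsClosed ({P} : Set X)) (hd : Module.finrank k (X.residueField P) = 1) :
    Submodule.span (X.presheaf.stalk P) (Set.range fun s : Γ(E, ⊤) => germM E ⊤ P trivial s) = ⊤ := by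
  have h := cur_of_setup hS
  have := h.isNoetherian
  have hEc := isCoh_of_isFinLocFree hE
  obtain ⟨U, n, b, hPU, hb⟩ := isFinLocFree_iff.mp hE P
  have := hb.free_stalk P hPU
  have := hb.finite_stalk P hPU
  by_contra hne
  let N := Submodule.span (X.presheaf.stalk P) (Set.range fun s : Γ(E, ⊤) => germM E ⊤ P trivial s)
  have hQ : Nontrivial (E.presheaf.stalk P ⧸ N) := Submodule.Quotient.nontrivial_iff.2 hne
  have hT : Nontrivial (X.residueField P ⊗[X.presheaf.stalk P] (E.presheaf.stalk P ⧸ N)) :=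
    not_subsingleton_iff_nontrivial.1 fun hs => not_subsingleton _
      (IsLocalRing.subsingleton_tensorProduct.1 hs)
  obtain ⟨t, ht⟩ := exists_ne (0 : X.residueField P ⊗[X.presheaf.stalk P] (E.presheaf.stalk P ⧸ N))
  obtain ⟨l, hl⟩ : ∃ l : Module.Dual (X.residueField P) (X.residueField P ⊗[X.presheaf.stalk P] (E.presheaf.stalk P ⧸ N)),
      l t ≠ 0 := by
    by_contra hz
    simp only [not_exists, ne_eq, not_not] at hz
    exact ht ((Module.forall_dual_apply_eq_zero_iff (X.residueField P) t).1 hz)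
  let ψ : E.presheaf.stalk P →ₗ[X.presheaf.stalk P] X.residueField P :=
    (l.restrictScalars (X.presheaf.stalk P)).comp
      ((TensorProduct.mk (X.presheaf.stalk P) (X.residueField P) (E.presheaf.stalk P ⧸ N) 1).comp N.mkQ)
  have hψ : ψ ≠ 0 := fun hz => by
    have hall : ∀ y, l y = 0 := fun y => by
      induction y using TensorProduct.induction_on with
      | zero => exact map_zero l
      | add a b ha hb => rw [map_add, ha, hb, add_zero]
      | tmul c q =>
        obtain ⟨m, rfl⟩ := N.mkQ_surjective q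
        rw [show c ⊗ₜ[X.presheaf.stalk P] N.mkQ m = c • ((1 : X.residueField P) ⊗ₜ N.mkQ m) by
          rw [TensorProduct.smul_tmul', smul_eq_mul, mul_one], map_smul]
        have : l ((1 : X.residueField P) ⊗ₜ N.mkQ m) = 0 := LinearMap.congr_fun hz m
        rw [this, smul_zero]
    exact hl (hall t)
  have hkill : ∀ s : Γ(E, ⊤), ψ (germM E ⊤ P trivial s) = 0 := fun s => by
    have : N.mkQ (germM E ⊤ P trivial s) = 0 :=
      (Submodule.Quotient.mk_eq_zero N).2 (Submodule.subset_span ⟨s, rfl⟩)
    change l ((1 : X.residueField P) ⊗ₜ N.mkQ (germM E ⊤ P trivial s)) = 0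
    rw [this, TensorProduct.tmul_zero, map_zero]
  obtain ⟨hK, rK, dK⟩ := h.exists_elementary hE hP hd ψ hψ
  have h1K := hgen _ (kerSub E ψ).ι inferInstance hK rK dK
  have hsurj : Function.Surjective (Crv77.hmap k (kerSub E ψ).ι 0) := fun x => by
    let y : Γ((kerSub E ψ).mod, ⊤) := (⟨Crv77.sec E x, fun _ => hkill _⟩ : (kerSub E ψ).obj ⊤)
    refine ⟨(Crv77.sec (kerSub E ψ).mod).symm y, (Crv77.sec E).injective ?_⟩
    rw [Crv77.sec_hmap, AddEquiv.apply_symm_apply]
    rfl
  have := h.curveCoh.finite _ (isCoh_of_isFinLocFree hK) 0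
  have := h.curveCoh.finite _ hEc 0
  have hle := LinearMap.finrank_le_finrank_of_injective (f := Crv77.hmap k (kerSub E ψ).ι 0) (Crv77.injective_f_zero (A := k) (shortExact_cokernel (kerSub E ψ).ι))
  have hge : Module.finrank k (Coh.HH X E 0) ≤ Module.finrank k (Coh.HH X (kerSub E ψ).mod 0) := by
    rw [← finrank_top k (Coh.HH X E 0), ← LinearMap.range_eq_top.2 hsurj]
    exact LinearMap.finrank_range_le _
  have a := h.h0_sub_h1 hEc
  have c := h.h0_sub_h1 (isCoh_of_isFinLocFree hK)
  have z : Module.finrank k (Coh.HH X (kerSub E ψ).mod 1) = 0 := Module.finrank_zero_of_subsingleton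
  rw [z, rK, dK] at c
  omega

/-- `H¹` of an elementary transform of a semistable bundle of large slope. -/
theorem h1_elementary {E E' : X.Modules} (_hE : FlatMod.IsFinLocFree E) (hs : SS k E)
    (hd : (rk E : ℤ) * (2 * (Curv2.genus k X : ℤ) - 1) < dg k E ∨
      (St k E ∧ 2 ≤ rk E ∧ (rk E : ℤ) * (2 * (Curv2.genus k X : ℤ) - 1) ≤ dg k E))
    (j : E' ⟶ E) [Mono j] (hE' : FlatMod.IsFinLocFree E') (hr : rk E' = rk E) (hd' : dg k E' = dg k E - 1) :
    Subsingleton (Coh.HH X E' 1) := by
  have h := cur_of_setup hS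
  by_contra hne
  obtain ⟨ω, hω, h1, hdω⟩ := exists_omega hS
  obtain ⟨φ, hφ⟩ := exists_hom_omega hS hE' hω h1 hdω hne
  obtain ⟨lω, rω⟩ := lf_of_isInvertible hω
  obtain ⟨K, I, i, p, q, hi, hp, hq, -, -, lK, lI, hrk, hdk, -, hz⟩ := h.exists_ker_im φ hE' lω
  have := (isCoh_of_isFinLocFree lω).2
  have hI : rk I = 1 := by
    have := rk_le_of_mono q
    have : rk I ≠ 0 := fun e => hφ (hz e)
    omega
  have b := (h.dg_le_of_mono q (isCoh_of_isFinLocFree lI) (isCoh_of_isFinLocFree lω) (by omega)).1
  have c := mul_le_mul_of_nonneg_right b (Int.natCast_nonneg (rk E))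
  have hK : (rk K : ℤ) = (rk E : ℤ) - 1 := by omega
  rw [hdω] at c
  have hdI : dg k I = dg k E - 1 - dg k K := by omega
  rw [hdI] at c
  rcases Nat.eq_zero_or_pos (rk K) with z | z
  · have hd0 := h.dg_of_rk_zero lK z
    have h1 : (rk E : ℤ) = 1 := by omega
    rcases hd with hd | ⟨-, h2, -⟩
    · rw [hd0, h1] at c
      rw [h1] at hd
      linarith
    · omega
  · rcases hd with hd | ⟨hst, h2, hd⟩
    · have a := hs K (i ≫ j) (mono_comp _ _) z lK
      rw [hK] at a
      linarith
    · have a := hst K (i ≫ j) (mono_comp _ _) z (by omega) lK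
      rw [hK] at a
      linarith

end Setup

end Groth.Agent.VB30
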