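import Groth.Agent.VB30.G1
import Groth.Agent.Curves2.RatPoint

/-! Bundles of rank two in genus one, and a slope bound for tensor products. -/

set_option autoImplicit false
set_option linter.style.haveILetI false
set_option linter.unusedSectionVars false
set_option backward.isDefEq.respectTransparency.types false

noncomputable section

universe u

attribute [local instance] Curv2.resAlgebra

open CategoryTheory CategoryTheory.Limits AlgebraicGeometry TopologicalSpace Opposite
open Groth.Agent.QC70 Groth.Agent.Props58.LocFree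

namespace Groth.Agent.VB30

variable {k : Type u} [Field k] {X : Scheme.{u}} [X.Over (Spec (CommRingCat.of k))] [IsIntegral X]

namespace Cur

variable (h : Cur k X)
include h

set_option maxHeartbeats 1000000 in
/-- A line subsheaf of any degree not above the slope. -/
theorem exists_line_slope [IsAlgClosed k] (hχ : Curv2.euler k X (Coh.structureModule X) = 0) {E : X.Modules}
    (hE : FlatMod.IsFinLocFree E) (h0 : 0 < rk E) {m : ℤ} (hm : m * rk E ≤ dg k E) :
    ∃ (M : X.Modules) (φ : M ⟶ E), PicF.IsInvertible M ∧ dg k M = m ∧ φ ≠ 0 := by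
  have := h.isNoetherian
  obtain ⟨L, hL, hdL⟩ := h.exists_line_deg m
  obtain ⟨J, hJ, ⟨e⟩⟩ := Crv77.exists_inverse hL
  have hJd : dg k J = -m := by
    have := h.dg_invertible_tensor hL hJ
    rw [dg_congr e, h.dg_structureModule, hdL] at this
    omega
  obtain ⟨l, r, d⟩ := h.tensor_invertible hE hJ
  obtain ⟨N, φ, hN, hdN, hφ⟩ := h.exists_hom_line_zero hχ l (by omega) (by rw [d, hJd]; linarith)
  have : Mono φ := (h.rk_image_eq_zero_or φ (lf_of_isInvertible hN).1 l (lf_of_isInvertible hN).2).resolve_left hφ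
  have := mono_twMap (X := X) hL φ
  let c : CohB1.tensorMod (CohB1.tensorMod E J) L ≅ E :=
    EGA73.tensAssoc' E J L ≪≫ (EGA73.tensComm E (CohB1.tensorMod J L)) ≪≫
      (Crv77.twist E).mapIso (EGA73.tensComm J L ≪≫ e) ≪≫ EGA73.tensUnitLeft E
  let n : CohB1.tensorMod N L ⟶ E := twMap φ L ≫ c.hom
  have : Mono n := mono_comp _ _
  have hi := EGA73.isInvertible_tensorMod hN hL
  refine ⟨_, n, hi, by rw [h.dg_invertible_tensor hN hL, hdN, hdL, zero_add], fun z => ?_⟩
  have hz : IsZero (CohB1.tensorMod N L) := (IsZero.iff_id_eq_zero _).2 <| by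
    rw [← cancel_mono n, z, comp_zero, comp_zero]
  have := rk_eq_zero_of_isZero hz
  have := (lf_of_isInvertible hi).2
  omega

/-- An idempotent that is not a scalar, from a decomposition. -/
theorem not_scalar_of_decomp {E E₁ E₂ : X.Modules} (e : E ≅ E₁ ⊞ E₂) (hE : FlatMod.IsFinLocFree E)
    (h₁ : ¬ IsZero E₁) (h₂ : ¬ IsZero E₂) (c : k) :
    e.hom ≫ biprod.fst ≫ biprod.inl ≫ e.inv ≠ scal E c := fun hc => by
  obtain ⟨l₁, l₂, -, -⟩ := h.biprod_parts e hE
  rcases eq_or_ne c 0 with rfl | hc0
  · rw [scal_zero] at hc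
    refine h₁ ((IsZero.iff_id_eq_zero _).2 ?_)
    have h' := congrArg (fun f => biprod.inl ≫ e.inv ≫ f ≫ e.hom ≫ biprod.fst) hc
    simpa using h'
  · have := isIso_scal E hc0
    rw [← hc] at this
    refine h₂ ((IsZero.iff_id_eq_zero _).2 ?_)
    have : Mono (e.hom ≫ biprod.fst ≫ biprod.inl ≫ e.inv) := inferInstance
    have h0 : biprod.inr ≫ e.inv = 0 := by
      rw [← cancel_mono (e.hom ≫ biprod.fst ≫ biprod.inl ≫ e.inv)]
      simp
    have h' := congrArg (fun f => f ≫ e.hom ≫ biprod.snd) h0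
    simpa using h'

end Cur

theorem indecomposable_of_simple {E : X.Modules} (h : Cur k X) (hE : FlatMod.IsFinLocFree E)
    (hsimple : ∀ φ : E ⟶ E, ∃ c : k, φ = scal E c) (E₁ E₂ : X.Modules) (e : Nonempty (E ≅ E₁ ⊞ E₂)) :
    IsZero E₁ ∨ IsZero E₂ := by
  obtain ⟨e⟩ := e
  by_contra hne
  obtain ⟨h₁, h₂⟩ := not_or.1 hne
  obtain ⟨c, hc⟩ := hsimple (e.hom ≫ biprod.fst ≫ biprod.inl ≫ e.inv)
  exact h.not_scalar_of_decomp e hE h₁ h₂ c hc

section Setup

variable (hS : CrvPic30.Setup k X)
include hS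

set_option maxHeartbeats 1000000 in
/-- An indecomposable bundle of rank two and even degree is a self-extension of a line bundle. -/
theorem exists_selfExt [IsAlgClosed k] (hg : Curv2.genus k X = 1) {E : X.Modules} (hE : FlatMod.IsFinLocFree E)
    (h2 : rk E = 2) (hind : ∀ E₁ E₂ : X.Modules, Nonempty (E ≅ E₁ ⊞ E₂) → IsZero E₁ ∨ IsZero E₂)
    {m : ℤ} (hd : dg k E = 2 * m) :
    ∃ (M : X.Modules) (i : M ⟶ E) (q : E ⟶ M) (w : i ≫ q = 0),
      PicF.IsInvertible M ∧ (ShortComplex.mk i q w).ShortExact := by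
  have h := cur_of_setup hS
  have hss := ss_of_indecomposable hS hg hE (by omega) hind
  obtain ⟨M, i, hM, hdM, hi0⟩ := h.exists_line_slope (euler_eq_zero_of_genus_one hS hg) hE (by omega)
    (m := m) (by rw [h2, hd]; push_cast; linarith)
  obtain ⟨lM, rM⟩ := lf_of_isInvertible hM
  have : Mono i := (h.rk_image_eq_zero_or i lM hE rM).resolve_left hi0
  have lQ := h.isFinLocFree_cokernel_of_max i hE lM (by omega) fun G j hj hG0 hG => by
    have := hss G j hj hG0 hG
    rw [h2, hd] at this
    rw [rM, hdM]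
    push_cast at this ⊢
    linarith
  obtain ⟨rQ, dQ⟩ := h.rk_cokernel i (isCoh_of_isFinLocFree lM) (isCoh_of_isFinLocFree hE)
  by_cases hz : ∀ φ : M ⟶ cokernel i, φ = 0
  · exfalso
    have := h.isSplitEpi_of_h1 (shortExact_cokernel i) lQ (h1_hom_subsingleton_genus_one hS hg lM lQ hz)
    let s := ShortComplex.Splitting.ofExactOfSection (ShortComplex.mk i (cokernel.π i) (cokernel.condition i))
      (shortExact_cokernel i).exact (section_ (cokernel.π i)) (IsSplitEpi.id (cokernel.π i)) ‹Mono i›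
    rcases hind M (cokernel i) ⟨s.isoBinaryBiproduct⟩ with hZ | hZ <;>
      · have := rk_eq_zero_of_isZero hZ; omega
  · obtain ⟨φ, hφ⟩ := not_forall.1 hz
    have : Mono φ := (h.rk_image_eq_zero_or φ lM lQ rM).resolve_left hφ
    have := h.isIso_of_rk_eq φ (isCoh_of_isFinLocFree lM) (isCoh_of_isFinLocFree lQ) (by omega) (by omega)
    refine ⟨M, i, cokernel.π i ≫ inv φ, by rw [cokernel.condition_assoc, zero_comp], hM, ?_⟩
    exact ShortComplex.shortExact_of_iso
      (ShortComplex.isoMk (Iso.refl M) (Iso.refl E) (asIso φ).symm (by simp) (by simp)) (shortExact_cokernel i)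

theorem not_simple_even [IsAlgClosed k] (hg : Curv2.genus k X = 1) {E : X.Modules} (hE : FlatMod.IsFinLocFree E)
    (h2 : rk E = 2) {m : ℤ} (hd : dg k E = 2 * m) : ∃ φ : E ⟶ E, ∀ c : k, φ ≠ scal E c := by
  have h := cur_of_setup hS
  by_cases hind : ∀ E₁ E₂ : X.Modules, Nonempty (E ≅ E₁ ⊞ E₂) → IsZero E₁ ∨ IsZero E₂
  · obtain ⟨M, i, q, w, hM, hSE⟩ := exists_selfExt hS hg hE h2 hind hd
    have : Mono i := hSE.mono_f
    have : Epi q := hSE.epi_g
    refine ⟨q ≫ i, fun c hc => ?_⟩
    have h2' : scal E (c * c) = 0 := by rw [scal_mul, ← hc, Category.assoc, reassoc_of% w, zero_comp, comp_zero]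
    rw [mul_self_eq_zero.1 (eq_zero_of_scal_eq_zero (by omega) h2'), scal_zero] at hc
    have hid : 𝟙 M = 0 := by
      rw [← cancel_mono i, ← cancel_epi q, Category.id_comp, hc, zero_comp, comp_zero]
    have := rk_eq_zero_of_isZero ((IsZero.iff_id_eq_zero _).2 hid)
    have := (lf_of_isInvertible hM).2
    omega
  · simp only [not_forall, not_or] at hind
    obtain ⟨E₁, E₂, ⟨e⟩, h₁, h₂⟩ := hind
    exact ⟨_, h.not_scalar_of_decomp e hE h₁ h₂⟩

end Setup

namespace Cur

variable (h : Cur k X)
include h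

/-- The slope of a module with jointly injective maps to a semistable bundle. -/
theorem slope_le_of_joint {W : X.Modules} (hW : FlatMod.IsFinLocFree W) (hs : SS k W) :
    ∀ (n : ℕ) (G : X.Modules) (f : Fin n → (G ⟶ W)), FlatMod.IsFinLocFree G →
      (∀ (Z : X.Modules) (u : Z ⟶ G), (∀ i, u ≫ f i = 0) → u = 0) → dg k G * rk W ≤ dg k W * rk G
  | 0, G, f, lG, hf => by
    have hz : IsZero G := (IsZero.iff_id_eq_zero _).2 (hf G (𝟙 G) fun i => i.elim0)
    rw [h.dg_of_rk_zero lG (rk_eq_zero_of_isZero hz), rk_eq_zero_of_isZero hz]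
    simp
  | n + 1, G, f, lG, hf => by
    obtain ⟨K, I, i, p, j, hi, hp, hj, hz, -, lK, lI, r, d, -, -⟩ := h.exists_ker_im (f 0) lG hW
    have a := slope_le_of_joint hW hs n K (fun l => i ≫ f l.succ) lK fun Z u hu => by
      rw [← cancel_mono i, zero_comp]
      refine hf Z _ fun l => ?_
      refine Fin.cases ?_ (fun l => ?_) l
      · rw [Category.assoc, hz, comp_zero]
      · rw [Category.assoc]; exact hu l
    have b : dg k I * rk W ≤ dg k W * rk I := by
      rcases Nat.eq_zero_or_pos (rk I) with z | z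
      · rw [h.dg_of_rk_zero lI z, z]; simp
      · exact hs I j hj z lI
    rw [r, d]
    push_cast
    linarith

theorem exists_line_deg_of_point {P : X} (hP : IsClosed ({P} : Set X))
    (hd1 : Module.finrank k (X.residueField P) = 1) (n : ℤ) :
    ∃ L : X.Modules, PicF.IsInvertible L ∧ dg k L = n := by
  have := h.isNoetherian
  have := h.proper
  have hO : PicF.IsInvertible (Coh.structureModule X) := EGA73.isInvertible_structureModule
  have hI : PicF.IsInvertible (ClSub.idealMod (Crv77.ptIdeal hP)) := by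
    obtain ⟨_, _⟩ := h.stalks P
    refine Curves2.isInvertible_ptIdeal h.dim.le hP ?_
    obtain ⟨y, hy⟩ := Crv77.exists_ne_genericPoint h.dim
    by_cases hPy : P = y
    · exact ⟨genericPoint X, fun e => hy (by rw [← hPy, e])⟩
    · exact ⟨y, Ne.symm hPy⟩
  have hd : dg k (ClSub.idealMod (Crv77.ptIdeal hP)) = -1 := by
    rw [← deg_eq_dg_of_isInvertible hI,
      ← Curves2.deg_congr k ((EGA73.tensComm _ _) ≪≫ EGA73.tensUnitLeft (ClSub.idealMod (Crv77.ptIdeal hP))),
      Curves2.deg_ptIdeal_tensor' h.dim.le hP hO, Curves2.deg_structureModule k, hd1]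
    rfl
  generalize ClSub.idealMod (Crv77.ptIdeal hP) = I at hI hd
  obtain ⟨J, hJ, ⟨e⟩⟩ := Crv77.exists_inverse hI
  have hJd : dg k J = 1 := by
    have := h.dg_invertible_tensor hI hJ
    rw [dg_congr e, h.dg_structureModule, hd] at this
    omega
  induction n using Int.induction_on with
  | zero => exact ⟨_, hO, h.dg_structureModule⟩
  | succ n ih =>
    obtain ⟨L, hL, hn⟩ := ih
    exact ⟨_, EGA73.isInvertible_tensorMod hL hJ, by rw [h.dg_invertible_tensor hL hJ, hn, hJd]⟩
  | pred n ih =>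
    obtain ⟨L, hL, hn⟩ := ih
    exact ⟨_, EGA73.isInvertible_tensorMod hL hI, by rw [h.dg_invertible_tensor hL hI, hn, hd]; ring⟩

end Cur

section Setup

variable (hS : CrvPic30.Setup k X)
include hS

set_option maxHeartbeats 1000000 in
/-- Subsheaves of a tensor product of semistable bundles exceed its slope by at most two. -/
theorem slope_tensor_le (hg : Curv2.genus k X = 1) {P : X} (hP : IsClosed ({P} : Set X))
    (hd1 : Module.finrank k (X.residueField P) = 1) {F F' G : X.Modules} (hF : FlatMod.IsFinLocFree F)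
    (hF' : FlatMod.IsFinLocFree F') (hG : FlatMod.IsFinLocFree G) (h0 : 0 < rk F) (h0' : 0 < rk F')
    (hs : SS k F) (hs' : SS k F') (i : G ⟶ CohB1.tensorMod F F') [Mono i] :
    dg k G * rk F * rk F' ≤ rk G * (2 * rk F * rk F' + dg k F * rk F' + dg k F' * rk F) := by
  have h := cur_of_setup hS
  have hr : (0 : ℤ) < rk F := by exact_mod_cast h0
  obtain ⟨L, hL, hdL⟩ := h.exists_line_deg_of_point hP hd1 (dg k F / rk F + 2)
  have hlt := Int.lt_ediv_add_one_mul_self (dg k F) hr
  have hle := Int.ediv_mul_le (dg k F) hr.ne'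
  obtain ⟨M, -, j, hj⟩ := exists_mono_sigma hS hF hL hs hg (by rw [hdL]; linarith) hP hd1
  let j' : F ⟶ ⨁ fun _ : Fin M => L := j ≫ (biproduct.isoCoproduct _).inv
  have : Mono j' := mono_comp _ _
  have hm : Mono (twMap j' F') := (Crv77.shortExact_tR_of_locally_flat (O := X.sheaf) F'
    (locally_flat_of_isFinLocFree hF') (shortExact_cokernel j')).mono_f
  obtain ⟨lW, rW, dW⟩ := h.tensor_invertible hF' hL
  have hWs := h.ss_twist hF' hL hs'
  let adj : Crv77.twist F' ⊣ homFunctor F' := homModAdjR F'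
  haveI : (homFunctor F').Additive := (homModAdj F').right_adjoint_additive
  haveI : (Crv77.twist F').Additive := adj.left_adjoint_additive
  have a := h.slope_le_of_joint lW hWs M G
    (fun l => i ≫ twMap (j' ≫ biproduct.π (fun _ : Fin M => L) l) F' ≫ (EGA73.tensComm L F').hom) hG
    fun Z u hu => by
      refine (cancel_mono (i ≫ twMap j' F')).1 ?_
      rw [zero_comp]
      have htot : twMap j' F' = ∑ l, twMap (j' ≫ biproduct.π (fun _ : Fin M => L) l) F' ≫
          twMap (biproduct.ι (fun _ : Fin M => L) l) F' := by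
        have := congrArg (fun f => (Crv77.twist F').map (j' ≫ f)) (biproduct.total (f := fun _ : Fin M => L)).symm
        simp only [Category.comp_id, Preadditive.comp_sum, Functor.map_sum] at this
        refine this.trans (Finset.sum_congr rfl fun l _ => ?_)
        rw [← Category.assoc, Functor.map_comp]
        rfl
      rw [htot, Preadditive.comp_sum, Preadditive.comp_sum]
      refine Finset.sum_eq_zero fun l _ => ?_
      have hl := hu l
      have hl' : u ≫ i ≫ twMap (j' ≫ biproduct.π (fun _ : Fin M => L) l) F' = 0 := by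
        rw [← cancel_mono (EGA73.tensComm L F').hom, zero_comp, Category.assoc, Category.assoc]
        exact hl
      calc u ≫ i ≫ twMap (j' ≫ biproduct.π (fun _ : Fin M => L) l) F' ≫ twMap (biproduct.ι (fun _ : Fin M => L) l) F'
          = (u ≫ i ≫ twMap (j' ≫ biproduct.π (fun _ : Fin M => L) l) F') ≫ twMap (biproduct.ι (fun _ : Fin M => L) l) F' := by
            simp only [Category.assoc]
        _ = 0 := by rw [hl', zero_comp]
  rw [rW, dW, hdL] at a
  have h1 := mul_le_mul_of_nonneg_right a hr.le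
  have h2 := mul_le_mul_of_nonneg_left hle (show (0 : ℤ) ≤ rk G * rk F' by positivity)
  nlinarith

end Setup

end Groth.Agent.VB30
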