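import Groth.Agent.VB30.G1b
import Groth.Agent.VarCurve.AmpleDeg

/-! Semistability detected by global sections of a high twist. -/

set_option autoImplicit false
set_option linter.style.haveILetI false
set_option linter.unusedSectionVars false
set_option backward.isDefEq.respectTransparency.types false

noncomputable section

universe u

open CategoryTheory CategoryTheory.Limits AlgebraicGeometry TopologicalSpace Opposite
open Groth.Agent.QC70 Groth.Agent.Props58.LocFree

namespace Groth.Agent.VB30

variable {k : Type u} [Field k] {X : Scheme.{u}} [X.Over (Spec (CommRingCat.of k))] [IsIntegral X]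

namespace Cur

variable (h : Cur k X)
include h

theorem ss_biproduct_const {n : ℕ} {L : X.Modules} (hL : PicF.IsInvertible L) : SS k (⨁ fun _ : Fin n => L) := by
  intro G i hi h0 hG
  obtain ⟨lL, rL⟩ := lf_of_isInvertible hL
  obtain ⟨rT, dT⟩ := h.rk_dg_biproduct (fun _ : Fin n => L) fun _ => hL
  have a := h.slope_le_of_joint lL (h.ss_of_st lL (h.st_line rL)) n G
    (fun l => i ≫ biproduct.π (fun _ : Fin n => L) l) hG fun Z u hu => by
      rw [← cancel_mono i, zero_comp]
      exact biproduct.hom_ext _ _ fun l => by rw [zero_comp, Category.assoc]; exact hu l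
  rw [rL, Nat.cast_one, mul_one] at a
  rw [rT, dT, Finset.sum_const, Finset.card_univ, Fintype.card_fin, nsmul_eq_mul]
  have := mul_le_mul_of_nonneg_left a (Int.natCast_nonneg n)
  linarith

theorem dg_tensorPow {L : X.Modules} (hL : PicF.IsInvertible L) : ∀ n : ℕ, dg k (CohB1.tensorPow L n) = n * dg k L
  | 0 => by
    change dg k (Coh.structureModule X) = _
    rw [h.dg_structureModule]; simp
  | n + 1 => by
    change dg k (CohB1.tensorMod (CohB1.tensorPow L n) L) = _
    rw [h.dg_invertible_tensor (EGA73.isInvertible_tensorPow hL n) hL, dg_tensorPow hL n]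
    push_cast; ring

end Cur

section Setup

variable (hS : CrvPic30.Setup k X)
include hS

set_option maxHeartbeats 1000000 in
/-- A bound on sections when all subsheaves have slope at most `a`/`b`. -/
theorem h0_le_of_slope_le [IsAlgClosed k] {a : ℤ} {b : ℕ} (hb : 0 < b)
    (ha : (b : ℤ) * (3 * (Curv2.genus k X : ℤ) + 1) ≤ a) {G : X.Modules} (hG : FlatMod.IsFinLocFree G)
    (hsub : ∀ (F : X.Modules) (i : F ⟶ G), Mono i → 0 < rk F → FlatMod.IsFinLocFree F → dg k F * b ≤ a * rk F) :
    (Module.finrank k (Coh.HH X G 0) : ℤ) * b ≤ rk G * (a + b * (1 - (Curv2.genus k X : ℤ))) := by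
  have h := cur_of_setup hS
  induction n : rk G using Nat.strong_induction_on generalizing G with
  | _ m ih =>
    subst n
    rcases Nat.eq_zero_or_pos (rk G) with z | z
    · have hz := h.isZero_of_rk_eq_zero hG z
      have : Subsingleton (Coh.HH X G 0) := subsingleton_of_forall_eq 0 fun x => by
        refine (Crv77.sec G).injective ?_
        have := Crv77.sec_hmap k (𝟙 G) x
        rw [Crv77.hmap_id, hz.eq_of_src (𝟙 G) 0] at this
        rw [this, map_zero]
        rfl
      rw [z, Module.finrank_zero_of_subsingleton]; simp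
    obtain ⟨E₁, i₁, hi₁, l₁, h1, hmax, hrk⟩ := h.exists_max hG z
    have lQ := h.isFinLocFree_cokernel_of_max i₁ hG l₁ h1 hmax
    obtain ⟨rQ, dQ⟩ := h.rk_cokernel i₁ (isCoh_of_isFinLocFree l₁) (isCoh_of_isFinLocFree hG)
    have hss := h.ss_of_max i₁ hmax
    have hE := hsub E₁ i₁ hi₁ h1 l₁
    have hQ := ih (rk (cokernel i₁)) (by omega) lQ (fun F j hj hF0 hF => by
      have a' := h.quot_slope_lt i₁ hG l₁ h1 hmax hrk j hF hF0
      have := mul_le_mul_of_nonneg_right hE (Int.natCast_nonneg (rk F))
      have := mul_le_mul_of_nonneg_right a'.le (Int.natCast_nonneg b)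
      have hp : (0 : ℤ) < rk E₁ := by exact_mod_cast h1
      nlinarith) rfl
    have hbz : (0 : ℤ) < b := by exact_mod_cast hb
    have he : (Module.finrank k (Coh.HH X E₁ 0) : ℤ) * b ≤ rk E₁ * (a + b * (1 - (Curv2.genus k X : ℤ))) := by
      rcases lt_or_ge ((rk E₁ : ℤ) * (2 * (Curv2.genus k X : ℤ) - 2)) (dg k E₁) with hl | hl
      · have := h1_subsingleton_of_ss hS l₁ hss hl
        have e := h.h0_sub_h1 (isCoh_of_isFinLocFree l₁)
        rw [Module.finrank_zero_of_subsingleton (M := Coh.HH X E₁ 1), euler_structureModule hS, Nat.cast_zero,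
          sub_zero] at e
        rw [e]
        nlinarith
      · have hp : (0 : ℤ) < rk E₁ := by exact_mod_cast h1
        have hle := finrank_h0_le_of_ss hS l₁ hss (2 * Curv2.genus k X + 1) (by push_cast; nlinarith)
        have hle' : (Module.finrank k (Coh.HH X E₁ 0) : ℤ) ≤ rk E₁ * (2 * (Curv2.genus k X : ℤ) + 1) := by
          exact_mod_cast hle
        have := mul_le_mul_of_nonneg_right hle' hbz.le
        have := mul_le_mul_of_nonneg_left ha hp.le
        nlinarith
    have hf := Crv77.exact_f_g (A := k) (shortExact_cokernel i₁) 0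
    have := h.curveCoh.finite _ (isCoh_of_isFinLocFree hG) 0
    have := h.curveCoh.finite _ (isCoh_of_isFinLocFree l₁) 0
    have := h.curveCoh.finite _ (isCoh_of_isFinLocFree lQ) 0
    have e1 := LinearMap.finrank_range_add_finrank_ker (Crv77.hmap k (cokernel.π i₁) 0)
    have e2 : LinearMap.ker (Crv77.hmap k (cokernel.π i₁) 0) = LinearMap.range (Crv77.hmap k i₁ 0) :=
      LinearMap.exact_iff.1 hf
    rw [e2] at e1
    have e3 := LinearMap.finrank_range_le (Crv77.hmap k i₁ 0)
    have e4 := Submodule.finrank_le (LinearMap.range (Crv77.hmap k (cokernel.π i₁) 0))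
    have e5 : (Module.finrank k (Coh.HH X G 0) : ℤ) ≤
        Module.finrank k (Coh.HH X E₁ 0) + Module.finrank k (Coh.HH X (cokernel i₁) 0) := by omega
    have := mul_le_mul_of_nonneg_right e5 hbz.le
    have hr : (rk G : ℤ) = rk E₁ + rk (cokernel i₁) := by omega
    rw [hr]
    linarith

set_option maxHeartbeats 1000000 in
/-- Semistability by sections of a twist by a line bundle of large degree. -/
theorem ss_iff_h0 [IsAlgClosed k] {F M : X.Modules} {N : ℕ} (hF : FlatMod.IsFinLocFree F) (h0 : 0 < rk F)
    (hM : PicF.IsInvertible M) (q : FlatMod.freeMod X N ⟶ F) [Epi q]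
    (hbig : (rk F : ℤ) * (3 * (Curv2.genus k X : ℤ) + 1) ≤ dg k F + rk F * dg k M)
    (hM2 : 2 * (Curv2.genus k X : ℤ) - 2 < dg k M) :
    SS k F ↔ ∀ (F' : X.Modules) (i : F' ⟶ F), Mono i → 0 < rk F' → FlatMod.IsFinLocFree F' →
      Module.finrank k (Coh.HH X (CohB1.tensorMod F' M) 0) * rk F ≤
        Module.finrank k (Coh.HH X (CohB1.tensorMod F M) 0) * rk F' := by
  have h := cur_of_setup hS
  obtain ⟨lM, rM⟩ := lf_of_isInvertible hM
  obtain ⟨lT, rT, dT⟩ := h.tensor_invertible hF hM
  -- vanishing
  have h1 : Subsingleton (Coh.HH X (CohB1.tensorMod F M) 1) := by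
    let c := biproduct.isoCoproduct (fun _ : Fin N => Coh.structureModule X)
    let q' : (⨁ fun _ : Fin N => Coh.structureModule X) ⟶ F := c.hom ≫ q
    have : Epi q' := epi_comp _ _
    have lB : FlatMod.IsFinLocFree (⨁ fun _ : Fin N => Coh.structureModule X) :=
      isFinLocFree_biproduct_const EGA73.isInvertible_structureModule
    have : F.IsFiniteType := (isCoh_of_isFinLocFree hF).2
    have : (⨁ fun _ : Fin N => Coh.structureModule X).IsFiniteType := (isCoh_of_isFinLocFree lB).2
    have hN : 0 < rk (⨁ fun _ : Fin N => Coh.structureModule X) := h0.trans_le (rk_le_of_epi q')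
    obtain ⟨lBM, rBM, dBM⟩ := h.tensor_invertible lB hM
    obtain ⟨rB, dB⟩ := h.rk_dg_biproduct (fun _ : Fin N => Coh.structureModule X)
      fun _ => EGA73.isInvertible_structureModule
    rw [Finset.sum_eq_zero fun _ _ => h.dg_structureModule] at dB
    have hss := h.ss_twist lB hM (h.ss_biproduct_const (n := N) EGA73.isInvertible_structureModule)
    have := h1_subsingleton_of_ss hS lBM hss (by
      rw [rBM, dBM, dB, zero_add]
      exact mul_lt_mul_of_pos_left hM2 (by exact_mod_cast hN))
    obtain ⟨w, hw⟩ := shortExact_twMap hM (show (ShortComplex.mk (kernel.ι q') q' (kernel.condition q')).ShortExact from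
      { exact := ShortComplex.exact_of_f_is_kernel _ (kernelIsKernel q') })
    have hKc := h.isCoh_kernel (twMap q' M) (isCoh_of_isFinLocFree lBM) (isCoh_of_isFinLocFree lT)
    obtain ⟨u, hu⟩ : ∃ u : CohB1.tensorMod (kernel q') M ⟶ kernel (twMap q' M), IsIso u := ⟨_, hw.fIsKernel.conePointUniqueUpToIso (kernelIsKernel _) |>.isIso_hom⟩
    have hK2 : Subsingleton (Coh.HH X (CohB1.tensorMod (kernel q') M) 2) :=
      h.curveCoh.vanish _ (QC70.isCoh_of_iso (asIso u).symm hKc) 2 le_rfl
    refine subsingleton_of_forall_eq 0 fun y => ?_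
    obtain ⟨x, rfl⟩ := (Crv77.exact_g_δ k hw 1 y).1 (@Subsingleton.elim _ hK2 _ _)
    have hx : x = 0 := @Subsingleton.elim _ this _ _
    rw [hx, map_zero]
  have eT := h.h0_sub_h1 (isCoh_of_isFinLocFree lT)
  rw [Module.finrank_zero_of_subsingleton (M := Coh.HH X (CohB1.tensorMod F M) 1), euler_structureModule hS,
    Nat.cast_zero, sub_zero, dT, rT] at eT
  constructor
  · intro hs F' i hi hF0 hF'
    obtain ⟨l', r', d'⟩ := h.tensor_invertible hF' hM
    have := mono_twMap (X := X) hM i
    have hb := h0_le_of_slope_le hS h0 hbig l' fun G j hj hG0 hG => by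
      have := (h.ss_twist hF hM hs) G (j ≫ twMap i M) (mono_comp _ _) hG0 hG
      rwa [rT, dT] at this
    rw [r'] at hb
    have : (Module.finrank k (Coh.HH X (CohB1.tensorMod F' M) 0) : ℤ) * rk F ≤
        (Module.finrank k (Coh.HH X (CohB1.tensorMod F M) 0) : ℤ) * rk F' := by
      rw [eT]; linarith
    exact_mod_cast this
  · intro hc G i hi hG0 hG
    obtain ⟨l', r', d'⟩ := h.tensor_invertible hG hM
    have a : (Module.finrank k (Coh.HH X (CohB1.tensorMod G M) 0) : ℤ) * rk F ≤
        (Module.finrank k (Coh.HH X (CohB1.tensorMod F M) 0) : ℤ) * rk G := by exact_mod_cast hc G i hi hG0 hG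
    have e := h.h0_sub_h1 (isCoh_of_isFinLocFree l')
    rw [euler_structureModule hS, d', r'] at e
    rw [eT] at a
    have e' : dg k G + rk G * dg k M + rk G * (1 - (Curv2.genus k X : ℤ)) ≤
        Module.finrank k (Coh.HH X (CohB1.tensorMod G M) 0) := by omega
    have := mul_le_mul_of_nonneg_right e' (Int.natCast_nonneg (rk F))
    nlinarith

end Setup

end Groth.Agent.VB30
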