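import Groth.Agent.VB30.Gen2
import Groth.Agent.VB30.Endo
import Groth.Agent.DCoh43.StrictlyPerfect

/-! Lines of given degree and their maps to vector bundles in genus one. -/

set_option autoImplicit false
set_option linter.style.haveILetI false
set_option linter.unusedSectionVars false
set_option backward.isDefEq.respectTransparency.types false

noncomputable section

universe u

attribute [local instance] Curv2.resAlgebra

open CategoryTheory CategoryTheory.Limits AlgebraicGeometry TopologicalSpace Opposite
open Groth.Agent.QC70 Groth.Agent.Props58.LocFree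

namespace Groth.Agent.VB30

variable {k : Type u} [Field k] {X : Scheme.{u}} [X.Over (Spec (CommRingCat.of k))] [IsIntegral X]

theorem isFinLocFree_biproduct_const {n : ℕ} {L : X.Modules} (hL : PicF.IsInvertible L) :
    FlatMod.IsFinLocFree (⨁ fun _ : Fin n => L) := isFinLocFree_biproduct' _ fun _ => hL

/-- Splitting off the first summand. -/
def biproductSuccIso {n : ℕ} (P : Fin (n + 1) → X.Modules) : ⨁ P ≅ P 0 ⊞ ⨁ fun i : Fin n => P i.succ where
  hom := biprod.lift (biproduct.π P 0) (biproduct.lift fun i => biproduct.π P i.succ)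
  inv := biprod.desc (biproduct.ι P 0) (biproduct.desc fun i => biproduct.ι P i.succ)
  hom_inv_id := by
    rw [biprod.lift_desc, biproduct.lift_desc, ← biproduct.total, Fin.sum_univ_succ]
  inv_hom_id := by
    refine biprod.hom_ext' _ _ (biprod.hom_ext _ _ ?_ ?_) (biprod.hom_ext _ _ ?_ ?_)
    · simp
    · refine biproduct.hom_ext _ _ fun j => ?_
      simp [biproduct.ι_π_ne _ (Fin.succ_ne_zero j).symm]
    · refine biproduct.hom_ext' _ _ fun j => ?_
      simp [biproduct.ι_π_ne _ (Fin.succ_ne_zero j)]
    · refine biproduct.hom_ext' _ _ fun j => biproduct.hom_ext _ _ fun i => ?_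
      by_cases e : j = i
      · subst e; simp
      · simp [biproduct.ι_π_ne _ e, biproduct.ι_π_ne P (fun hh => e (Fin.succ_inj.1 hh))]

namespace Cur

variable (h : Cur k X)
include h

theorem rk_dg_biproduct {n : ℕ} (P : Fin n → X.Modules) (hP : ∀ i, PicF.IsInvertible (P i)) :
    rk (⨁ P) = n ∧ dg k (⨁ P) = ∑ i, dg k (P i) := by
  induction n with
  | zero =>
    have hz : IsZero (⨁ P) := (IsZero.iff_id_eq_zero _).2 (biproduct.hom_ext _ _ fun i => i.elim0)
    have := rk_eq_zero_of_isZero hz
    exact ⟨this, by rw [Fin.sum_univ_zero]; exact h.dg_of_rk_zero (isFinLocFree_biproduct' P hP) this⟩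
  | succ n ih =>
    obtain ⟨-, -, r, d⟩ := h.biprod_parts (biproductSuccIso P) (isFinLocFree_biproduct' P hP)
    obtain ⟨r', d'⟩ := ih (fun i => P i.succ) fun i => hP _
    exact ⟨by rw [r, r', (lf_of_isInvertible (hP 0)).2, add_comm], by rw [d, d', Fin.sum_univ_succ]⟩

theorem exists_closed [IsAlgClosed k] :
    ∃ P : X, IsClosed ({P} : Set X) ∧ Module.finrank k (X.residueField P) = 1 := by
  have := h.proper
  have := h.isNoetherian
  obtain ⟨P, -, hP⟩ := IsClosed.exists_closed_singleton (isClosed_univ (X := X)) Set.univ_nonempty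
  exact ⟨P, hP, Crv77.finrank_residueField_eq_one (k := k) hP⟩

theorem exists_line_neg_one [IsAlgClosed k] : ∃ I : X.Modules, PicF.IsInvertible I ∧ dg k I = -1 := by
  obtain ⟨I, hI, hd, -⟩ := h.h0_le_point_twist (lf_of_isInvertible (X := X) EGA73.isInvertible_structureModule).1
  exact ⟨I, hI, hd⟩

theorem exists_line_deg [IsAlgClosed k] (n : ℤ) : ∃ L : X.Modules, PicF.IsInvertible L ∧ dg k L = n := by
  have := h.isNoetherian
  obtain ⟨I, hI, hd⟩ := h.exists_line_neg_one
  have hO : PicF.IsInvertible (Coh.structureModule X) := EGA73.isInvertible_structureModule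
  obtain ⟨J, hJ, ⟨e⟩⟩ := Crv77.exists_inverse hI
  have hJd : dg k J = 1 := by
    have := h.dg_invertible_tensor hI hJ
    rw [dg_congr e, h.dg_structureModule, hd] at this
    omega
  induction n using Int.induction_on with
  | zero => exact ⟨_, hO, h.dg_structureModule⟩
  | succ n ih =>
    obtain ⟨L, hL, hn⟩ := ih
    exact ⟨_, EGA73.isInvertible_tensorMod hL hJ, by rw [h.dg_invertible_tensor hL hJ, hn, hJd]⟩
  | pred n ih =>
    obtain ⟨L, hL, hn⟩ := ih
    exact ⟨_, EGA73.isInvertible_tensorMod hL hI, by rw [h.dg_invertible_tensor hL hI, hn, hd]; ring⟩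

set_option maxHeartbeats 1000000 in
/-- Without subbundles of rank one and positive degree, a section is determined by a value. -/
theorem eq_zero_of_value {G : X.Modules} (hG : FlatMod.IsFinLocFree G)
    (hl : ∀ (F : X.Modules) (j : F ⟶ G), Mono j → rk F = 1 → FlatMod.IsFinLocFree F → dg k F ≤ 0)
    {P : X} {x : Coh.HH X G 0}
    (hg : germM G ⊤ P trivial (Crv77.sec G x) ∈
      IsLocalRing.maximalIdeal (X.presheaf.stalk P) • (⊤ : Submodule (X.presheaf.stalk P) (G.presheaf.stalk P))) :
    x = 0 := by
  by_contra hx0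
  obtain ⟨lO, rO⟩ := lf_of_isInvertible (X := X) EGA73.isInvertible_structureModule
  let s := Crv77.toHom x
  have hs0 : s ≠ 0 := fun e => hx0 <| (Crv77.sec G).injective (by
    rw [map_zero, ← Crv77.toHom_app_one x, show Crv77.toHom x = 0 from e]; rfl)
  have : Mono s := (h.rk_image_eq_zero_or s lO hG rO).resolve_left hs0
  have hQ : FlatMod.IsFinLocFree (cokernel s) := by
    obtain ⟨G', i', a, hi', ha, hfac, hG', hQ, hr, hd⟩ := h.exists_saturation s (isCoh_of_isFinLocFree lO) hG
    have := h.isIso_of_rk_eq a (isCoh_of_isFinLocFree lO) (isCoh_of_isFinLocFree hG') hr.symm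
      (by rw [h.dg_structureModule]; exact hl G' i' hi' (hr.trans rO) hG')
    have e : cokernel i' ≅ cokernel s :=
      cokernel.mapIso i' s (asIso a).symm (Iso.refl G)
        (by simp only [Iso.refl_hom, Category.comp_id, Iso.symm_hom, asIso_inv, IsIso.eq_inv_comp, hfac])
    exact h.isFinLocFree_of_isTF (QC70.isCoh_of_iso e (isCoh_of_isFinLocFree hQ))
      ((isTF_of_isFinLocFree hQ).of_mono e.inv)
  let l := stalkLinear s P
  let p := stalkLinear (cokernel.π s) P
  have hli : Function.Injective l := injective_stalkMapM_of_mono s P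
  have hsu : Function.Surjective p := surjective_stalkMapM_of_epi (cokernel.π s) P
  obtain ⟨V, m, d, hPV, hd'⟩ := isFinLocFree_iff.mp hQ P
  have := hd'.free_stalk P hPV
  obtain ⟨q, hq⟩ := Module.projective_lifting_property p LinearMap.id hsu
  have hex : Function.Exact l p := fun e => by
    constructor
    · exact fun he => stalkMapM_exact (ShortComplex.mk s (cokernel.π s) (cokernel.condition s))
        (ShortComplex.exact_of_g_is_cokernel _ (cokernelIsCokernel s)) P e he
    · rintro ⟨a, rfl⟩
      change stalkMapM (cokernel.π s) P (stalkMapM s P a) = 0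
      obtain ⟨W, hW, w, rfl⟩ := germM_exist a
      rw [stalkMapM_germ, stalkMapM_germ]
      have h0 := congrArg (fun f => f.app W w) (cokernel.condition s)
      exact (congrArg (germM _ W P hW) h0).trans (germM_zero hW)
  have hsp : ∃ q', p ∘ₗ q' = LinearMap.id := ⟨q, hq⟩
  obtain ⟨r, hr⟩ := ((hex.split_tfae hli hsu).out 0 1).1 hsp
  have hall : (⊤ : Submodule (X.presheaf.stalk P) ((Coh.structureModule X).presheaf.stalk P)) ≤
      IsLocalRing.maximalIdeal (X.presheaf.stalk P) • ⊤ := fun e _ => by
    obtain ⟨W, hW, a, rfl⟩ := germM_exist e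
    have he : l (germM (Coh.structureModule X) W P hW a) =
        X.presheaf.germ W P hW a • germM G ⊤ P trivial (Crv77.sec G x) := by
      change stalkMapM s P _ = _
      rw [stalkMapM_germ, show s.app W a = (show Γ(X, W) from a) • res G le_top (s.app ⊤ (toUnit 1))
        from app_toUnit s _, germM_smul, germM_res]
      exact congrArg (fun z => X.presheaf.germ W P hW a • germM G ⊤ P trivial z) (Crv77.toHom_app_one x)
    rw [← LinearMap.id_apply (R := X.presheaf.stalk P) (germM (Coh.structureModule X) W P hW a), ← hr,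
      LinearMap.comp_apply, he, map_smul]
    refine Submodule.smul_mem _ _ ?_
    have := Submodule.mem_map_of_mem (f := r) hg
    rw [Submodule.map_smul''] at this
    exact Submodule.smul_mono le_rfl le_top this
  obtain ⟨U', n', b', hPU', hb'⟩ := isFinLocFree_iff.mp lO P
  have := hb'.finite_stalk P hPU'
  have hbot := Submodule.eq_bot_of_le_smul_of_le_jacobson_bot _ _ Module.Finite.fg_top hall
    (IsLocalRing.maximalIdeal_le_jacobson _)
  have hn : n' = 1 := (rk_eq_of_basis hb' (gen_mem hPU')).symm.trans rO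
  have hz : (hb'.stalkEquiv P hPU' fun _ => 1) = 0 := (Submodule.mem_bot _).1 (hbot ▸ Submodule.mem_top)
  exact one_ne_zero (congrFun ((hb'.stalkEquiv P hPU').map_eq_zero_iff.1 hz) ⟨0, by omega⟩)

set_option maxHeartbeats 1000000 in
/-- In genus one a bundle of degree at least the rank has a rank-one subbundle of positive degree. -/
theorem exists_line_pos [IsAlgClosed k] (hχ : Curv2.euler k X (Coh.structureModule X) = 0) {G : X.Modules}
    (hG : FlatMod.IsFinLocFree G) (h0 : 0 < rk G) (hd : (rk G : ℤ) ≤ dg k G) :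
    ∃ (F : X.Modules) (j : F ⟶ G), Mono j ∧ rk F = 1 ∧ FlatMod.IsFinLocFree F ∧ 1 ≤ dg k F := by
  by_contra hne
  have hl : ∀ (F : X.Modules) (j : F ⟶ G), Mono j → rk F = 1 → FlatMod.IsFinLocFree F → dg k F ≤ 0 :=
    fun F j hj h1 hF => by by_contra hlt; exact hne ⟨F, j, hj, h1, hF, by omega⟩
  have := h.proper
  have := h.isNoetherian
  have hGc := isCoh_of_isFinLocFree hG
  have := h.curveCoh.finite _ hGc 0
  have hlow : (rk G : ℤ) ≤ Module.finrank k (Coh.HH X G 0) := by
    have := h.h0_sub_h1 hGc
    rw [hχ] at this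
    omega
  -- evaluation at closed points
  have hP : ∀ {P : X}, IsClosed ({P} : Set X) → Module.finrank k (Coh.HH X G 0) ≤ rk G ∧
      Submodule.span (X.presheaf.stalk P) (Set.range fun s : Γ(G, ⊤) => germM G ⊤ P trivial s) = ⊤ := by
    intro P hP
    have hd1 := Crv77.finrank_residueField_eq_one (k := k) hP
    obtain ⟨U, n, b, hPU, hb⟩ := isFinLocFree_iff.mp hG P
    rw [rk_eq_of_basis hb (gen_mem hPU)] at hlow ⊢
    have hb1 : ∀ e : G.presheaf.stalk P, (∀ i, X.residue P ((hb.stalkEquiv P hPU).symm e i) = 0) →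
        e ∈ IsLocalRing.maximalIdeal (X.presheaf.stalk P) • (⊤ : Submodule (X.presheaf.stalk P) (G.presheaf.stalk P)) := by
      intro e he
      rw [← (hb.stalkEquiv P hPU).apply_symm_apply e, StalkBasis.stalkEquiv]
      simp only [LinearEquiv.ofBijective_apply, Fintype.linearCombination_apply]
      exact Submodule.sum_mem _ fun i _ => Submodule.smul_mem_smul
        (IsLocalRing.residue_eq_zero_iff _ |>.1 (he i)) trivial
    let c := (hb.stalkEquiv P hPU).symm
    let ev : Coh.HH X G 0 →ₗ[k] (Fin n → X.residueField P) :=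
      { toFun := fun x i => X.residue P (c (germM G ⊤ P trivial (Crv77.sec G x)) i)
        map_add' := fun x y => funext fun i => by
          rw [map_add, germM_add, map_add, Pi.add_apply, map_add, Pi.add_apply]
        map_smul' := fun a x => funext fun i => by
          rw [Crv77.sec_smul, germM_smul, map_smul, Pi.smul_apply, smul_eq_mul, map_mul, RingHom.id_apply,
            Pi.smul_apply, Algebra.smul_def]
          rfl }
    have hinj : Function.Injective ev := (injective_iff_map_eq_zero ev).2 fun x hx =>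
      h.eq_zero_of_value hG hl (hb1 _ fun i => congrFun hx i)
    have : FiniteDimensional k (X.residueField P) := Module.finite_of_finrank_eq_succ hd1
    have hfr : Module.finrank k (Fin n → X.residueField P) = n := by
      rw [Module.finrank_pi_fintype, Finset.sum_const, hd1, Finset.card_univ, Fintype.card_fin]; simp
    have hle := LinearMap.finrank_le_finrank_of_injective hinj
    rw [hfr] at hle
    refine ⟨hle, ?_⟩
    have hsur := (LinearMap.injective_iff_surjective_of_finrank_eq_finrank (f := ev) (by omega)).1 hinj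
    have := hb.finite_stalk P hPU
    refine top_unique (Submodule.le_of_le_smul_of_le_jacobson_bot Module.Finite.fg_top
      (IsLocalRing.maximalIdeal_le_jacobson _) fun v _ => ?_)
    obtain ⟨x, hx⟩ := hsur fun i => X.residue P (c v i)
    refine Submodule.mem_sup.2 ⟨germM G ⊤ P trivial (Crv77.sec G x), Submodule.subset_span ⟨_, rfl⟩,
      v - germM G ⊤ P trivial (Crv77.sec G x), hb1 _ fun i => ?_, add_sub_cancel _ _⟩
    rw [map_sub, Pi.sub_apply, map_sub, sub_eq_zero]
    exact (congrFun hx i).symm
  obtain ⟨P₀, hP₀, -⟩ := h.exists_closed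
  have hn : Module.finrank k (Coh.HH X G 0) = rk G := by have := (hP hP₀).1; omega
  let b := Module.finBasisOfFinrankEq k (Coh.HH X G 0) hn
  let e : (⨁ fun _ : Fin (rk G) => Coh.structureModule X) ⟶ G := biproduct.desc fun i => Crv77.toHom (b i)
  have hgg := isGloballyGenerated_of_span hG fun P hP' => (hP hP').2
  have : Epi e := Preadditive.epi_of_cancel_zero _ fun {T} q hq => by
    refine (GGDesc24.isGloballyGenerated_iff G).1 hgg T q fun s => ?_
    obtain ⟨x, rfl⟩ := (Crv77.sec G).surjective s
    rw [← Crv77.sec_hmap k q x]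
    have hz : Crv77.hmap k q 0 = 0 := b.ext fun i => (Crv77.sec T).injective (by
      have hi : Crv77.toHom (b i) ≫ q = 0 := by
        have := biproduct.ι (fun _ : Fin (rk G) => Coh.structureModule X) i ≫= hq
        rwa [biproduct.ι_desc_assoc, comp_zero] at this
      rw [Crv77.sec_hmap, LinearMap.zero_apply, map_zero, ← Crv77.toHom_app_one (b i)]
      exact congrArg (fun f => f.app ⊤ (1 : Γ(X, ⊤))) hi)
    rw [hz, LinearMap.zero_apply, map_zero]
  have lT : FlatMod.IsFinLocFree (⨁ fun _ : Fin (rk G) => Coh.structureModule X) :=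
    isFinLocFree_biproduct_const EGA73.isInvertible_structureModule
  obtain ⟨rT, dT⟩ := h.rk_dg_biproduct (fun _ : Fin (rk G) => Coh.structureModule X)
    fun _ => EGA73.isInvertible_structureModule
  obtain ⟨K, I, i, p, j, hi, hp, hj, -, hpj, lK, lI, r, d, hm, -⟩ := h.exists_ker_im e lT hG
  have : Epi j := epi_of_epi_fac hpj
  have : IsIso j := isIso_of_mono_of_epi j
  have hrI := rk_congr (asIso j)
  have : Mono e := hm (by omega)
  have : IsIso e := isIso_of_mono_of_epi e
  have := dg_congr (k := k) (asIso e)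
  rw [dT, Finset.sum_eq_zero fun _ _ => h.dg_structureModule] at this
  omega

set_option maxHeartbeats 1000000 in
/-- In genus one a bundle of non-negative degree receives a map from a line bundle of degree zero. -/
theorem exists_hom_line_zero [IsAlgClosed k] (hχ : Curv2.euler k X (Coh.structureModule X) = 0) {H : X.Modules}
    (hH : FlatMod.IsFinLocFree H) (h0 : 0 < rk H) (hd : 0 ≤ dg k H) :
    ∃ (M : X.Modules) (φ : M ⟶ H), PicF.IsInvertible M ∧ dg k M = 0 ∧ φ ≠ 0 := by
  have := h.isNoetherian
  obtain ⟨I, hI, hdI⟩ := h.exists_line_neg_one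
  obtain ⟨J, hJ, ⟨e⟩⟩ := Crv77.exists_inverse hI
  have hJd : dg k J = 1 := by
    have := h.dg_invertible_tensor hI hJ
    rw [dg_congr e, h.dg_structureModule, hdI] at this
    omega
  obtain ⟨l, r, d⟩ := h.tensor_invertible hH hJ
  obtain ⟨F, j, hj, r1, lF, d1⟩ := h.exists_line_pos hχ l (by omega) (by rw [d, r, hJd, mul_one]; omega)
  have hF := isInvertible_of_lf lF r1
  have hN := EGA73.isInvertible_tensorMod hF hI
  let c : CohB1.tensorMod (CohB1.tensorMod H J) I ≅ H :=
    EGA73.tensAssoc' H J I ≪≫ (EGA73.tensComm H (CohB1.tensorMod J I)) ≪≫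
      (Crv77.twist H).mapIso (EGA73.tensComm J I ≪≫ e) ≪≫ EGA73.tensUnitLeft H
  have := mono_twMap (X := X) hI j
  let n : CohB1.tensorMod F I ⟶ H := twMap j I ≫ c.hom
  have : Mono n := mono_comp _ _
  have hNd : dg k (CohB1.tensorMod F I) = dg k F - 1 := by rw [h.dg_invertible_tensor hF hI, hdI]; ring
  rcases eq_or_lt_of_le d1 with heq | hlt
  · refine ⟨_, n, hN, by omega, fun z => ?_⟩
    have hz : IsZero (CohB1.tensorMod F I) := (IsZero.iff_id_eq_zero _).2 <| by
      rw [← cancel_mono n, z, comp_zero, comp_zero]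
    have := rk_eq_zero_of_isZero hz
    have := (lf_of_isInvertible hN).2
    omega
  · have hc := isCoh_of_isFinLocFree (lf_of_isInvertible hN).1
    have e' := h.h0_sub_h1 hc
    rw [hχ, hNd] at e'
    have hpos : Module.finrank k (Coh.HH X (CohB1.tensorMod F I) 0) ≠ 0 := by omega
    have := Module.nontrivial_of_finrank_pos (R := k) (Nat.pos_of_ne_zero hpos)
    obtain ⟨x, hx⟩ := exists_ne (0 : Coh.HH X (CohB1.tensorMod F I) 0)
    refine ⟨_, Crv77.toHom x ≫ n, EGA73.isInvertible_structureModule, h.dg_structureModule, fun z => ?_⟩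
    rw [← zero_comp (f := n), cancel_mono] at z
    refine hx ((Crv77.sec _).injective ?_)
    rw [map_zero, ← Crv77.toHom_app_one x, z]
    rfl

end Cur

end Groth.Agent.VB30
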