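import Groth.Agent.VB30.Higgs
import Groth.Agent.Curves2.Ample.ClosedPush
import Groth.Agent.FMK72.BaseChange
import Groth.Agent.PP93.PicInj
import Groth.Agent.Strict99.Basic
import Groth.Agent.Grass5.FlagStep
import Groth.Agent.Desc59.QCohDesc

/-! Semistability of bundles with an action of an automorphism. -/

set_option autoImplicit false
set_option linter.style.haveILetI false
set_option linter.unusedSectionVars false
set_option backward.isDefEq.respectTransparency.types false
set_option maxSynthPendingDepth 6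

noncomputable section

universe u

open CategoryTheory CategoryTheory.Limits AlgebraicGeometry TopologicalSpace Opposite
open Groth.Agent.QC70 Groth.Agent.Props58.LocFree

namespace Groth.Agent.VB30

variable {k : Type u} [Field k] {X : Scheme.{u}} [X.Over (Spec (CommRingCat.of k))] [IsIntegral X]

namespace Cur

variable (h : Cur k X)
include h

theorem pullback_auto (σ : X ⟶ X) [IsIso σ] (hσ : σ ≫ (X ↘ Spec (CommRingCat.of k)) = X ↘ Spec (CommRingCat.of k))
    {M : X.Modules} (hM : FlatMod.IsFinLocFree M) :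
    FlatMod.IsFinLocFree ((Scheme.Modules.pullback σ).obj M) ∧ rk ((Scheme.Modules.pullback σ).obj M) = rk M ∧
      dg k ((Scheme.Modules.pullback σ).obj M) = dg k M := by
  have := h.proper
  have l := Strict99.isFinLocFree_pullback σ hM
  have r : rk ((Scheme.Modules.pullback σ).obj M) = rk M :=
    rk_eq_of_isFinLocFreeOfRank (Grass5.QuotBC.isFinLocFreeOfRank_pullback σ (isFinLocFreeOfRank_rk hM))
  refine ⟨l, r, ?_⟩
  haveI : (Coh.structureModule X).IsQuasicoherent := isQuasicoherent_unit
  haveI : M.IsQuasicoherent := (isCoh_of_isFinLocFree hM).1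
  have hproj := FMK72.isIso_projNat_app σ M (Coh.structureModule X)
  have : IsIso (ClSub.unitToPush σ) := by
    rw [Scheme.Modules.Hom.isIso_iff_isIso_app]
    exact fun U => (ConcreteCategory.isIso_iff_bijective _).2 (ConcreteCategory.bijective_of_isIso (σ.app U))
  let c : M ≅ (Coh.push σ).obj ((Scheme.Modules.pullback σ).obj M) :=
    (EGA73.tensUnitLeft M).symm ≪≫ EGA73.tensIso (asIso (ClSub.unitToPush σ)) (Iso.refl M) ≪≫
      @asIso _ _ _ _ ((FMK72.projNat σ M).app (Coh.structureModule X)) hproj ≪≫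
      (Coh.push σ).mapIso (EGA73.tensUnitLeft _)
  have e := (Curves2.Ample.euler_push k σ hσ _ (isCoh_of_isFinLocFree l)).symm.trans (Crv77.euler_congr (k := k) c).symm
  simp only [dg, Curv2.deg, r, e]

set_option maxHeartbeats 1000000 in
theorem ss_of_invariant (σ : X ⟶ X) [IsIso σ] (hσ : σ ≫ (X ↘ Spec (CommRingCat.of k)) = X ↘ Spec (CommRingCat.of k))
    {E : X.Modules} (hE : FlatMod.IsFinLocFree E) (hE0 : 0 < rk E) (φ : (Scheme.Modules.pullback σ).obj E ≅ E)
    (hinv : ∀ (F : X.Modules) (i : F ⟶ E), Mono i → 0 < rk F → FlatMod.IsFinLocFree F →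
      (∃ j : (Scheme.Modules.pullback σ).obj F ⟶ F, j ≫ i = (Scheme.Modules.pullback σ).map i ≫ φ.hom) →
      dg k F * rk E ≤ dg k E * rk F) : SS k E := by
  obtain ⟨E₁, i₁, hi₁, l₁, h0, -, hmax', hrk'⟩ := h.exists_max_of hE hE0 (fun _ _ => True) trivial
  have hmax := fun G i hi h0 hG => hmax' G i hi h0 hG trivial
  have hrk := fun G i hi h0 hG => hrk' G i hi h0 hG trivial
  obtain ⟨l, r, d⟩ := h.pullback_auto σ hσ l₁
  let u : (Scheme.Modules.pullback σ).obj E₁ ⟶ E := (Scheme.Modules.pullback σ).map i₁ ≫ φ.hom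
  have : Mono ((Scheme.Modules.pullback σ).map i₁) := Desc59.QCohDesc.mono_pullback σ i₁
  have : Mono u := mono_comp _ _
  obtain ⟨a, ha⟩ := h.fac_of_max u i₁ hE l l₁ (by omega) h0 (fun G i hi g0 hG => by
      rw [r, d]; exact hmax G i hi g0 hG) hmax fun Q j hj q0 hQ => h.quot_slope_lt i₁ hE l₁ h0 hmax hrk j hQ q0
  intro G i hi g0 hG
  have A := hmax G i hi g0 hG
  have B := hinv E₁ i₁ hi₁ h0 l₁ ⟨a, ha⟩
  have p1 : (0 : ℤ) < rk E₁ := by exact_mod_cast h0
  refine le_of_mul_le_mul_right ?_ p1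
  nlinarith [mul_le_mul_of_nonneg_right A (Int.natCast_nonneg (rk E)),
    mul_le_mul_of_nonneg_right B (Int.natCast_nonneg (rk G))]

end Cur

end Groth.Agent.VB30

end
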