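import Groth.Agent.VB30.Higgs
import Groth.Agent.VB30.Endo
import Groth.Agent.CrvPic30.Canonical

/-! The canonical bundle and line subbundles in rank two. -/

set_option autoImplicit false
set_option linter.style.haveILetI false
set_option linter.unusedSectionVars false
set_option backward.isDefEq.respectTransparency.types false

noncomputable section

universe u


open CategoryTheory CategoryTheory.Limits AlgebraicGeometry TopologicalSpace Opposite
open Groth.Agent.QC70 Groth.Agent.Props58.LocFree
attribute [local instance] Groth.Agent.CrvPic30.ffAlg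

namespace Groth.Agent.VB30

variable {k : Type u} [Field k] {X : Scheme.{u}} [X.Over (Spec (CommRingCat.of k))] [IsIntegral X]

section Setup

variable (hS : CrvPic30.Setup k X)
include hS

theorem omega_facts [IsAlgClosed k] [QuasiSeparated (X ↘ Spec (CommRingCat.of k))] {K : X.Modules}
    (e : K ≅ Omega.sheaf (X ↘ Spec (CommRingCat.of k))) :
    PicF.IsInvertible K ∧ dg k K = 2 * (Curv2.genus k X : ℤ) - 2 ∧ Module.finrank k (Coh.HH X K 1) = 1 := by
  have h := cur_of_setup hS
  obtain ⟨W, hW, ⟨eW⟩⟩ := hS.nonempty_iso_omega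
  have hK := EGA73.isInvertible_of_iso e.symm (hS.isInvertible_omega)
  obtain ⟨h0, hd⟩ := hS.h0_canonical hW (e ≪≫ eW)
  rw [deg_eq_dg_of_isInvertible hK] at hd
  refine ⟨hK, hd, ?_⟩
  have := h.h0_sub_h1 (isCoh_of_isFinLocFree (lf_of_isInvertible hK).1)
  rw [h0, hd, (lf_of_isInvertible hK).2, euler_structureModule hS] at this
  omega

/-- Line bundles of canonical degree with non-zero first cohomology are canonical. -/
theorem iso_of_h1 {K M : X.Modules} (hK : PicF.IsInvertible K) (hK1 : Module.finrank k (Coh.HH X K 1) = 1)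
    (hKd : dg k K = 2 * (Curv2.genus k X : ℤ) - 2) (hM : PicF.IsInvertible M)
    (hMd : dg k M = 2 * (Curv2.genus k X : ℤ) - 2) (hM1 : Module.finrank k (Coh.HH X M 1) ≠ 0) :
    Nonempty (M ≅ K) := by
  have h := cur_of_setup hS
  obtain ⟨lM, rM⟩ := lf_of_isInvertible hM
  obtain ⟨lK, rK⟩ := lf_of_isInvertible hK
  have hne : ¬ Subsingleton (Coh.HH X M 1) := fun hs => hM1 Module.finrank_zero_of_subsingleton
  obtain ⟨φ, hφ⟩ := exists_hom_omega hS lM hK hK1 hKd hne
  have : Mono φ := (h.rk_image_eq_zero_or φ lM lK rM).resolve_left hφ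
  have := h.isIso_of_rk_eq φ (isCoh_of_isFinLocFree lM) (isCoh_of_isFinLocFree lK) (rM.trans rK.symm) (by omega)
  exact ⟨asIso φ⟩

/-- Line bundles of degree `2g - 2` with `g` sections are canonical. -/
theorem iso_of_h0 {K M : X.Modules} (hK : PicF.IsInvertible K) (hK1 : Module.finrank k (Coh.HH X K 1) = 1)
    (hKd : dg k K = 2 * (Curv2.genus k X : ℤ) - 2) (hM : PicF.IsInvertible M)
    (hMd : dg k M = 2 * (Curv2.genus k X : ℤ) - 2) (hM0 : Curv2.genus k X ≤ Module.finrank k (Coh.HH X M 0)) :
    Nonempty (M ≅ K) := by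
  refine iso_of_h1 hS hK hK1 hKd hM hMd fun z => ?_
  have e := (cur_of_setup hS).h0_sub_h1 (isCoh_of_isFinLocFree (lf_of_isInvertible hM).1)
  rw [z, hMd, (lf_of_isInvertible hM).2, euler_structureModule hS] at e
  omega

end Setup

namespace Cur

variable (h : Cur k X)
include h

/-- A square-zero twisted endomorphism of a rank-two bundle factors through a line subbundle. -/
theorem exists_nilpotent_factor {E K : X.Modules} (hE : FlatMod.IsFinLocFree E) (h2 : rk E = 2)
    (hK : PicF.IsInvertible K) (α : E ⟶ CohB1.tensorMod E K) (hα : α ≠ 0) (hsq : α ≫ twMap α K = 0) :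
    ∃ (L : X.Modules) (j : L ⟶ E), PicF.IsInvertible L ∧ Mono j ∧ PicF.IsInvertible (cokernel j) ∧
      ∃ β : cokernel j ⟶ CohB1.tensorMod L K, β ≠ 0 := by
  have := h.isNoetherian
  have hEc := isCoh_of_isFinLocFree hE
  obtain ⟨lT, rT, dT⟩ := h.tensor_invertible hE hK
  have hTc := isCoh_of_isFinLocFree lT
  have hKc := h.isCoh_kernel α hEc hTc
  have hKl := h.isFinLocFree_of_mono (kernel.ι α) hKc hE
  have hIc : Coh.IsCoh (Abelian.image α) := h.isCoh_kernel _ hTc (h.isCoh_cokernel α hEc hTc)
  have hIl := h.isFinLocFree_of_mono (Abelian.image.ι α) hIc lT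
  obtain ⟨w, hS⟩ := shortExact_kerImage α
  have r1 := h.rk_add hS hEc
  dsimp only at r1
  obtain ⟨w', hT⟩ := shortExact_twMap hK hS
  have := mono_twMap (X := X) hK (Abelian.image.ι α)
  have := hT.mono_f
  have hx0 : α ≫ twMap (Abelian.factorThruImage α) K = 0 := by
    rw [← cancel_mono (twMap (Abelian.image.ι α) K), Category.assoc, ← twMap_comp, Abelian.image.fac, hsq, zero_comp]
  let x : E ⟶ CohB1.tensorMod (kernel α) K := hT.fIsKernel.lift (KernelFork.ofι α hx0)
  have hx : x ≫ twMap (kernel.ι α) K = α := hT.fIsKernel.fac _ WalkingParallelPair.zero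
  have hxne : x ≠ 0 := fun e => hα (by rw [← hx, e, zero_comp])
  have hr1 : rk (kernel α) = 1 := by
    have hk0 : rk (kernel α) ≠ 0 := fun z => hxne <| by
      obtain ⟨lkK, rkK, -⟩ := h.tensor_invertible hKl hK
      exact ((h.isZero_of_rk_eq_zero lkK (rkK.trans z)).eq_of_tgt x 0)
    have hi0 : rk (Abelian.image α) ≠ 0 := fun z => hα <| by
      rw [← Abelian.image.fac α, (h.isZero_of_rk_eq_zero hIl z).eq_of_src (Abelian.image.ι α) 0, comp_zero]
    omega
  have hkx : kernel.ι α ≫ x = 0 := by
    rw [← cancel_mono (twMap (kernel.ι α) K), Category.assoc, hx, kernel.condition, zero_comp]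
  let e : cokernel (kernel.ι α) ≅ Abelian.image α :=
    (cokernelIsCokernel _).coconePointUniqueUpToIso hS.gIsCokernel
  have hI1 : PicF.IsInvertible (Abelian.image α) := isInvertible_of_lf hIl (by omega)
  refine ⟨kernel α, kernel.ι α, isInvertible_of_lf hKl hr1, inferInstance,
    EGA73.isInvertible_of_iso e.symm hI1, cokernel.desc (kernel.ι α) x hkx, fun hz => hxne ?_⟩
  rw [← cokernel.π_desc (kernel.ι α) x hkx, hz, comp_zero]

/-- The converse: a line subbundle with a map from the quotient gives a square-zero endomorphism. -/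
theorem exists_nilpotent_of_factor {E L K : X.Modules} (hK : PicF.IsInvertible K) (j : L ⟶ E) [Mono j]
    (β : cokernel j ⟶ CohB1.tensorMod L K) (hβ : β ≠ 0) :
    ∃ α : E ⟶ CohB1.tensorMod E K, α ≫ twMap α K = 0 ∧ α ≠ 0 := by
  have := h.isNoetherian
  have := mono_twMap (X := X) hK j
  refine ⟨cokernel.π j ≫ β ≫ twMap j K, ?_, fun z => hβ ?_⟩
  · simp only [Category.assoc, ← twMap_comp]
    rw [cokernel.condition_assoc, zero_comp, twMap_zero hK]
    simp
  · rw [← cancel_epi (cokernel.π j), ← cancel_mono (twMap j K), Category.assoc, z, comp_zero, zero_comp]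

end Cur

/-- Maps out of the structure sheaf to a module with one-dimensional sections are proportional. -/
theorem proportional_of_h0 {T : X.Modules} (h1 : Module.finrank k (Coh.HH X T 0) ≤ 1)
    [Module.Finite k (Coh.HH X T 0)] (f g : Coh.structureModule X ⟶ T) (hf : f ≠ 0) :
    ∃ c : k, g = f ≫ scal T c := by
  let x₁ : Coh.HH X (Coh.structureModule X) 0 := (Crv77.sec (Coh.structureModule X)).symm (1 : Γ(X, ⊤))
  have hinj : ∀ a b : Coh.structureModule X ⟶ T, Crv77.hmap k a 0 x₁ = Crv77.hmap k b 0 x₁ → a = b := by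
    intro a b hab
    have h1 : a.app ⊤ (toUnit 1) = b.app ⊤ (toUnit 1) := by
      have := congrArg (Crv77.sec T) hab
      rw [Crv77.sec_hmap, Crv77.sec_hmap, AddEquiv.apply_symm_apply] at this
      exact this
    refine Scheme.Modules.hom_ext _ _ fun W => ?_
    ext s
    rw [show a.app W s = (show Γ(X, W) from s) • res T le_top (a.app ⊤ (toUnit 1)) from app_toUnit a _,
      show b.app W s = (show Γ(X, W) from s) • res T le_top (b.app ⊤ (toUnit 1)) from app_toUnit b _, h1]
  have hne : Crv77.hmap k f 0 x₁ ≠ 0 := fun e => hf <| hinj f 0 (by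
    rw [e]
    refine (Crv77.sec T).injective ?_
    rw [Crv77.sec_hmap, map_zero]
    rfl)
  obtain ⟨c, hc⟩ := finrank_le_one_iff_of_ne_zero_exists (k := k) h1 hne (Crv77.hmap k g 0 x₁)
  exact ⟨c, hinj _ _ (by rw [hmap_scal, hc])⟩
where
  finrank_le_one_iff_of_ne_zero_exists {k : Type u} [Field k] {V : Type u} [AddCommGroup V] [Module k V]
      [Module.Finite k V] (h1 : Module.finrank k V ≤ 1) {v : V} (hv : v ≠ 0) (w : V) : ∃ c : k, c • v = w := by
    have : Nontrivial V := nontrivial_of_ne v 0 hv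
    have h2 : Module.finrank k V = 1 := by
      have := Module.finrank_pos (R := k) (M := V)
      omega
    exact exists_smul_eq_of_finrank_eq_one h2 hv w

section Setup

variable (hS : CrvPic30.Setup k X)
include hS

set_option maxHeartbeats 1000000 in
/-- An ideal cutting a secant of maximal defect is inverse to the line bundle. -/
theorem tensor_iso_unit_of_secant {K N I : X.Modules} (hK : PicF.IsInvertible K)
    (hK1 : Module.finrank k (Coh.HH X K 1) = 1) (hKd : dg k K = 2 * (Curv2.genus k X : ℤ) - 2)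
    (hN : PicF.IsInvertible N) (hI : PicF.IsInvertible I) (hd : dg k I + dg k N = 0) (hdN : 1 ≤ dg k N) {m : ℕ}
    (hm : (m : ℤ) + 1 = dg k N)
    (he : Module.finrank k (Coh.HH X (CohB1.tensorMod I (CohB1.tensorMod K N)) 0) + m =
      Module.finrank k (Coh.HH X (CohB1.tensorMod K N) 0)) :
    Nonempty (CohB1.tensorMod I N ≅ Coh.structureModule X) := by
  have h := cur_of_setup hS
  have := h.isNoetherian
  have hKN := EGA73.isInvertible_tensorMod hK hN
  obtain ⟨lKN, rKN⟩ := lf_of_isInvertible hKN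
  have hv := h1_subsingleton_of_ss hS lKN (h.ss_of_st lKN (h.st_line rKN)) (by
    rw [rKN, h.dg_invertible_tensor hK hN, hKd]; push_cast; omega)
  have e1 := h.h0_sub_h1 (isCoh_of_isFinLocFree lKN)
  rw [Module.finrank_zero_of_subsingleton (M := Coh.HH X (CohB1.tensorMod K N) 1), rKN, euler_structureModule hS,
    h.dg_invertible_tensor hK hN, hKd] at e1
  have hM := EGA73.isInvertible_tensorMod hI hKN
  obtain ⟨iso⟩ := iso_of_h0 hS hK hK1 hKd hM (by
    rw [h.dg_invertible_tensor hI hKN, h.dg_invertible_tensor hK hN, hKd]; linarith) (by omega)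
  obtain ⟨H, e, he', -⟩ := exists_twist_equiv hK
  have : (Crv77.twist K).IsEquivalence := he' ▸ e.isEquivalence_functor
  let c : (Crv77.twist K).obj (CohB1.tensorMod I N) ≅ (Crv77.twist K).obj (Coh.structureModule X) :=
    (EGA73.tensAssoc' I N K) ≪≫ (EGA73.tensComm I (CohB1.tensorMod N K)) ≪≫
      (Crv77.twist I).mapIso (EGA73.tensComm N K) ≪≫ EGA73.tensComm (CohB1.tensorMod K N) I ≪≫ iso ≪≫
      (EGA73.tensUnitLeft K).symm
  exact ⟨(Crv77.twist K).preimageIso c⟩

end Setup

end Groth.Agent.VB30
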