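import Groth.Agent.VB30.Sum
import Groth.Agent.VB30.Tensor
import Groth.Agent.VB30.Apply

/-! Invariant submodules of pairs `E → E ⊗ L`. -/

set_option autoImplicit false
set_option linter.style.haveILetI false
set_option linter.unusedSectionVars false
set_option backward.isDefEq.respectTransparency.types false

noncomputable section

universe u

open CategoryTheory CategoryTheory.Limits AlgebraicGeometry TopologicalSpace Opposite
open Groth.Agent.QC70 Groth.Agent.Props58.LocFree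

namespace Groth.Agent.VB30

variable {k : Type u} [Field k] {X : Scheme.{u}} [X.Over (Spec (CommRingCat.of k))] [IsIntegral X]

theorem twMap_zero {M N L : X.Modules} (hL : PicF.IsInvertible L) [NoetherianSpace X] :
    twMap (0 : M ⟶ N) L = 0 := by
  obtain ⟨H, e, he, -⟩ := exists_twist_equiv hL
  have : (Crv77.twist L).IsEquivalence := he ▸ e.isEquivalence_functor
  exact (Crv77.twist L).map_zero M N

theorem inv_id (E L : X.Modules) (φ : E ⟶ CohB1.tensorMod E L) : Inv φ (𝟙 E) :=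
  ⟨φ, by rw [twMap_eq, CategoryTheory.Functor.map_id, Category.id_comp]; exact Category.comp_id φ⟩

namespace Cur

variable (h : Cur k X)
include h

set_option maxHeartbeats 1000000 in
/-- The maximal destabilising submodule among those with a property. -/
theorem exists_max_of {E : X.Modules} (hE : FlatMod.IsFinLocFree E) (h0 : 0 < rk E)
    (R : ∀ G : X.Modules, (G ⟶ E) → Prop) (hR : R E (𝟙 E)) :
    ∃ (E₁ : X.Modules) (i₁ : E₁ ⟶ E), Mono i₁ ∧ FlatMod.IsFinLocFree E₁ ∧ 0 < rk E₁ ∧ R E₁ i₁ ∧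
      (∀ (G : X.Modules) (i : G ⟶ E), Mono i → 0 < rk G → FlatMod.IsFinLocFree G → R G i →
        dg k G * rk E₁ ≤ dg k E₁ * rk G) ∧
      (∀ (G : X.Modules) (i : G ⟶ E), Mono i → 0 < rk G → FlatMod.IsFinLocFree G → R G i →
        dg k G * rk E₁ = dg k E₁ * rk G → rk G ≤ rk E₁) := by
  classical
  have := (isCoh_of_isFinLocFree hE).2
  obtain ⟨N, hN⟩ := h.bddAbove_dg hE
  let P : ℕ → ℤ → Prop := fun n d => ∃ (G : X.Modules) (i : G ⟶ E), Mono i ∧ R G i ∧ FlatMod.IsFinLocFree G ∧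
    rk G = n ∧ dg k G = d
  have hb : ∀ n, ∃ b : ℤ, ∀ d, P n d → d ≤ b := fun n => ⟨N, fun d ⟨G, i, hi, _, hG, _, hd⟩ =>
    hd ▸ hN G i hi (isCoh_of_isFinLocFree hG)⟩
  let s : Finset ℕ := (Finset.Icc 1 (rk E)).filter fun n => ∃ d, P n d
  have hs : rk E ∈ s :=
    Finset.mem_filter.2 ⟨Finset.mem_Icc.2 ⟨h0, le_rfl⟩, _, E, 𝟙 E, inferInstance, hR, hE, rfl, rfl⟩
  let m : ℕ → ℤ := fun n => if hn : ∃ d, P n d then (Int.exists_greatest_of_bdd (hb n) hn).choose else 0
  have hm : ∀ n, (∃ d, P n d) → P n (m n) ∧ ∀ d, P n d → d ≤ m n := fun n hn => by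
    simp only [m, dif_pos hn]
    exact (Int.exists_greatest_of_bdd (hb n) hn).choose_spec
  obtain ⟨n, hn, hmax⟩ := s.exists_max_image (fun n => toLex ((m n : ℚ) / n, n)) ⟨_, hs⟩
  obtain ⟨hn1, hnd⟩ := Finset.mem_filter.1 hn
  obtain ⟨hn1, -⟩ := Finset.mem_Icc.1 hn1
  obtain ⟨⟨E₁, i₁, hi₁, hR₁, hE₁, hr₁, hd₁⟩, -⟩ := hm n hnd
  have key : ∀ (G : X.Modules) (i : G ⟶ E), Mono i → 0 < rk G → FlatMod.IsFinLocFree G → R G i →
      rk G ∈ s ∧ dg k G ≤ m (rk G) := fun G i hi hG0 hG hGR =>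
    have hP : ∃ d, P (rk G) d := ⟨_, G, i, hi, hGR, hG, rfl, rfl⟩
    ⟨Finset.mem_filter.2 ⟨Finset.mem_Icc.2 ⟨hG0, rk_le_of_mono i⟩, hP⟩,
      (hm _ hP).2 _ ⟨G, i, hi, hGR, hG, rfl, rfl⟩⟩
  have hnq : (0 : ℚ) < n := by exact_mod_cast hn1
  refine ⟨E₁, i₁, hi₁, hE₁, by omega, hR₁, fun G i hi hG0 hG hGR => ?_, fun G i hi hG0 hG hGR he => ?_⟩
  all_goals
    obtain ⟨hs', hle⟩ := key G i hi hG0 hG hGR
    have hGq : (0 : ℚ) < rk G := by exact_mod_cast hG0
    have hleq : (dg k G : ℚ) ≤ m (rk G) := by exact_mod_cast hle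
    rw [hr₁, hd₁] at *
  · rcases Prod.Lex.le_iff.1 (hmax _ hs') with h1 | ⟨h1, -⟩
    · simp only [ofLex_toLex] at h1
      rw [div_lt_div_iff₀ hGq hnq] at h1
      have : (dg k G : ℚ) * n ≤ m n * rk G := by nlinarith
      exact_mod_cast this
    · simp only [ofLex_toLex] at h1
      rw [div_eq_div_iff hGq.ne' hnq.ne'] at h1
      have : (dg k G : ℚ) * n ≤ m n * rk G := by nlinarith
      exact_mod_cast this
  · rcases Prod.Lex.le_iff.1 (hmax _ hs') with h1 | ⟨-, h2⟩
    · simp only [ofLex_toLex] at h1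
      rw [div_lt_div_iff₀ hGq hnq] at h1
      have : (dg k G : ℚ) * n = m n * rk G := by exact_mod_cast he
      nlinarith
    · exact h2

theorem eq_zero_of_rk_zero {M W : X.Modules} (hM : Coh.IsCoh M) (hW : FlatMod.IsFinLocFree W) (h0 : rk M = 0)
    (f : M ⟶ W) : f = 0 := by
  have hWc := isCoh_of_isFinLocFree hW
  have hIc : Coh.IsCoh (Abelian.image f) := h.isCoh_kernel _ hWc (h.isCoh_cokernel f hM hWc)
  have hIl := h.isFinLocFree_of_mono (Abelian.image.ι f) hIc hW
  have := hM.2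
  have hle := rk_le_of_epi (Abelian.factorThruImage f)
  rw [← Abelian.image.fac f, (h.isZero_of_rk_eq_zero hIl (by omega)).eq_of_src (Abelian.image.ι f) 0, comp_zero]

/-- The field of the quotient by an invariant submodule. -/
theorem exists_quot_field {E G L : X.Modules} (hL : PicF.IsInvertible L) {φ : E ⟶ CohB1.tensorMod E L} {i : G ⟶ E}
    (hi : Inv φ i) : ∃ ψ : cokernel i ⟶ CohB1.tensorMod (cokernel i) L,
      cokernel.π i ≫ ψ = φ ≫ twMap (cokernel.π i) L := by
  have := h.isNoetherian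
  obtain ⟨χ, hχ⟩ := hi
  exact ⟨cokernel.desc i (φ ≫ twMap (cokernel.π i) L) (by
    rw [← Category.assoc, ← hχ, Category.assoc, ← twMap_comp, cokernel.condition, twMap_zero hL, comp_zero]),
    cokernel.π_desc _ _ _⟩

set_option maxHeartbeats 1000000 in
/-- The preimage of an invariant submodule of a quotient by an invariant submodule. -/
theorem exists_inv_preimage {E G L I : X.Modules} (hE : FlatMod.IsFinLocFree E) (hL : PicF.IsInvertible L)
    {φ : E ⟶ CohB1.tensorMod E L} (i : G ⟶ E) [Mono i] (hGc : Coh.IsCoh G)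
    {ψ : cokernel i ⟶ CohB1.tensorMod (cokernel i) L} (hψ : cokernel.π i ≫ ψ = φ ≫ twMap (cokernel.π i) L)
    (l : I ⟶ cokernel i) [Mono l] (hIc : Coh.IsCoh I) (hl : Inv ψ l) :
    ∃ (P : X.Modules) (p : P ⟶ E), Mono p ∧ FlatMod.IsFinLocFree P ∧ Inv φ p ∧
      rk P = rk G + rk I ∧ dg k P = dg k G + dg k I := by
  have hEc := isCoh_of_isFinLocFree hE
  have hQc := h.isCoh_cokernel i hGc hEc
  obtain ⟨ψ', hψ'⟩ := h.exists_quot_field hL hl
  let q : E ⟶ cokernel l := cokernel.π i ≫ cokernel.π l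
  have hC := h.isCoh_cokernel l hIc hQc
  have hinv : Inv φ (kernel.ι q) := inv_kernel hL (ψ := ψ') q (by
    simp only [q]
    rw [Category.assoc, hψ', ← Category.assoc, hψ, Category.assoc, ← twMap_comp])
  have hPc := h.isCoh_kernel q hEc hC
  have hS : (ShortComplex.mk (kernel.ι q) q (kernel.condition q)).ShortExact :=
    { exact := ShortComplex.exact_of_f_is_kernel _ (kernelIsKernel _)
      epi_g := inferInstanceAs (Epi (cokernel.π i ≫ cokernel.π l)) }
  have r1 := h.rk_add hS hEc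
  have d1 := h.dg_add hS hPc hEc
  obtain ⟨r2, d2⟩ := h.rk_cokernel i hGc hEc
  obtain ⟨r3, d3⟩ := h.rk_cokernel l hIc hQc
  dsimp only at r1 d1
  have := hEc.2
  have := hQc.2
  have := rk_le_of_mono i
  have := rk_le_of_mono l
  exact ⟨kernel q, kernel.ι q, inferInstance, h.isFinLocFree_of_mono (kernel.ι q) hPc hE, hinv, by omega, by omega⟩

set_option maxHeartbeats 1000000 in
/-- An invariant submodule of slope equal to that of a semistable pair has a semistable quotient pair. -/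
theorem quot_pair_ss {E F L : X.Modules} (hE : FlatMod.IsFinLocFree E) (hL : PicF.IsInvertible L)
    (φ : E ⟶ CohB1.tensorMod E L)
    (hss : ∀ (G : X.Modules) (j : G ⟶ E), Mono j → 0 < rk G → FlatMod.IsFinLocFree G → Inv φ j →
      dg k G * rk E ≤ dg k E * rk G)
    (i : F ⟶ E) [Mono i] (hF : FlatMod.IsFinLocFree F) (hi : Inv φ i) (hE0 : 0 < rk E)
    (hμ : dg k F * rk E = dg k E * rk F) :
    FlatMod.IsFinLocFree (cokernel i) ∧ rk (cokernel i) = rk E - rk F ∧
      dg k (cokernel i) * rk E = dg k E * rk (cokernel i) ∧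
      ∀ (ψ : cokernel i ⟶ CohB1.tensorMod (cokernel i) L), cokernel.π i ≫ ψ = φ ≫ twMap (cokernel.π i) L →
        ∀ (G : X.Modules) (j : G ⟶ cokernel i), Mono j → 0 < rk G → FlatMod.IsFinLocFree G → Inv ψ j →
          dg k G * rk (cokernel i) ≤ dg k (cokernel i) * rk G := by
  have hFc := isCoh_of_isFinLocFree hF
  have hEc := isCoh_of_isFinLocFree hE
  have hQc := h.isCoh_cokernel i hFc hEc
  obtain ⟨rQ, dQ⟩ := h.rk_cokernel i hFc hEc
  have := hEc.2
  have := rk_le_of_mono i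
  have hQeq : dg k (cokernel i) * rk E = dg k E * rk (cokernel i) := by
    have e1 : (rk E : ℤ) = rk F + rk (cokernel i) := by exact_mod_cast rQ
    rw [dQ, e1] at hμ ⊢
    linarith
  have hlf : FlatMod.IsFinLocFree (cokernel i) := by
    have := h.isNoetherian
    have := hQc.1
    let T := torsion (cokernel i)
    have hT : Coh.IsCoh T.mod := QC70.isCoh_of_mono T.ι (isQCoh_torsion _) hQc
    have hQ' := h.isCoh_cokernel T.ι hT hQc
    obtain ⟨ψ, hψ⟩ := h.exists_quot_field hL hi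
    have hTF := h.isFinLocFree_of_isTF hQ' (isTF_cokernel_torsion (cokernel i))
    obtain ⟨lW, -, -⟩ := h.tensor_invertible hTF hL
    have hz := h.eq_zero_of_rk_zero hT lW (rk_torsion _) (T.ι ≫ ψ ≫ twMap (cokernel.π T.ι) L)
    obtain ⟨w, hw⟩ := shortExact_twMap hL (shortExact_cokernel T.ι)
    have hinv : Inv ψ T.ι :=
      ⟨hw.fIsKernel.lift (KernelFork.ofι (T.ι ≫ ψ) (by rw [Category.assoc]; exact hz)),
        hw.fIsKernel.fac _ WalkingParallelPair.zero⟩
    obtain ⟨P, p, hp, lP, hP, rP, dP⟩ := h.exists_inv_preimage hE hL i hFc hψ T.ι hT hinv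
    rw [rk_torsion, add_zero] at rP
    obtain ⟨dT, zT⟩ := h.dg_torsion hT (rk_torsion _)
    have hd : dg k P * rk E ≤ dg k E * rk P := by
      rcases Nat.eq_zero_or_pos (rk P) with z | z
      · rw [h.dg_of_rk_zero lP z, z]; simp
      · exact hss P p hp z lP hP
    rw [dP, rP, add_mul, hμ] at hd
    have hTz : IsZero T.mod := zT (by
      have : dg k T.mod * rk E ≤ 0 := by linarith
      have := nonpos_of_mul_nonpos_left this (by exact_mod_cast hE0)
      omega)
    have hmono : Mono (cokernel.π T.ι) := Preadditive.mono_of_cancel_zero _ fun {Z} g hg => by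
      obtain ⟨x, hx⟩ := exists_fac T.ι g hg
      rw [← hx, hTz.eq_of_tgt x 0, zero_comp]
    exact h.isFinLocFree_of_mono (cokernel.π T.ι) hQc hTF
  refine ⟨hlf, by omega, hQeq, fun ψ hψ G j hj hG0 hG hinv => ?_⟩
  obtain ⟨P, p, hp, lP, hP, rP, dP⟩ := h.exists_inv_preimage hE hL i hFc hψ j (isCoh_of_isFinLocFree hG) hinv
  have b := hss P p hp (by omega) lP hP
  rw [dP, rP] at b
  push_cast at b
  refine le_of_mul_le_mul_right ?_ (show (0 : ℤ) < rk E by exact_mod_cast hE0)
  calc dg k G * rk (cokernel i) * rk E = dg k G * rk E * rk (cokernel i) := by ring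
    _ ≤ dg k E * rk G * rk (cokernel i) :=
      mul_le_mul_of_nonneg_right (by linarith) (Int.natCast_nonneg _)
    _ = dg k E * rk (cokernel i) * rk G := by ring
    _ = dg k (cokernel i) * rk G * rk E := by rw [← hQeq]; ring

set_option maxHeartbeats 1000000 in
/-- A commuting endomorphism preserves the maximal destabilising pair. -/
theorem pair_ss_of_commuting {E L : X.Modules} (hE : FlatMod.IsFinLocFree E) (hL : PicF.IsInvertible L)
    (φ : E ⟶ CohB1.tensorMod E L) (ψ : E ⟶ E) (hcomm : ψ ≫ φ = φ ≫ twMap ψ L)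
    (hss : ∀ (G : X.Modules) (j : G ⟶ E) (ψ' : G ⟶ G), Mono j → 0 < rk G → FlatMod.IsFinLocFree G →
      Inv φ j → ψ' ≫ j = j ≫ ψ → dg k G * rk E ≤ dg k E * rk G)
    (G₀ : X.Modules) (j₀ : G₀ ⟶ E) (hj₀ : Mono j₀) (h0 : 0 < rk G₀) (hG₀ : FlatMod.IsFinLocFree G₀)
    (hi₀ : Inv φ j₀) : dg k G₀ * rk E ≤ dg k E * rk G₀ := by
  have hEc := isCoh_of_isFinLocFree hE
  have := hEc.2
  obtain ⟨G, j, hj, lG, hG0, hinv, hmax, hrk⟩ := h.exists_max_of hE (h0.trans_le (rk_le_of_mono j₀))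
    (fun _ i => Inv φ i) (inv_id E L φ)
  have hGc := isCoh_of_isFinLocFree lG
  obtain ⟨χ, hχ⟩ := hinv
  obtain ⟨ψQ, hψQ⟩ := h.exists_quot_field hL ⟨χ, hχ⟩
  have hQc := h.isCoh_cokernel j hGc hEc
  let f : G ⟶ cokernel j := j ≫ ψ ≫ cokernel.π j
  have hf : f = 0 := by
    by_contra hne
    have e : f ≫ ψQ = χ ≫ twMap f L := by
      simp only [f, twMap_comp, Category.assoc]
      rw [hψQ, ← Category.assoc χ, hχ, Category.assoc, reassoc_of% hcomm]
    have hK := inv_kernel hL f e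
    have hI := inv_image hL f e
    have hKc := h.isCoh_kernel f hGc hQc
    have hKl := h.isFinLocFree_of_mono (kernel.ι f) hKc lG
    have hIc : Coh.IsCoh (Abelian.image f) := h.isCoh_kernel _ hQc (h.isCoh_cokernel f hGc hQc)
    obtain ⟨w, hS⟩ := shortExact_kerImage f
    have r1 := h.rk_add hS hGc
    have d1 := h.dg_add hS hKc hGc
    dsimp only at r1 d1
    obtain ⟨P, p, hp, lP, hP, rP, dP⟩ := h.exists_inv_preimage hE hL j hGc hψQ (Abelian.image.ι f) hIc hI
    have a : dg k (kernel f) * rk G ≤ dg k G * rk (kernel f) := by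
      rcases Nat.eq_zero_or_pos (rk (kernel f)) with z | z
      · rw [h.dg_of_rk_zero hKl z, z]; simp
      · have hinvK : Inv φ (kernel.ι f ≫ j) := by
          obtain ⟨χK, hχK⟩ := hK
          exact ⟨χK, by rw [twMap_comp, ← Category.assoc, hχK, Category.assoc, hχ, Category.assoc]⟩
        exact hmax _ _ (mono_comp _ _) z hKl hinvK
    have hG' : (0 : ℤ) < rk G := by exact_mod_cast hG0
    have b := hmax P p hp (by omega) lP hP
    have hge : dg k G * rk P ≤ dg k P * rk G := by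
      rw [dP, rP]
      push_cast
      rw [d1, r1] at a ⊢
      push_cast at a ⊢
      linarith
    have heq := hrk P p hp (by omega) lP hP (le_antisymm b hge)
    have hI0 : rk (Abelian.image f) = 0 := by omega
    obtain ⟨dI, zI⟩ := h.dg_torsion hIc hI0
    have hdI : dg k (Abelian.image f) = 0 := by
      rw [rP, hI0, add_zero, dP, add_mul] at b
      have : dg k (Abelian.image f) * rk G ≤ 0 := by linarith
      have := nonpos_of_mul_nonpos_left this hG'
      omega
    refine hne ?_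
    rw [← Abelian.image.fac f, (zI (by omega)).eq_of_src (Abelian.image.ι f) 0, comp_zero]
  obtain ⟨ψ', hψ'⟩ := exists_fac j (j ≫ ψ) (by rw [Category.assoc]; exact hf)
  have a := hss G j ψ' hj hG0 lG ⟨χ, hχ⟩ hψ'
  have b := hmax G₀ j₀ hj₀ h0 hG₀ hi₀
  refine le_of_mul_le_mul_right ?_ (show (0 : ℤ) < rk G by exact_mod_cast hG0)
  calc dg k G₀ * rk E * rk G = dg k G₀ * rk G * rk E := by ring
    _ ≤ dg k G * rk G₀ * rk E := mul_le_mul_of_nonneg_right b (Int.natCast_nonneg _)
    _ = dg k G * rk E * rk G₀ := by ring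
    _ ≤ dg k E * rk G * rk G₀ := mul_le_mul_of_nonneg_right a (Int.natCast_nonneg _)
    _ = dg k E * rk G₀ * rk G := by ring

end Cur

end Groth.Agent.VB30
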