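import Groth.Agent.VB30.Weil
import Groth.Agent.VB30.Endo
import Groth.Agent.Frob53.DoubleCover
import Groth.Agent.EGA73.MorDetNorm
import Groth.Agent.FMK72.PullTensor
import Groth.Agent.PP93.PicInj

/-! Bundles trivialised by finite étale coverings are finite. -/

set_option autoImplicit false
set_option linter.style.haveILetI false
set_option linter.unusedSectionVars false
set_option backward.isDefEq.respectTransparency.types false
set_option maxSynthPendingDepth 6

noncomputable section

universe u

open CategoryTheory CategoryTheory.Limits AlgebraicGeometry TopologicalSpace Opposite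
open Groth.Agent.QC70 Groth.Agent.Props58.LocFree
open Groth.Agent.KSchm95 (Indec)

namespace Groth.Agent.VB30

variable {X Y : Scheme.{u}}

theorem Gen.push (f : Y ⟶ X) {m : ℕ} {S : Fin m → Y.Modules} {A : Y.Modules} (h : Gen S A) :
    Gen (fun j => (Coh.push f).obj (S j)) ((Coh.push f).obj A) := by
  obtain ⟨n, σ, ⟨e⟩⟩ := h
  haveI : HasFiniteBiproducts Y.Modules := HasFiniteBiproducts.of_hasFiniteProducts
  haveI : HasFiniteBiproducts X.Modules := HasFiniteBiproducts.of_hasFiniteProducts
  haveI := (Scheme.Modules.pullbackPushforwardAdjunction f).right_adjoint_additive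
  exact ⟨n, σ, ⟨(Scheme.Modules.pushforward f).mapIso (e ≪≫ (biproduct.isoCoproduct _).symm) ≪≫
    (Scheme.Modules.pushforward f).mapBiproduct (fun a => S (σ a)) ≪≫ biproduct.isoCoproduct _⟩⟩

theorem gen_pullback_tensorPow [IsLocallyNoetherian X] (f : Y ⟶ X) {E : X.Modules}
    (hq : ∀ n, Coh.IsCoh (CohB1.tensorPow E n)) (hE : Coh.IsCoh E) {r : ℕ}
    (e : (Scheme.Modules.pullback f).obj E ≅ FlatMod.freeMod Y r) : ∀ n : ℕ,
    Gen (fun _ : Fin 1 => Coh.structureModule Y) ((Scheme.Modules.pullback f).obj (CohB1.tensorPow E n))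
  | 0 => by
    obtain ⟨i⟩ := PP93.nonempty_pullback_unit f
    exact (gen_self (fun _ : Fin 1 => Coh.structureModule Y) 0).iso i.symm
  | n + 1 => by
    haveI := (hq n).1
    haveI := hE.1
    haveI := FMK72.isIso_pullTensHom f (CohB1.tensorPow E n) E
    have hF : Gen (fun _ : Fin 1 => Coh.structureModule Y) ((Scheme.Modules.pullback f).obj E) :=
      ⟨r, fun _ => 0, ⟨e⟩⟩
    refine (((gen_pullback_tensorPow f hq hE e n).tensor₂ hF).trans fun p => ?_).iso
      (asIso (Amp73.pullTensHom f (CohB1.tensorPow E n) E)).symm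
    exact (gen_self (fun _ : Fin 1 => Coh.structureModule Y) 0).iso (EGA73.tensUnitRight _).symm

variable {k : Type u} [Field k] [X.Over (Spec (CommRingCat.of k))] [IsIntegral X]

theorem nsmul_scal (E : X.Modules) (c : k) : ∀ n : ℕ, n • scal E c = scal E ((n : k) * c)
  | 0 => by
    have := scal_add E (0 : k) 0
    rw [add_zero] at this
    rw [zero_smul, Nat.cast_zero, zero_mul]
    exact (left_eq_add.mp this).symm
  | n + 1 => by rw [succ_nsmul, nsmul_scal E c n, ← scal_add]; congr 1; push_cast; ring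

namespace Cur

variable (h : Cur k X)
include h

/-- In characteristic zero, a bundle trivial on a finite étale covering is finite. -/
theorem wf_of_etale [CharZero k] {E : X.Modules} (hE : FlatMod.IsFinLocFree E) (f : Y ⟶ X) [IsFinite f] [Etale f]
    [Surjective f] {r : ℕ} (e : (Scheme.Modules.pullback f).obj E ≅ FlatMod.freeMod Y r) : WF E := by
  have := h.proper
  haveI : IsLocallyNoetherian X := LocallyOfFiniteType.isLocallyNoetherian (X ↘ Spec (CommRingCat.of k))
  haveI : (Coh.structureModule Y).IsQuasicoherent := isQuasicoherent_unit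
  let B : X.Modules := (Coh.push f).obj (Coh.structureModule Y)
  have lB : FlatMod.IsFinLocFree B := EGA73.isFinLocFree_push f
  have hd : rk B ≠ 0 := fun hz => by
    have hZ := h.isZero_of_rk_eq_zero lB hz
    obtain ⟨y, -⟩ := Surjective.surj (f := f) (genericPoint X)
    haveI : Nonempty Y := ⟨y⟩
    haveI : Nonempty (⊤ : Y.Opens) := ⟨⟨y, trivial⟩⟩
    haveI : Nontrivial Γ(Y, ⊤) := inferInstance
    have hone : (1 : Γ(Y, ⊤)) = 0 :=
      congrArg (fun φ : B ⟶ B => φ.app ⊤ (show Γ(B, ⊤) from (1 : Γ(Y, ⊤)))) (hZ.eq_of_src (𝟙 B) 0)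
    exact one_ne_zero hone
  obtain ⟨τ, hτ⟩ := Frob53.exists_trace f (rk B) (isFinLocFreeOfRank_rk lB)
  let R : Retract (Coh.structureModule X) B :=
    { i := ClSub.unitToPush f
      r := τ ≫ scal (Coh.structureModule X) ((rk B : k)⁻¹)
      retract := by
        rw [← Category.assoc, hτ, Preadditive.nsmul_comp, Category.id_comp, nsmul_scal,
          mul_inv_cancel₀ (Nat.cast_ne_zero.2 hd), scal_one] }
  obtain ⟨m, S, hS, ⟨eB⟩⟩ := exists_decomp k B (isCoh_of_isFinLocFree lB)
  refine wf_of_gen S fun n => ?_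
  let M := CohB1.tensorPow E n
  obtain ⟨lM, -, -⟩ := h.tensorPow_lf hE n
  haveI : M.IsQuasicoherent := (isCoh_of_isFinLocFree lM).1
  haveI hP : IsIso ((FMK72.projNat f M).app (Coh.structureModule Y)) := FMK72.isIso_projNat_app f M (Coh.structureModule Y)
  let R' : Retract M (CohB1.tensorMod B M) :=
    (Retract.ofIso (EGA73.tensUnitLeft M).symm).trans (R.map (Crv77.twist M))
  have p : CohB1.tensorMod B M ≅ (Coh.push f).obj ((Scheme.Modules.pullback f).obj M) :=
    @asIso _ _ _ _ ((FMK72.projNat f M).app (Coh.structureModule Y)) hP ≪≫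
      (Coh.push f).mapIso (EGA73.tensUnitLeft _)
  have hg : Gen S ((Coh.push f).obj ((Scheme.Modules.pullback f).obj M)) :=
    ((gen_pullback_tensorPow f (h.tensorPow_coh hE) (isCoh_of_isFinLocFree hE) e n).push f).trans fun _ =>
      ⟨m, id, ⟨eB⟩⟩
  exact Gen.of_retract k hS (isCoh_of_isFinLocFree (h.tensor_lf lB lM).1) R'.i R'.r R'.retract (hg.iso p.symm)

end Cur

end Groth.Agent.VB30

end
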