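import Groth.Agent.VB30.WeilCore
import Groth.Agent.VB30.Sum
import Groth.Agent.DCoh43.StrictlyPerfect
import Mathlib.CategoryTheory.Retract

/-! Properties of Weil finite bundles. -/

set_option autoImplicit false
set_option linter.style.haveILetI false
set_option linter.unusedSectionVars false
set_option backward.isDefEq.respectTransparency.types false

noncomputable section

universe u

open CategoryTheory CategoryTheory.Limits AlgebraicGeometry TopologicalSpace Opposite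
open Groth.Agent.QC70 Groth.Agent.Props58.LocFree
open Groth.Agent.KSchm95 (Indec)

namespace Groth.Agent.VB30

variable {X : Scheme.{u}}

/-- Four factors exchanged. -/
theorem nonempty_tens_exchange (A B C D : X.Modules) :
    Nonempty (CohB1.tensorMod (CohB1.tensorMod A B) (CohB1.tensorMod C D) ≅
      CohB1.tensorMod (CohB1.tensorMod A C) (CohB1.tensorMod B D)) :=
  ⟨EGA73.tensAssoc' A B (CohB1.tensorMod C D) ≪≫
    EGA73.tensIso (Iso.refl A) ((EGA73.tensAssoc' B C D).symm ≪≫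
      EGA73.tensIso (EGA73.tensComm B C) (Iso.refl D) ≪≫ EGA73.tensAssoc' C B D) ≪≫
    (EGA73.tensAssoc' A C (CohB1.tensorMod B D)).symm⟩

theorem nonempty_tensorPow_congr {E E' : X.Modules} (e : E ≅ E') :
    ∀ n : ℕ, Nonempty (CohB1.tensorPow E n ≅ CohB1.tensorPow E' n)
  | 0 => ⟨Iso.refl _⟩
  | n + 1 => (nonempty_tensorPow_congr e n).map fun i => EGA73.tensIso i e

theorem nonempty_tensorPow_tensor (A B : X.Modules) : ∀ n : ℕ,
    Nonempty (CohB1.tensorPow (CohB1.tensorMod A B) n ≅ CohB1.tensorMod (CohB1.tensorPow A n) (CohB1.tensorPow B n))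
  | 0 => ⟨(EGA73.tensUnitLeft _).symm⟩
  | n + 1 => by
    obtain ⟨i⟩ := nonempty_tensorPow_tensor A B n
    obtain ⟨e⟩ := nonempty_tens_exchange (CohB1.tensorPow A n) (CohB1.tensorPow B n) A B
    exact ⟨EGA73.tensIso i (Iso.refl _) ≪≫ e⟩

theorem nonempty_tensorPow_add' (L : X.Modules) (a : ℕ) : ∀ b : ℕ,
    Nonempty (CohB1.tensorPow L (a + b) ≅ CohB1.tensorMod (CohB1.tensorPow L a) (CohB1.tensorPow L b))
  | 0 => ⟨(EGA73.tensUnitRight _).symm⟩
  | b + 1 => (nonempty_tensorPow_add' L a b).map fun i => EGA73.tensIso i (Iso.refl L) ≪≫ EGA73.tensAssoc' _ _ _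

theorem WF.iso {E E' : X.Modules} (h : WF E) (e : E ≅ E') : WF E' := by
  obtain ⟨P, Q, hne, ⟨f⟩⟩ := h
  have g : ∀ R : Polynomial ℕ, polyMod R E ≅ polyMod R E' := fun R =>
    Sigma.mapIso fun i => Sigma.mapIso fun _ => (nonempty_tensorPow_congr e i).some
  exact ⟨P, Q, hne, ⟨(g P).symm ≪≫ f ≪≫ g Q⟩⟩

/-- A retract of `A` gives a retract of each power. -/
theorem nonempty_retract_tensorPow {A B : X.Modules} (r : Retract A B) : ∀ n : ℕ,
    Nonempty (Retract (CohB1.tensorPow A n) (CohB1.tensorPow B n))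
  | 0 => ⟨Retract.refl _⟩
  | n + 1 => by
    obtain ⟨s⟩ := nonempty_retract_tensorPow r n
    exact ⟨((s.map (Crv77.twist A)).trans (Retract.ofIso (EGA73.tensComm _ _))).trans
      ((r.map (Crv77.twist (CohB1.tensorPow B n))).trans (Retract.ofIso (EGA73.tensComm _ _)))⟩

/-- Two factors as a coproduct. -/
theorem nonempty_biprod_sigma (A B : X.Modules) : Nonempty (A ⊞ B ≅ ∐ ![A, B]) :=
  ⟨{ hom := biprod.desc (Sigma.ι ![A, B] 0) (Sigma.ι ![A, B] 1)
     inv := Sigma.desc (Fin.cases (biprod.inl) fun i => Fin.cases biprod.inr (fun j => j.elim0) i)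
     hom_inv_id := by
      refine biprod.hom_ext' _ _ ?_ ?_
      · erw [biprod.inl_desc_assoc, Sigma.ι_desc, Category.comp_id]; rfl
      · erw [biprod.inr_desc_assoc, Sigma.ι_desc, Category.comp_id]; rfl
     inv_hom_id := by
      refine Sigma.hom_ext _ _ fun i => ?_
      erw [Sigma.ι_desc_assoc, Category.comp_id]
      fin_cases i
      · exact biprod.inl_desc _ _
      · exact biprod.inr_desc _ _ }⟩

theorem Gen.tensor₂ {m l : ℕ} {S : Fin m → X.Modules} {T : Fin l → X.Modules} {A B : X.Modules} (hA : Gen S A)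
    (hB : Gen T B) :
    Gen (fun p => CohB1.tensorMod (S (finProdFinEquiv.symm p).1) (T (finProdFinEquiv.symm p).2))
      (CohB1.tensorMod A B) := by
  refine (hA.tensor B).trans fun i => (hB.tensor' (S i)).trans fun j => ?_
  exact (gen_self _ (finProdFinEquiv (i, j))).iso (eqToIso (by rw [Equiv.symm_apply_apply]))

variable {k : Type u} [Field k] [X.Over (Spec (CommRingCat.of k))] [IsIntegral X]

theorem Gen.dual {m : ℕ} {S : Fin m → X.Modules} {A : X.Modules} (h : Gen S A) :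
    Gen (fun j => dualMod (S j)) (dualMod A) := by
  obtain ⟨n, σ, ⟨e⟩⟩ := h
  haveI : HasFiniteBiproducts X.Modules := HasFiniteBiproducts.of_hasFiniteProducts
  obtain ⟨a⟩ := nonempty_dualMod_congr (e ≪≫ (biproduct.isoCoproduct _).symm)
  obtain ⟨b⟩ := nonempty_dualMod_biproduct fun x => S (σ x)
  exact ⟨n, σ, ⟨a ≪≫ b ≪≫ biproduct.isoCoproduct _⟩⟩

namespace Cur

variable (h : Cur k X)
include h

theorem tensorPow_lf {E : X.Modules} (hE : FlatMod.IsFinLocFree E) : ∀ n : ℕ,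
    FlatMod.IsFinLocFree (CohB1.tensorPow E n) ∧ rk (CohB1.tensorPow E n) = rk E ^ n ∧
      dg k (CohB1.tensorPow E n) * rk E = n * (rk E : ℤ) ^ n * dg k E
  | 0 => by
    obtain ⟨l, r⟩ := lf_of_isInvertible (X := X) EGA73.isInvertible_structureModule
    refine ⟨l, r, ?_⟩
    change dg k (Coh.structureModule X) * _ = _
    rw [h.dg_structureModule]
    simp
  | n + 1 => by
    obtain ⟨l, r, d⟩ := tensorPow_lf hE n
    obtain ⟨l', r', d'⟩ := h.tensor_lf l hE
    refine ⟨l', r'.trans (by rw [r, pow_succ]), ?_⟩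
    change dg k (CohB1.tensorMod (CohB1.tensorPow E n) E) * _ = _
    rw [d', r]
    push_cast
    rw [pow_succ]
    linear_combination (rk E : ℤ) * d

theorem tensorPow_coh {E : X.Modules} (hE : FlatMod.IsFinLocFree E) (n : ℕ) :
    Coh.IsCoh (CohB1.tensorPow E n) :=
  isCoh_of_isFinLocFree (h.tensorPow_lf hE n).1

/-- The data of Weil's criterion. -/
theorem exists_gen {E : X.Modules} (hE : FlatMod.IsFinLocFree E) (hw : WF E) :
    ∃ (m : ℕ) (S : Fin m → X.Modules), (∀ j, Indec (S j)) ∧ (∀ j, FlatMod.IsFinLocFree (S j)) ∧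
      (∀ j, Gen S (CohB1.tensorMod (S j) E)) ∧ ∀ n, Gen S (CohB1.tensorPow E n) := by
  have := h.proper
  obtain ⟨m, S, hS, hret, hgen⟩ := exists_gen_of_wf k (h.tensorPow_coh hE) hw
  refine ⟨m, S, hS, fun j => ?_, fun j => ?_, hgen⟩
  · obtain ⟨i, a, b, hab⟩ := hret j
    exact (h.biprod_parts (KSchm95.splitIso a b hab) (h.tensorPow_lf hE i).1).1
  · obtain ⟨i, a, b, hab⟩ := hret j
    let r := (Retract.mk a b hab).map (Crv77.twist E)
    exact Gen.of_retract k hS (A := (Crv77.twist E).obj (S j)) (B := (Crv77.twist E).obj (CohB1.tensorPow E i))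
      (h.tensorPow_coh hE (i + 1)) r.i r.r r.retract (hgen (i + 1))

theorem wf_dual {E : X.Modules} (hE : FlatMod.IsFinLocFree E) (hw : WF E) : WF (dualMod E) := by
  obtain ⟨m, S, -, -, -, hgen⟩ := h.exists_gen hE hw
  have hd : ∀ n, Nonempty (dualMod (CohB1.tensorPow E n) ≅ CohB1.tensorPow (dualMod E) n) := by
    intro n
    induction n with
    | zero =>
      have := h.isNoetherian
      obtain ⟨H, -, ⟨i⟩, ⟨j⟩⟩ := exists_homMod_invertible (X := X) EGA73.isInvertible_structureModule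
        (Coh.structureModule X)
      exact ⟨j ≪≫ i⟩
    | succ n ih =>
      obtain ⟨i⟩ := ih
      obtain ⟨j⟩ := nonempty_dualMod_tensor (h.tensorPow_lf hE n).1 E
      exact ⟨j ≪≫ EGA73.tensComm _ _ ≪≫ EGA73.tensIso i (Iso.refl _)⟩
  exact wf_of_gen (fun j => dualMod (S j)) fun n => (hgen n).dual.iso (hd n).some

theorem wf_of_wf_dual {E : X.Modules} (hE : FlatMod.IsFinLocFree E) (hw : WF (dualMod E)) : WF E :=
  (h.wf_dual (h.dualMod_lf hE).1 hw).iso (h.nonempty_bidual hE).some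

theorem wf_tensor {E₁ E₂ : X.Modules} (h₁ : FlatMod.IsFinLocFree E₁) (h₂ : FlatMod.IsFinLocFree E₂) (w₁ : WF E₁)
    (w₂ : WF E₂) : WF (CohB1.tensorMod E₁ E₂) := by
  obtain ⟨m, S, -, -, -, hS⟩ := h.exists_gen h₁ w₁
  obtain ⟨l, T, -, -, -, hT⟩ := h.exists_gen h₂ w₂
  exact wf_of_gen _ fun n => ((hS n).tensor₂ (hT n)).iso (nonempty_tensorPow_tensor E₁ E₂ n).some.symm

theorem wf_biprod {E₁ E₂ : X.Modules} (h₁ : FlatMod.IsFinLocFree E₁) (h₂ : FlatMod.IsFinLocFree E₂) (w₁ : WF E₁)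
    (w₂ : WF E₂) : WF (E₁ ⊞ E₂) := by
  obtain ⟨m, S, -, -, hS1, hS⟩ := h.exists_gen h₁ w₁
  obtain ⟨l, T, -, -, hT1, hT⟩ := h.exists_gen h₂ w₂
  refine wf_of_gen (fun p => CohB1.tensorMod (S (finProdFinEquiv.symm p).1) (T (finProdFinEquiv.symm p).2))
    fun n => ?_
  induction n with
  | zero => exact ((hS 0).tensor₂ (hT 0)).iso (EGA73.tensUnitLeft _)
  | succ n ih =>
    refine (ih.tensor (E₁ ⊞ E₂)).trans fun p => ?_
    obtain ⟨i, j⟩ := finProdFinEquiv.symm p
    obtain ⟨c⟩ := nonempty_biprod_sigma E₁ E₂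
    obtain ⟨d⟩ := nonempty_tensor_sigma ![E₁, E₂] (CohB1.tensorMod (S i) (T j))
    refine (Gen.sigma _ fun a => ?_).iso
      (d.symm ≪≫ EGA73.tensIso c.symm (Iso.refl _) ≪≫ EGA73.tensComm _ _)
    fin_cases a
    · exact ((hS1 i).tensor₂ (gen_self T j)).iso
        (EGA73.tensAssoc' (S i) E₁ (T j) ≪≫ EGA73.tensIso (Iso.refl _) (EGA73.tensComm _ _) ≪≫
          (EGA73.tensAssoc' (S i) (T j) E₁).symm ≪≫ EGA73.tensComm _ _)
    · exact ((gen_self S i).tensor₂ (hT1 j)).iso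
        ((EGA73.tensAssoc' (S i) (T j) E₂).symm ≪≫ EGA73.tensComm _ _)

theorem wf_of_biprod {E₁ E₂ : X.Modules} (h₁ : FlatMod.IsFinLocFree E₁) (h₂ : FlatMod.IsFinLocFree E₂)
    (w : WF (E₁ ⊞ E₂)) : WF E₁ := by
  have := h.proper
  have h12 := DCoh43.isFinLocFree_biprod h₁ h₂
  obtain ⟨m, S, hS, -, -, hgen⟩ := h.exists_gen h12 w
  refine wf_of_gen S fun n => ?_
  obtain ⟨r⟩ := nonempty_retract_tensorPow (Retract.mk biprod.inl biprod.fst (biprod.inl_fst (X := E₁) (Y := E₂))) n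
  exact Gen.of_retract k hS (h.tensorPow_coh h12 n) r.i r.r r.retract (hgen n)

/-- An indecomposable sum of members is a member. -/
theorem exists_iso_of_gen {m : ℕ} {S : Fin m → X.Modules} (hS : ∀ j, Indec (S j)) {A : X.Modules}
    (hA : Coh.IsCoh A) (hi : Indec A) (hg : Gen S A) : ∃ j, Nonempty (A ≅ S j) := by
  have := h.proper
  obtain ⟨n, σ, ⟨e⟩⟩ := hg
  obtain ⟨w, hw⟩ := exists_decomp_unique k A hA (fun _ : Fin 1 => A) (fun a => S (σ a)) (fun _ => hi)
    (fun a => hS _) (coproductUniqueIso fun _ : Fin 1 => A).symm e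
  exact ⟨_, hw 0⟩

theorem indec_of_line {L : X.Modules} (hL : FlatMod.IsFinLocFree L) (h1 : rk L = 1) : Indec L :=
  ⟨fun hz => by have := rk_eq_zero_of_isZero hz; omega, fun P Q ⟨e⟩ => by
    obtain ⟨lP, lQ, hr, -⟩ := h.biprod_parts e hL
    rcases Nat.eq_zero_or_pos (rk P) with hP | hP
    · exact Or.inl (h.isZero_of_rk_eq_zero lP hP)
    · exact Or.inr (h.isZero_of_rk_eq_zero lQ (by omega))⟩

/-- An invertible module is finite iff it is torsion. -/
theorem wf_iff_torsion {L : X.Modules} (hL : PicF.IsInvertible L) :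
    WF L ↔ ∃ m : ℕ, 0 < m ∧ Nonempty (CohB1.tensorPow L m ≅ Coh.structureModule X) := by
  obtain ⟨lL, rL⟩ := lf_of_isInvertible hL
  constructor
  · intro hw
    obtain ⟨m, S, hS, -, -, hgen⟩ := h.exists_gen lL hw
    choose f hf using fun n => h.exists_iso_of_gen hS (h.tensorPow_coh lL n)
      (h.indec_of_line (h.tensorPow_lf lL n).1 ((h.tensorPow_lf lL n).2.1.trans (by rw [rL, one_pow]))) (hgen n)
    obtain ⟨a, b, hne, hab⟩ := Finite.exists_ne_map_eq_of_infinite f
    wlog hlt : a < b generalizing a b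
    · exact this b a hne.symm hab.symm (by omega)
    obtain ⟨c, rfl⟩ := Nat.exists_eq_add_of_lt hlt
    refine ⟨c + 1, Nat.succ_pos c, ?_⟩
    obtain ⟨i⟩ := hf a
    obtain ⟨j⟩ := hf (a + c + 1)
    obtain ⟨s⟩ := nonempty_tensorPow_add' L a (c + 1)
    have := h.isNoetherian
    obtain ⟨J, hJ, ⟨z⟩⟩ := Crv77.exists_inverse (EGA73.isInvertible_tensorPow hL a)
    have z' : CohB1.tensorMod J (CohB1.tensorPow L a) ≅ Coh.structureModule X := EGA73.tensComm _ _ ≪≫ z
    exact ⟨(EGA73.tensUnitLeft _).symm ≪≫ EGA73.tensIso z'.symm (Iso.refl _) ≪≫ EGA73.tensAssoc' _ _ _ ≪≫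
      EGA73.tensIso (Iso.refl J) (s.symm ≪≫ j ≪≫ eqToIso (by rw [← hab]) ≪≫ i.symm) ≪≫ z'⟩
  · rintro ⟨m, hm, ⟨e⟩⟩
    refine wf_of_gen (fun i : Fin m => CohB1.tensorPow L i) fun n => ?_
    induction n using Nat.strong_induction_on with
    | _ n ih =>
      rcases lt_or_ge n m with hn | hn
      · exact gen_self (fun i : Fin m => CohB1.tensorPow L i) ⟨n, hn⟩
      · obtain ⟨c, rfl⟩ := Nat.exists_eq_add_of_le hn
        obtain ⟨s⟩ := nonempty_tensorPow_add' L m c
        exact (ih c (by omega)).iso ((EGA73.tensUnitLeft _).symm ≪≫ EGA73.tensIso e.symm (Iso.refl _) ≪≫ s.symm)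

/-- Slope bounded by `c`. -/
theorem slope_le_biprod {A B : X.Modules} (_hA : FlatMod.IsFinLocFree A) (hB : FlatMod.IsFinLocFree B) {c : ℤ}
    (bA : ∀ (G : X.Modules) (i : G ⟶ A), Mono i → FlatMod.IsFinLocFree G → dg k G ≤ c * rk G)
    (bB : ∀ (G : X.Modules) (i : G ⟶ B), Mono i → FlatMod.IsFinLocFree G → dg k G ≤ c * rk G)
    (G : X.Modules) (i : G ⟶ A ⊞ B) (hi : Mono i) (hG : FlatMod.IsFinLocFree G) : dg k G ≤ c * rk G := by
  obtain ⟨K, I, a, p, j, ha, -, hj, haf, -, hK, hI, hr, hd, -, -⟩ := h.exists_ker_im (i ≫ biprod.snd) hG hB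
  have : Mono (a ≫ i ≫ biprod.fst) := Preadditive.mono_of_cancel_zero _ fun {Z} u hu => by
    rw [← cancel_mono a, zero_comp, ← cancel_mono i, zero_comp]
    refine biprod.hom_ext _ _ ?_ ?_
    · simpa using hu
    · simp [haf]
  have := bA K _ this hK
  have := bB I j hj hI
  rw [hd, hr]
  push_cast
  linarith

theorem exists_slope_bound {E : X.Modules} (hE : FlatMod.IsFinLocFree E) (hw : WF E) :
    ∃ c : ℤ, ∀ (n : ℕ) (G : X.Modules) (i : G ⟶ CohB1.tensorPow E n), Mono i → FlatMod.IsFinLocFree G →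
      dg k G ≤ c * rk G := by
  classical
  haveI : HasFiniteBiproducts X.Modules := HasFiniteBiproducts.of_hasFiniteProducts
  have := h.isNoetherian
  obtain ⟨m, S, -, hS, -, hgen⟩ := h.exists_gen hE hw
  choose N hN using fun j => h.bddAbove_dg (hS j)
  let c : ℤ := ∑ j, |N j|
  have hc : ∀ (j : Fin m) (G : X.Modules) (i : G ⟶ S j), Mono i → FlatMod.IsFinLocFree G → dg k G ≤ c * rk G := by
    intro j G i hi hG
    rcases Nat.eq_zero_or_pos (rk G) with hz | hz
    · rw [h.dg_of_rk_zero hG hz, hz]; simp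
    · have h1 := hN j G i hi (isCoh_of_isFinLocFree hG)
      have h2 : |N j| ≤ c := Finset.single_le_sum (fun j _ => abs_nonneg (N j)) (Finset.mem_univ j)
      have h3 : (0 : ℤ) ≤ c := (abs_nonneg _).trans h2
      have h4 : (1 : ℤ) ≤ rk G := by exact_mod_cast hz
      calc dg k G ≤ c := h1.trans ((le_abs_self _).trans h2)
        _ ≤ c * rk G := le_mul_of_one_le_right h3 h4
  have key : ∀ (l : ℕ) (σ : Fin l → Fin m), FlatMod.IsFinLocFree (⨁ fun a => S (σ a)) →
      ∀ (G : X.Modules) (i : G ⟶ ⨁ fun a => S (σ a)), Mono i → FlatMod.IsFinLocFree G → dg k G ≤ c * rk G := by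
    intro l
    induction l with
    | zero =>
      intro σ _ G i hi hG
      have hz : rk G = 0 := rk_eq_zero_of_isZero ((IsZero.iff_id_eq_zero G).2 (by
        rw [← cancel_mono i]; exact biproduct.hom_ext _ _ fun a => a.elim0))
      rw [h.dg_of_rk_zero hG hz, hz]; simp
    | succ l ih =>
      intro σ hl G i hi hG
      let P := KSchm95.peelIso (fun a => S (σ a)) 0
      obtain ⟨lA, lB, -, -⟩ := h.biprod_parts P hl
      exact h.slope_le_biprod lA lB (hc (σ 0)) (ih (fun a => σ ((0 : Fin (l + 1)).succAbove a)) lB) G (i ≫ P.hom)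
        (mono_comp _ _) hG
  refine ⟨c, fun n G i hi hG => ?_⟩
  obtain ⟨l, σ, ⟨e⟩⟩ := hgen n
  let e' := e ≪≫ (biproduct.isoCoproduct _).symm
  have hl := (h.tensorPow_lf hE n).1
  exact key l σ (h.isFinLocFree_of_isTF (QC70.isCoh_of_iso e' (isCoh_of_isFinLocFree hl))
    ((isTF_of_isFinLocFree hl).of_mono e'.inv)) G (i ≫ e'.hom) (mono_comp _ _) hG

/-- Submodules of a finite bundle have non-positive degree. -/
theorem dg_nonpos_of_wf {E : X.Modules} (hE : FlatMod.IsFinLocFree E) (hw : WF E) {F : X.Modules} (i : F ⟶ E)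
    [Mono i] (hF : FlatMod.IsFinLocFree F) : dg k F ≤ 0 := by
  obtain ⟨c, hc⟩ := h.exists_slope_bound hE hw
  rcases Nat.eq_zero_or_pos (rk F) with hz | hz
  · rw [h.dg_of_rk_zero hF hz]
  have hm : ∀ n, ∃ u : CohB1.tensorPow F n ⟶ CohB1.tensorPow E n, Mono u := by
    intro n
    induction n with
    | zero => exact ⟨𝟙 (Coh.structureModule X), (inferInstance : Mono (𝟙 (Coh.structureModule X)))⟩
    | succ n ih =>
      obtain ⟨u, hu⟩ := ih
      obtain ⟨f, g, w, hT⟩ := shortExact_tensor_left (h.tensorPow_lf hF n).1 (shortExact_cokernel i)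
      obtain ⟨f', g', w', hT'⟩ := shortExact_tensor_left hE (shortExact_cokernel u)
      have : Mono f := hT.mono_f
      have : Mono f' := hT'.mono_f
      have : Mono ((EGA73.tensComm (CohB1.tensorPow F n) E).hom ≫ f' ≫ (EGA73.tensComm E (CohB1.tensorPow E n)).hom) := by
        have : Mono (f' ≫ (EGA73.tensComm E (CohB1.tensorPow E n)).hom) := mono_comp _ _
        exact mono_comp _ _
      let f₁ : CohB1.tensorMod (CohB1.tensorPow F n) F ⟶ CohB1.tensorMod (CohB1.tensorPow F n) E := f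
      have : Mono f₁ := hT.mono_f
      have key : Mono (f₁ ≫ (EGA73.tensComm (CohB1.tensorPow F n) E).hom ≫ f' ≫
          (EGA73.tensComm E (CohB1.tensorPow E n)).hom) := mono_comp _ _
      exact ⟨_, key⟩
  by_contra hlt
  obtain ⟨n, hn⟩ : ∃ n : ℕ, c * rk F < n * dg k F :=
    ⟨(c * rk F).natAbs + 1, by push_cast; nlinarith [le_abs_self (c * (rk F : ℤ)), abs_nonneg (c * (rk F : ℤ))]⟩
  obtain ⟨u, hu⟩ := hm n
  obtain ⟨l, r, d⟩ := h.tensorPow_lf hF n
  have a := hc n _ u hu l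
  rw [r] at a
  push_cast at a
  have hp : (0 : ℤ) < (rk F : ℤ) ^ n := pow_pos (by exact_mod_cast hz) n
  have b := mul_le_mul_of_nonneg_right a (Int.natCast_nonneg (rk F))
  rw [d] at b
  have := mul_lt_mul_of_pos_left hn hp
  nlinarith

theorem wf_deg {E : X.Modules} (hE : FlatMod.IsFinLocFree E) (hw : WF E) : dg k E = 0 := by
  have a := h.dg_nonpos_of_wf hE hw (𝟙 E) hE
  obtain ⟨l, -, d⟩ := h.dualMod_lf hE
  have b := h.dg_nonpos_of_wf l (h.wf_dual hE hw) (𝟙 _) l
  omega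

end Cur

end Groth.Agent.VB30

end
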