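import Groth.Agent.VB30.Triv
import Groth.Agent.EGA73.AmpleBaseImmersion
import Groth.Agent.Approx60.Segre
import Groth.Agent.An92.Ample.Inverse
import Groth.Agent.Crv77.Twist
import Mathlib.CategoryTheory.Subobject.Lattice

/-! Filtrations by line bundles as chains of subobjects, over a neighbourhood in the base of a smooth
projective family of curves. -/

set_option autoImplicit false
set_option backward.isDefEq.respectTransparency.types false
set_option linter.style.haveILetI false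
set_option linter.unusedSectionVars false

noncomputable section

universe u

open CategoryTheory CategoryTheory.Limits AlgebraicGeometry TopologicalSpace Opposite
open Groth.Agent.QC70 Groth.Agent.Props58.LocFree Groth.Agent.Cyc90

namespace Groth.Agent.VB30.FiltSub

variable {X : Scheme.{u}}

theorem rank_of_iso {n : ℕ} {M N : X.Modules} (e : M ≅ N) (h : FlatMod.IsFinLocFreeOfRank n M) :
    FlatMod.IsFinLocFreeOfRank n N := fun x => by
  obtain ⟨U, hx, ⟨i⟩⟩ := h x
  exact ⟨U, hx, ⟨(Scheme.Modules.restrictFunctor U.ι).mapIso e.symm ≪≫ i⟩⟩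

theorem twist' {M L : X.Modules} {ls : List X.Modules} (h : Dev.HasFilt M ls) (hL : PicF.IsInvertible L) :
    Dev.HasFilt (CohB1.tensorMod M L) (ls.map fun A => CohB1.tensorMod A L) := by
  induction h with
  | @zero M h0 => exact .zero (show IsZero (CohB1.tensorMod M L) from (Mod48.tR (O := X.sheaf) L).map_isZero h0)
  | step a b w hs hA _ ih =>
    obtain ⟨T, hT, e₁, e₂, e₃⟩ := Crv77.shortExact_twist (Mero90.isFinLocFreeOfRank_of_isInvertible hL) hs
    rcases T with ⟨f, g, w'⟩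
    dsimp only at e₁ e₂ e₃
    subst e₁ e₂ e₃
    exact .step f g w' hT (EGA73.isInvertible_tensorMod hA hL) ih

theorem cokernel_ofLE_iso {M : X.Modules} {A B : X.Modules} (fA : A ⟶ M) (fB : B ⟶ M) [Mono fA] [Mono fB]
    (φ : A ⟶ B) (hφ : φ ≫ fB = fA) :
    ∃ h : Subobject.mk fA ≤ Subobject.mk fB,
      Nonempty (cokernel ((Subobject.mk fA).ofLE (Subobject.mk fB) h) ≅ cokernel φ) := by
  refine ⟨Subobject.mk_le_mk_of_comm φ hφ,
    ⟨cokernel.mapIso _ φ (Subobject.underlyingIso fA) (Subobject.underlyingIso fB) ?_⟩⟩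
  rw [← cancel_mono fB, Category.assoc, Category.assoc, Subobject.underlyingIso_hom_comp_eq_mk,
    Subobject.ofLE_arrow, hφ, Subobject.underlyingIso_hom_comp_eq_mk]

/-- A filtration with invertible pieces as a chain of monomorphisms into the module. -/
theorem exists_monos {M : X.Modules} {ls : List X.Modules} (h : Dev.HasFilt M ls) :
    ∀ r, ls.length = r → ∃ (A : Fin (r + 1) → X.Modules) (j : ∀ i, A i ⟶ M),
      (∀ i, Mono (j i)) ∧ IsZero (A 0) ∧ IsIso (j (Fin.last r)) ∧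
      (∀ i : Fin (r + 1), FlatMod.IsFinLocFreeOfRank (i : ℕ) (A i)) ∧
      ∀ i : Fin r, ∃ φ : A i.castSucc ⟶ A i.succ, φ ≫ j i.succ = j i.castSucc ∧
        FlatMod.IsFinLocFreeOfRank 1 (cokernel φ) := by
  induction h with
  | @zero M h0 =>
    intro r hr
    obtain rfl : 0 = r := hr
    refine ⟨fun _ => M, fun _ => 𝟙 M, fun _ => inferInstance, h0, inferInstance, fun i => ?_, fun i => i.elim0⟩
    obtain rfl : i = 0 := Fin.fin_one_eq_zero i
    exact (Dev.HasFilt.zero h0).isFinLocFreeOfRank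
  | @step M' M L ls a b w hs hL h' ih =>
    intro r hr
    obtain ⟨n, rfl⟩ : ∃ n, r = n + 1 := ⟨ls.length, by simpa using hr.symm⟩
    have hn : ls.length = n := by simpa using hr
    obtain ⟨A, j, hj, hz, hiso, hrk, hq⟩ := ih n hn
    haveI := hs.mono_f
    refine ⟨Fin.snoc A M, Fin.lastCases (eqToHom (by rw [Fin.snoc_last]))
      (fun i => eqToHom (by rw [Fin.snoc_castSucc]) ≫ j i ≫ a), ?_, ?_, ?_, ?_, ?_⟩
    · refine Fin.lastCases ?_ fun i => ?_
      · dsimp only
        rw [Fin.lastCases_last]; infer_instance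
      · dsimp only
        rw [Fin.lastCases_castSucc]
        haveI := hj i
        haveI : Mono a := hs.mono_f
        infer_instance
    · rw [← Fin.castSucc_zero, Fin.snoc_castSucc]
      exact hz
    · dsimp only
      rw [Fin.lastCases_last]; infer_instance
    · refine Fin.lastCases ?_ fun i => ?_
      · rw [Fin.snoc_last, Fin.val_last, ← hn]
        exact (Dev.HasFilt.step a b w hs hL h').isFinLocFreeOfRank
      · rw [Fin.snoc_castSucc, Fin.val_castSucc]
        exact hrk i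
    · refine Fin.lastCases ?_ fun i => ?_
      · refine ⟨eqToHom (by rw [Fin.snoc_castSucc]) ≫ j (Fin.last n) ≫ a ≫
          eqToHom (by rw [Fin.succ_last, Fin.snoc_last]), ?_, ?_⟩
        · simp [Fin.succ_last]
        · haveI := hiso
          refine rank_of_iso ?_ (Mero90.isFinLocFreeOfRank_of_isInvertible hL)
          exact ((cokernelIsCokernel a).coconePointUniqueUpToIso hs.gIsCokernel).symm ≪≫
            cokernel.mapIso a _ (asIso (j (Fin.last n))).symm (eqToIso (by rw [Fin.succ_last, Fin.snoc_last]))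
              (by simp) ≪≫ (cokernelEpiComp (eqToHom _) _).symm
      · obtain ⟨φ, hφ, hc⟩ := hq i
        refine ⟨eqToHom (by rw [Fin.snoc_castSucc]) ≫ φ ≫ eqToHom (by rw [Fin.succ_castSucc, Fin.snoc_castSucc]),
          ?_, ?_⟩
        · simp only [Fin.succ_castSucc, Fin.lastCases_castSucc, Category.assoc, eqToHom_trans_assoc,
            eqToHom_refl, Category.id_comp, reassoc_of% hφ]
        · refine rank_of_iso ?_ hc
          exact cokernel.mapIso φ _ (eqToIso (by rw [Fin.snoc_castSucc]))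
              (eqToIso (by rw [Fin.succ_castSucc, Fin.snoc_castSucc])) (by simp)

/-- A filtration with invertible pieces as a chain of subobjects. -/
theorem exists_subobjects {M : X.Modules} {ls : List X.Modules} (h : Dev.HasFilt M ls) {r : ℕ}
    (hr : ls.length = r) : ∃ F : Fin (r + 1) → Subobject M,
      Monotone F ∧ F 0 = ⊥ ∧ F (Fin.last r) = ⊤ ∧
      (∀ i : Fin (r + 1), FlatMod.IsFinLocFreeOfRank (i : ℕ) (Subobject.underlying.obj (F i))) ∧
      (∀ i : Fin r, ∃ h : F i.castSucc ≤ F i.succ,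
        FlatMod.IsFinLocFreeOfRank 1 (cokernel ((F i.castSucc).ofLE (F i.succ) h))) := by
  obtain ⟨A, j, hj, hz, hiso, hrk, hq⟩ := exists_monos h r hr
  haveI := hj
  refine ⟨fun i => Subobject.mk (j i), Fin.monotone_iff_le_succ.2 fun i => ?_, ?_, ?_, fun i => ?_, fun i => ?_⟩
  · obtain ⟨φ, hφ, -⟩ := hq i
    exact Subobject.mk_le_mk_of_comm φ hφ
  · exact Subobject.mk_eq_bot_iff_zero.2 (hz.eq_of_src _ _)
  · exact Subobject.isIso_iff_mk_eq_top _ |>.1 hiso
  · exact rank_of_iso (Subobject.underlyingIso (j i)).symm (hrk i)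
  · obtain ⟨φ, hφ, hc⟩ := hq i
    obtain ⟨h, ⟨e⟩⟩ := cokernel_ofLE_iso (j i.castSucc) (j i.succ) φ hφ
    exact ⟨h, rank_of_iso e.symm hc⟩

set_option maxHeartbeats 1000000 in
theorem exists_open_filtered {k : Type u} [Field k] [IsAlgClosed k] {X Y : Scheme.{u}}
    (pY : Y ⟶ Spec (CommRingCat.of k)) [IrreducibleSpace Y]
    (f : X ⟶ Y) [SmoothOfRelativeDimension 1 f]
    (n : ℕ) (ι : X ⟶ CohB1.ProjSpaceOver n Y) [IsClosedImmersion ι]
    (hι : ι ≫ CohB1.ProjSpaceOver.toBase n Y = f)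
    (E : X.Modules) (r : ℕ) (hr : 1 ≤ r) (hE : FlatMod.IsFinLocFreeOfRank r E) :
    ∃ U : Y.Opens, (U : Set Y).Nonempty ∧
      ∃ F : Fin (r + 1) → Subobject (E.restrict (f ⁻¹ᵁ U).ι),
        Monotone F ∧ F 0 = ⊥ ∧ F (Fin.last r) = ⊤ ∧
        (∀ i : Fin (r + 1), FlatMod.IsFinLocFreeOfRank (i : ℕ) (Subobject.underlying.obj (F i))) ∧
        (∀ i : Fin r, ∃ h : F i.castSucc ≤ F i.succ,
          FlatMod.IsFinLocFreeOfRank 1 (cokernel ((F i.castSucc).ofLE (F i.succ) h))) := by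
  obtain ⟨m, rfl⟩ : ∃ m, r = m + 1 := ⟨r - 1, by omega⟩
  haveI : IsProper f := by
    have := Approx60.Segre.isProper_toBase n Y
    rw [← hι]
    infer_instance
  obtain ⟨-, -, L, hL⟩ := EGA73.AmpleBaseImmersion.isQuasiProjective_of_immersion ι hι
  obtain ⟨u⟩ := (inferInstance : Nonempty Y)
  obtain ⟨V, hV, huV, -⟩ := exists_isAffineOpen_mem_and_subset (U := (⊤ : Y.Opens)) (x := u) trivial
  haveI : IsAffine (V : Scheme.{u}) := hV
  let f₁ : (f ⁻¹ᵁ V : Scheme.{u}) ⟶ V := f ∣_ V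
  haveI : SmoothOfRelativeDimension 1 f₁ :=
    (smoothOfRelativeDimension_isStableUnderBaseChange 1).of_isPullback
      (isPullback_morphismRestrict f V).flip ‹_›
  haveI : IsProper f₁ := MorphismProperty.of_isPullback (P := @IsProper)
    (isPullback_morphismRestrict f V).flip ‹_›
  letI : (f ⁻¹ᵁ V : Scheme.{u}).Over (Spec (CommRingCat.of k)) := ⟨f₁ ≫ V.ι ≫ pY⟩
  let E₁ := (Scheme.Modules.pullback (f ⁻¹ᵁ V).ι).obj E
  have hE₁ : FlatMod.IsFinLocFreeOfRank (m + 1) E₁ := Grass5.QuotBC.isFinLocFreeOfRank_pullback _ hE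
  have hL₁ : CohB1.IsAmple (L.restrict (f ⁻¹ᵁ V).ι) := hL.2 ⟨V, hV⟩
  have hlf : FlatMod.IsFinLocFree E₁ := fun x => by
    obtain ⟨W, hx, e⟩ := hE₁ x; exact ⟨W, _, hx, e⟩
  have hEc : Coh.IsCoh E₁ := ⟨isQuasicoherent_of_isFinLocFree hlf, isFiniteType_of_isFinLocFree hlf⟩
  obtain ⟨d, hd⟩ := Amp73.eventually_spanAt_twist hL₁ hEc
  set N := CohB1.tensorPow (L.restrict (f ⁻¹ᵁ V).ι) d
  have hN : PicF.IsInvertible N := EGA73.isInvertible_tensorPow hL₁.1 d
  obtain ⟨N', hN', ⟨eN⟩⟩ := An92.InvMod.exists_inverse hN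
  have hgen : Curv2.IsGloballyGenerated (CohB1.tensorMod E₁ N) := Amp73.isGloballyGenerated_of_spanAt
    (Amp73.isQCoh_tensorMod hEc.1 (Mero90.isQCoh_of_isInvertible hN)) (hd d le_rfl)
  obtain ⟨V₂, hu₂, -, hfilt⟩ := FiltChain.exists_hasFilt m f₁ (V.ι ≫ pY) rfl
    (Triv.isFinLocFreeOfRank_twist hE₁ hN) hgen ⟨u, huV⟩
  set U := V.ι ''ᵁ V₂
  have hle : f ⁻¹ᵁ U ≤ f ⁻¹ᵁ V := f.preimage_mono (V.ι_image_le V₂)
  let h : (f ⁻¹ᵁ U : Scheme.{u}) ⟶ f ⁻¹ᵁ V := X.homOfLE hle
  obtain ⟨L', ls, hf, hlen, -⟩ := hfilt h fun t => by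
    obtain ⟨w, hw, hwt⟩ := t.2
    have e : V.ι (f₁ (h t)) = f t.1 := by
      rw [← Scheme.Hom.comp_apply, morphismRestrict_ι, Scheme.Hom.comp_apply, ← Scheme.Hom.comp_apply h,
        Scheme.homOfLE_ι]
      rfl
    exact (V.ι.isOpenEmbedding.injective (hwt.trans e.symm)) ▸ hw
  refine ⟨U, ⟨u, ⟨u, huV⟩, hu₂, rfl⟩, ?_⟩
  let e : (Scheme.Modules.pullback h).obj (CohB1.tensorMod E₁ N) ≅
      CohB1.tensorMod ((Scheme.Modules.pullback h).obj E₁) ((Scheme.Modules.pullback h).obj N) :=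
    Desc59.AmpleDesc.pullTensIso h E₁ N
  let eU : CohB1.tensorMod ((Scheme.Modules.pullback h).obj N) ((Scheme.Modules.pullback h).obj N') ≅
      Coh.structureModule _ :=
    (Desc59.AmpleDesc.pullTensIso h N N').symm ≪≫
      (Scheme.Modules.pullback h).mapIso (EGA73.tensComm N N' ≪≫ eN) ≪≫ PicLoc.pullbackStructureIso h
  let eE : CohB1.tensorMod ((Scheme.Modules.pullback h).obj (CohB1.tensorMod E₁ N))
      ((Scheme.Modules.pullback h).obj N') ≅ E.restrict (f ⁻¹ᵁ U).ι :=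
    EGA73.tensIso e (Iso.refl _) ≪≫ EGA73.tensAssoc' _ _ _ ≪≫ EGA73.tensIso (Iso.refl _) eU ≪≫
      EGA73.tensUnitRight _ ≪≫ (Scheme.Modules.pullbackComp h (f ⁻¹ᵁ V).ι).app E ≪≫
      eqToIso (by rw [Scheme.homOfLE_ι]) ≪≫ ((Scheme.Modules.restrictFunctorIsoPullback _).app E).symm
  exact exists_subobjects ((twist' hf (Amp73.isInvertible_pullback h hN')).of_iso eE) (by simp [hlen])

end Groth.Agent.VB30.FiltSub
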