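import Groth.Agent.VB30.FiltFree
import Groth.Agent.CrvPic30.Classify
import Groth.Agent.CrvPic30.Omega
import Groth.Agent.VarCurve.AmpleDeg
import Groth.Agent.Curves2.ProjectiveCurve
import Groth.Agent.RedPts82.SmoothDim
import Groth.Agent.Amp73.QA
import Groth.Agent.Amp73.GlobGen
import Groth.Agent.Amp73.Powers
import Groth.Agent.Amp73.Local
import Groth.Agent.Desc59.AmpleDesc
import Groth.Agent.Om3.ExtPowPull
import Groth.Prelude.Def_Curve

/-! Bundles with trivial determinant on a punctured curve times an affine scheme. -/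

set_option autoImplicit false
set_option backward.isDefEq.respectTransparency.types false
set_option linter.style.haveILetI false
set_option linter.unusedSectionVars false

noncomputable section

universe u

open CategoryTheory CategoryTheory.Limits AlgebraicGeometry TopologicalSpace Opposite
open Groth.Agent.QC70 Groth.Agent.Props58.LocFree

namespace Groth.Agent.VB30.Triv

theorem isZero_of_rank_zero {P : Scheme.{u}} {F : P.Modules} (h : FlatMod.IsFinLocFreeOfRank 0 F) : IsZero F := by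
  refine DCK91.isZero_of_stalks fun x => ?_
  obtain ⟨U, hx, ⟨e⟩⟩ := h x
  obtain ⟨s, hs⟩ := exists_stalkBasis_of_iso e
  haveI : Subsingleton ((DCK91.SP x).obj F) := (hs.stalkEquiv x hx).symm.toEquiv.subsingleton
  exact ModuleCat.isZero_of_subsingleton _

theorem isFinLocFreeOfRank_twist {P : Scheme.{u}} {E N : P.Modules} {r : ℕ}
    (hE : FlatMod.IsFinLocFreeOfRank r E) (hN : PicF.IsInvertible N) :
    FlatMod.IsFinLocFreeOfRank r (CohB1.tensorMod E N) := fun x => by
  haveI : E.IsQuasicoherent := isQuasicoherent_of_isFinLocFree fun y => by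
    obtain ⟨W, hy, e⟩ := hE y; exact ⟨W, _, hy, e⟩
  haveI := isQuasicoherent_of_isFinLocFree (Cyc90.Dev.HasFilt.isFinLocFree_of_isInvertible hN)
  haveI := QCTens72.isQuasicoherent_tensorMod E N
  obtain ⟨U, hU, hU'⟩ := Om3.DetSeq.exists_basis hE x
  obtain ⟨U₂, hU₂, hU₂'⟩ := Om3.DetSeq.exists_basis (Mero90.isFinLocFreeOfRank_of_isInvertible hN) x
  obtain ⟨W, hW, hxW, hle⟩ := exists_isAffineOpen_mem_and_subset (show x ∈ U ⊓ U₂ from ⟨hU, hU₂⟩)
  obtain ⟨b⟩ := hU' W fun y hy => (hle hy).1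
  obtain ⟨c⟩ := hU₂' W fun y hy => (hle hy).2
  obtain ⟨eT, -⟩ := Mum71.exists_tensor_equiv E N hW
  exact ⟨W, hxW, FlatMor68.LocFree.restrict_iso_free _ hW r
    (((b.tensorProduct c).map eT).reindex (Equiv.prodUnique (Fin r) (Fin 1))).equivFun⟩

variable {k : Type u} [Field k] [IsAlgClosed k]

/-- An ample invertible module, trivial away from a given closed point. -/
theorem exists_ample {X : Scheme.{u}} [X.Over (Spec (CommRingCat.of k))] [IsIntegral X]
    [IsProper (X ↘ Spec (CommRingCat.of k))] [Smooth (X ↘ Spec (CommRingCat.of k))]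
    (hdim : topologicalKrullDim X = 1) (x₀ : X) (hx₀ : IsClosed ({x₀} : Set X)) :
    ∃ L : X.Modules, CohB1.IsAmple L ∧
      Nonempty (L.restrict (Scheme.Opens.ι (X := X) ⟨({x₀} : Set X)ᶜ, hx₀.isOpen_compl⟩) ≅ Coh.structureModule _) := by
  classical
  letI := CrvPic30.ffAlg (k := k) (C := X)
  have h : CrvPic30.Setup k X := CrvPic30.setup_of_smooth_algClosed hdim
  let D : FunFld.Divisor k X.functionField := Finsupp.single (h.pl hx₀) 1
  have hdeg : 0 < Curv2.deg k X (h.O D) 1 := by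
    rw [h.deg_O, FunFld.Divisor.deg, Finsupp.sum_single_index (zero_mul _), one_mul]
    exact_mod_cast h.ffield.deg_pos _
  refine ⟨h.O D, VarCurve.isAmple_of_deg_pos k hdim (CrvPic30.Setup.isInvertible_O h D) hdeg, ?_⟩
  set U : X.Opens := ⟨({x₀} : Set X)ᶜ, hx₀.isOpen_compl⟩
  have hgen : genericPoint X ∈ U := fun e => Cyc90.not_isClosed_generic hdim
    (by rw [show genericPoint X = x₀ from e]; exact hx₀)
  have hD : ∀ (y : X) (hy : IsClosed ({y} : Set X)), y ∈ U → D (h.place ⟨y, hy⟩) = 0 := fun y hy hyU =>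
    Finsupp.single_eq_of_ne (fun e => hyU (congrArg Subtype.val (h.place.injective e)))
  obtain ⟨t, ht⟩ := CrvPic30.Setup.exists_rval_eq (h := h) (D := D) hgen (1 : X.functionField) fun y hy hyU => by
    rw [map_one, hD y hy hyU, WithZero.exp_zero]
  exact EGA73.nonempty_restrict_iso_unit _ U t (CrvPic30.Setup.isFrame_of_rval hgen t (ht ▸ one_ne_zero)
    fun y hy hyU => by rw [ht, map_one, hD y hy hyU, WithZero.exp_zero])

set_option maxHeartbeats 1000000 in
theorem locally_trivial (X : Scheme.{u}) (f : X ⟶ Spec (CommRingCat.of k))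
    (hX : Curve.IsSmoothProperCurve k X f) (x₀ : X) (hx₀ : IsClosed ({x₀} : Set X))
    (U : Scheme.{u}) [IsAffine U] (g : U ⟶ Spec (CommRingCat.of k))
    (E : (pullback f g).Modules) (r : ℕ) (hE : FlatMod.IsFinLocFreeOfRank r E)
    (hdet : ∃ D : (pullback f g).Modules, ExtPow.IsExtPow r E D ∧
      Nonempty (D ≅ Coh.structureModule (pullback f g))) (u : U) :
    ∃ V : U.Opens, u ∈ V ∧
      Nonempty (E.restrict ((pullback.fst f g) ⁻¹ᵁ (⟨({x₀} : Set X)ᶜ, hx₀.isOpen_compl⟩ : X.Opens) ⊓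
          (pullback.snd f g) ⁻¹ᵁ V).ι ≅
        FlatMod.freeMod (↑((pullback.fst f g) ⁻¹ᵁ (⟨({x₀} : Set X)ᶜ, hx₀.isOpen_compl⟩ : X.Opens) ⊓
          (pullback.snd f g) ⁻¹ᵁ V)) r) := by
  obtain ⟨hpr, hsm, hint, hdim⟩ := hX
  letI : X.Over (Spec (CommRingCat.of k)) := ⟨f⟩
  haveI : IsProper (X ↘ Spec (CommRingCat.of k)) := hpr
  haveI : Smooth (X ↘ Spec (CommRingCat.of k)) := hsm
  haveI : IsAffineHom (pullback.fst f g) := MorphismProperty.pullback_fst f g inferInstance
  haveI : IsProper (pullback.snd f g) := MorphismProperty.pullback_snd f g hpr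
  haveI : SmoothOfRelativeDimension 1 (pullback.snd f g) :=
    (smoothOfRelativeDimension_isStableUnderBaseChange 1).of_isPullback (IsPullback.of_hasPullback f g)
      (RedPts82.smoothOfRelativeDimension_of_irreducible f 1 hdim)
  letI : (pullback f g).Over (Spec (CommRingCat.of k)) := ⟨pullback.fst f g ≫ f⟩
  obtain ⟨L, hL, ⟨eL⟩⟩ := exists_ample (k := k) hdim x₀ hx₀
  set Xs : X.Opens := ⟨({x₀} : Set X)ᶜ, hx₀.isOpen_compl⟩
  have hXs : IsAffineOpen Xs := Curves2.affine_compl_point k hdim x₀ hx₀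
  cases r with
  | zero =>
    refine ⟨⊤, trivial, ⟨IsZero.iso ?_ ((IsZero.iff_id_eq_zero _).2 (Sigma.hom_ext _ _ fun i => i.elim0))⟩⟩
    exact (isZero_of_rank_zero
      (Grass5.QuotBC.isFinLocFreeOfRank_pullback _ hE)).of_iso
      ((Scheme.Modules.restrictFunctorIsoPullback _).app E)
  | succ m =>
    have hLU := Amp73.isAmple_pullback (pullback.fst f g) (Amp73.isQuasiAffine_of_isAffineHom _) hL
    set LU := (Scheme.Modules.pullback (pullback.fst f g)).obj L
    have hElf : FlatMod.IsFinLocFree E := fun x => by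
      obtain ⟨W, hx, e⟩ := hE x; exact ⟨W, _, hx, e⟩
    have hEc : Coh.IsCoh E := ⟨isQuasicoherent_of_isFinLocFree hElf, isFiniteType_of_isFinLocFree hElf⟩
    obtain ⟨n, hn⟩ := Amp73.eventually_spanAt_twist hLU hEc
    set N := CohB1.tensorPow LU n
    have hN : PicF.IsInvertible N := EGA73.isInvertible_tensorPow hLU.1 n
    set M := CohB1.tensorMod E N
    have hM : FlatMod.IsFinLocFreeOfRank (m + 1) M :=
      isFinLocFreeOfRank_twist hE hN
    have hgen : Curv2.IsGloballyGenerated M := Amp73.isGloballyGenerated_of_spanAt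
      (Amp73.isQCoh_tensorMod hEc.1 (Mero90.isQCoh_of_isInvertible hN)) (hn n le_rfl)
    obtain ⟨V, huV, hV, hfilt⟩ := FiltChain.exists_hasFilt m (pullback.snd f g) g
      (pullback.condition.symm) hM hgen u
    refine ⟨V, huV, ?_⟩
    set W := (pullback.fst f g) ⁻¹ᵁ Xs ⊓ (pullback.snd f g) ⁻¹ᵁ V
    have hW : IsAffineOpen W := by
      let W₀ := (pullback.fst f g) ⁻¹ᵁ Xs
      haveI : IsAffine (W₀ : Scheme.{u}) := hXs.preimage _
      have h1 := (hV.preimage (W₀.ι ≫ pullback.snd f g)).image_of_isOpenImmersion W₀.ι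
      rwa [Scheme.Hom.comp_preimage, Scheme.Hom.image_preimage_eq_opensRange_inf, Scheme.Opens.opensRange_ι] at h1
    haveI : IsAffine (W : Scheme.{u}) := hW
    obtain ⟨L', ls, hf, hlen, hls⟩ := hfilt W.ι fun t => t.2.2
    -- the twist is trivial on `W`
    let h'' : (W : Scheme.{u}) ⟶ Xs := IsOpenImmersion.lift Xs.ι (W.ι ≫ pullback.fst f g) (by
      rintro _ ⟨t, rfl⟩
      rw [Scheme.Opens.range_ι]
      exact t.2.1)
    let eLW : (Scheme.Modules.pullback W.ι).obj LU ≅ Coh.structureModule W :=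
      (Scheme.Modules.pullbackComp W.ι (pullback.fst f g)).app L ≪≫
      eqToIso (by rw [← IsOpenImmersion.lift_fac Xs.ι (W.ι ≫ pullback.fst f g) _]) ≪≫
      ((Scheme.Modules.pullbackComp h'' Xs.ι).app L).symm ≪≫
      (Scheme.Modules.pullback h'').mapIso ((Scheme.Modules.restrictFunctorIsoPullback _).app L).symm ≪≫
      (Scheme.Modules.pullback h'').mapIso eL ≪≫ PicLoc.pullbackStructureIso h''
    let eM : (Scheme.Modules.pullback W.ι).obj M ≅ (Scheme.Modules.pullback W.ι).obj E :=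
      Desc59.AmpleDesc.pullTensIso W.ι E N ≪≫ EGA73.tensIso (Iso.refl _)
        (Amp73.pullPowIso W.ι hLU.1 n ≪≫ Amp73.powIso eLW n ≪≫ Amp73.powUnit _ n) ≪≫ EGA73.tensUnitRight _
    obtain ⟨D, hD, ⟨eD⟩⟩ := hdet
    haveI : E.IsQuasicoherent := hEc.1
    have hDW := Om3.isExtPow_pullback W.ι hD
    obtain ⟨e⟩ := FiltFree.nonempty_free_of_det (hf.of_iso eM) hls (D := (Scheme.Modules.pullback W.ι).obj D)
      (by rw [hlen]; exact hDW) ((Scheme.Modules.pullback W.ι).mapIso eD ≪≫ PicLoc.pullbackStructureIso W.ι)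
    exact ⟨(Scheme.Modules.restrictFunctorIsoPullback _).app E ≪≫ e ≪≫ eqToIso (by rw [hlen])⟩

end Groth.Agent.VB30.Triv
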