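import Groth.Agent.VB30.ClopenBound
import Groth.Agent.CechComp71.Scheme

/-! Boundedness of a family of bundles in terms of quotient slopes. -/

set_option autoImplicit false
set_option linter.style.haveILetI false
set_option linter.unusedSectionVars false
set_option backward.isDefEq.respectTransparency.types false

noncomputable section

universe u

open CategoryTheory CategoryTheory.Limits AlgebraicGeometry TopologicalSpace Opposite

namespace Groth.Agent.VB30

namespace Cur

variable {k : Type u} [Field k] {X : Scheme.{u}} [X.Over (Spec (CommRingCat.of k))] [IsIntegral X]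
  (h : Cur k X)
include h

/-- A globally generated bundle has nonnegative degree. -/
theorem dg_nonneg_of_gg : ∀ {Q : X.Modules}, FlatMod.IsFinLocFree Q → Curv2.IsGloballyGenerated Q → 0 ≤ dg k Q := by
  intro Q hQ hg
  induction hn : rk Q using Nat.strong_induction_on generalizing Q with
  | _ n ih =>
  rcases Nat.eq_zero_or_pos n with h0 | h0
  · rw [h.dg_of_rk_zero hQ (hn.trans h0)]
  obtain ⟨t, ht⟩ : ∃ t : Γ(Q, ⊤), QC70.unitHom t ≠ 0 := by
    by_contra hall
    simp only [not_exists, ne_eq, not_not] at hall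
    have hz : (𝟙 Q : Q ⟶ Q) = 0 := (GGDesc24.isGloballyGenerated_iff Q).1 hg Q (𝟙 Q) fun t => by
      have := congrArg (fun φ : QC70.unitMod X ⟶ Q => φ.app ⊤ (QC70.toUnit 1)) (hall t)
      simp only [QC70.unitHom_app_one] at this
      exact this
    have hzero : IsZero Q := (IsZero.iff_id_eq_zero _).2 hz
    rw [← hn, rk_eq_zero_of_isZero hzero] at h0
    exact Nat.lt_irrefl 0 h0
  obtain ⟨hOl, hOr⟩ := lf_of_isInvertible (EGA73.isInvertible_structureModule (X := X))
  let φ : Coh.structureModule X ⟶ Q := QC70.unitHom t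
  obtain ⟨K, I, i, p, j, hi, hp, hj, -, -, lK, lI, hr, hd, -, hz⟩ := h.exists_ker_im φ hOl hQ
  have hI : rk I ≠ 0 := fun e => ht (hz e)
  have hK : rk K = 0 := by omega
  rw [h.dg_of_rk_zero lK hK, h.dg_structureModule, zero_add] at hd
  obtain ⟨G, g, a, hgm, -, -, lG, lC, rG, dG⟩ := h.exists_saturation j (isCoh_of_isFinLocFree lI) hQ
  obtain ⟨e1, e2⟩ := h.rk_cokernel g (isCoh_of_isFinLocFree lG) (isCoh_of_isFinLocFree hQ)
  have hC : Curv2.IsGloballyGenerated (cokernel g) := by
    refine (GGDesc24.isGloballyGenerated_iff _).2 fun T q hq => ?_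
    have hπ := (GGDesc24.isGloballyGenerated_iff Q).1 hg T (cokernel.π g ≫ q) fun s => hq _
    rw [← cancel_epi (cokernel.π g), hπ, comp_zero]
  have := ih (rk (cokernel g)) (by omega) lC hC rfl
  omega

end Cur

namespace Clopen

attribute [local instance] ovr

variable {k : Type u} [Field k] {X : Scheme.{u}} [X.Over (Spec (CommRingCat.of k))]
  [IsProper (X ↘ Spec (CommRingCat.of k))] [Smooth (X ↘ Spec (CommRingCat.of k))] [NoetherianSpace X]
  (hdim : topologicalKrullDim X ≤ 1) {L : X.Modules} (hL : CohB1.IsAmple L)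

include k hdim in
theorem comp_cases {U : X.Opens} (hU : IsClopen (U : Set X)) (hUc : _root_.IsConnected (U : Set X)) :
    topologicalKrullDim (U : Scheme.{u}) = 1 ∨ Subsingleton (U : Scheme.{u}) := by
  have := isIntegral_comp (k := k) hU hUc
  by_cases hlt : topologicalKrullDim (U : Scheme.{u}) < 1
  · have h0 := Props58.le_zero_of_lt_one hlt
    exact .inr ⟨fun a b => (Props58.eq_of_specializes h0 (genericPoint_specializes a)).symm.trans
      (Props58.eq_of_specializes h0 (genericPoint_specializes b))⟩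
  · exact .inl (le_antisymm ((topologicalKrullDim_subspace_le X _).trans hdim) (not_lt.1 hlt))

omit [X.Over (Spec (CommRingCat.of k))] [IsProper (X ↘ Spec (CommRingCat.of k))]
  [Smooth (X ↘ Spec (CommRingCat.of k))] [NoetherianSpace X] in
theorem gg_of_subsingleton {Z : Scheme.{u}} [Subsingleton Z] (M : Z.Modules) : Curv2.IsGloballyGenerated M := by
  refine (GGDesc24.isGloballyGenerated_iff M).2 fun T q hq => Scheme.Modules.hom_ext _ _ fun W => ?_
  ext s
  refine QC70.section_ext T _ 0 fun y hy => ⟨W, le_rfl, hy, ?_⟩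
  obtain rfl : W = ⊤ := top_le_iff.1 fun z _ => (Subsingleton.elim z y) ▸ hy
  rw [show q.app ⊤ s = 0 from hq s]

omit [X.Over (Spec (CommRingCat.of k))] [IsProper (X ↘ Spec (CommRingCat.of k))]
  [Smooth (X ↘ Spec (CommRingCat.of k))] [NoetherianSpace X] in
theorem isAffine_of_subsingleton' {Z : Scheme.{u}} [Subsingleton Z] [Nonempty Z] : IsAffine Z := by
  obtain ⟨z⟩ := (inferInstance : Nonempty Z)
  obtain ⟨W, hW, hzW, -⟩ := exists_isAffineOpen_mem_and_subset (U := ⊤) (show z ∈ (⊤ : Z.Opens) from trivial)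
  obtain rfl : W = ⊤ := top_le_iff.1 fun y _ => (Subsingleton.elim y z) ▸ hzW
  have : IsAffine ((⊤ : Z.Opens) : Scheme.{u}) := hW
  exact IsAffine.of_isIso Z.topIso.inv

omit [X.Over (Spec (CommRingCat.of k))] [IsProper (X ↘ Spec (CommRingCat.of k))]
  [Smooth (X ↘ Spec (CommRingCat.of k))] [NoetherianSpace X] in
theorem gg_of_iso {Z : Scheme.{u}} {M N : Z.Modules} (e : M ≅ N) (h : Curv2.IsGloballyGenerated M) :
    Curv2.IsGloballyGenerated N := by
  obtain ⟨ι, p, hp⟩ := h
  exact ⟨ι, p ≫ e.hom, @epi_comp _ _ _ _ _ p hp e.hom _⟩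

variable [IsAlgClosed k]

include hdim hL in
theorem bounded_of_quot {r : ℕ} {q : ℚ} {S : Set X.Modules}
    (hS : ∀ E ∈ S, FlatMod.IsFinLocFreeOfRank r E)
    (hQ : ∀ E ∈ S, ∀ (Q : X.Modules) (p : E ⟶ Q), Epi p → FlatMod.IsFinLocFree Q → 0 < al k L Q →
      q ≤ (chi k Q : ℚ) / (al k L Q : ℚ)) :
    ∃ n₀ : ℕ, ∀ n : ℕ, n₀ ≤ n → ∀ E ∈ S,
        Subsingleton (Coh.HH X (CohB1.tensorMod E (CohB1.tensorPow L n)) 1) ∧
        Curv2.IsGloballyGenerated (CohB1.tensorMod E (CohB1.tensorPow L n)) := by
  classical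
  obtain ⟨K, hK⟩ : ∃ K : ℤ, (K : ℚ) ≤ q := ⟨⌊q⌋, Int.floor_le q⟩
  let need : X.Opens → ℕ := fun U =>
    (2 * (Curv2.genus k (U : Scheme.{u}) : ℤ) + |cst k U| + |K|).toNat + 1 + K.natAbs
  let comps := (finite_components (X := X)).toFinset
  refine ⟨comps.sup need, fun n hn E hE => ?_⟩
  have hEc : Coh.IsCoh E := VarMods75.isCoh (hS E hE)
  have hEl : FlatMod.IsFinLocFree E := VarMods75.isFinLocFree (hS E hE)
  have hLn := EGA73.isInvertible_tensorPow hL.1 n
  have hMc := Crv77.isCoh_tensorMod hEc (Crv77.isCoh_of_isInvertible hLn)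
  set M := CohB1.tensorMod E (CohB1.tensorPow L n)
  have key : ∀ U : X.Opens, IsClopen (U : Set X) → _root_.IsConnected (U : Set X) →
      Subsingleton (Coh.HH (U : Scheme.{u}) (M.restrict U.ι) 1) ∧ Curv2.IsGloballyGenerated (M.restrict U.ι) := by
    intro U hU hUc
    have hnU : need U ≤ n := le_trans (Finset.le_sup (by simp [comps, hU, hUc])) hn
    have := isIntegral_comp (k := k) hU hUc
    have := isProper_ovr (k := k) hU
    have : Smooth ((U : Scheme.{u}) ↘ Spec (CommRingCat.of k)) := by
      show Smooth (U.ι ≫ (X ↘ Spec (CommRingCat.of k)))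
      infer_instance
    rcases comp_cases (k := k) hdim hU hUc with hd | hsub
    · have hS' := CrvPic30.setup_of_smooth_algClosed (k := k) hd
      have h := cur_of_setup hS'
      have hcs : CompactSpace (U : Scheme.{u}) :=
        isCompact_iff_compactSpace.1 (NoetherianSpace.isCompact _)
      have hLU := EGA73.isInvertible_restrict hL.1 U.ι
      have hl : 0 < dg k (L.restrict U.ι) := by
        rw [← deg_eq_dg_of_isInvertible hLU]
        exact VarCurve.deg_pos_of_isAmple k hd (Amp73.isAmple_restrict hL U.ι)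
      have hell : ell k L U = dg k (L.restrict U.ι) := by
        rw [← deg_eq_dg_of_isInvertible hLU, ell, cst_eq hU, Curv2.deg, Nat.cast_one, one_mul,
          show chi k ((PU U).obj L) = _ from euler_push_clopen hU (Crv77.isCoh_of_isInvertible hLU)]
      let e : M.restrict U.ι ≅ CohB1.tensorMod (E.restrict U.ι) (CohB1.tensorPow (L.restrict U.ι) n) :=
        (EGA73.tensorRestrictIso U.ι E _).symm ≪≫ EGA73.tensIso (Iso.refl _) (Amp73.powRestrict U.ι L n).symm
      have lE := lf_restrict U hEl
      have hqb : QBound k (K * dg k (L.restrict U.ι) - cst k U) (E.restrict U.ι) := by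
        refine h.qBound_of_quot lE fun Q p hp lQ rQ => ?_
        have hp' : Epi ((Scheme.Modules.pushforward U.ι).map p) := by
          exact epi_push_map hU p
        have hQ1 := isFinLocFreeOfRank_rk lQ
        rw [rQ] at hQ1
        let c : ((Scheme.Modules.pushforward U.ι).obj Q).restrict U.ι ≅ Q :=
          (asIso (Scheme.Modules.restrictAdjunction U.ι).counit).app Q
        have hQi := Mero90.isFinLocFreeOfRank_of_isInvertible
          (EGA73.isInvertible_of_iso c.symm (isInvertible_of_rank_one hQ1))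
        have hcQ : Coh.IsCoh ((Scheme.Modules.pushforward U.ι).obj Q) :=
          isCoh_of_isFinLocFree (lf_PU hU lQ)
        have eQ : chi k ((Scheme.Modules.pushforward U.ι).obj Q) = dg k Q + cst k U := by
          rw [chi, euler_push_clopen hU (isCoh_of_isFinLocFree lQ), dg, rQ, Curv2.deg, Nat.cast_one, one_mul,
            cst_eq hU]
          ring
        have aQ : al k L ((Scheme.Modules.pushforward U.ι).obj Q) = ell k L U := by
          rw [al, Crv77.euler_congr (twistPU hL.1 Q),
            euler_push_clopen hU (Crv77.isCoh_tensorMod (isCoh_of_isFinLocFree lQ) (Crv77.isCoh_of_isInvertible hLU)),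
            euler_push_clopen hU (isCoh_of_isFinLocFree lQ), hell,
            show Curv2.euler k (U : Scheme.{u}) (CohB1.tensorMod Q (L.restrict U.ι)) = _ from euler_tensor k hd.le hQ1 (Mero90.isFinLocFreeOfRank_of_isInvertible hLU),
            ← deg_eq_dg_of_isInvertible hLU, Curv2.deg]
          push_cast
          ring
        have hq' := hQ E hE _ ((sumIso (inf_compl' U hU) (sup_compl' U hU) E).hom ≫ biprod.fst ≫
          (Scheme.Modules.pushforward U.ι).map p) inferInstance (lf_PU hU lQ) (by rw [aQ, hell]; exact hl)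
        rw [eQ, aQ, hell] at hq'
        have hk := hK.trans hq'
        rw [le_div_iff₀ (by exact_mod_cast hl)] at hk
        have hk' : K * dg k (L.restrict U.ι) ≤ dg k Q + cst k U := by exact_mod_cast hk
        linarith
      have hLn' := EGA73.isInvertible_tensorPow hLU n
      have lT := (h.tensor_invertible lE hLn').1
      have hqT := h.qBound_twist lE hLn' hqb
      rw [h.dg_tensorPow hLU] at hqT
      have hbig : 2 * (Curv2.genus k (U : Scheme.{u}) : ℤ) - 1 <
          K * dg k (L.restrict U.ι) - cst k U + n * dg k (L.restrict U.ι) := by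
        have h1 : ((need U : ℕ) : ℤ) ≤ n := by exact_mod_cast hnU
        simp only [need] at h1
        push_cast at h1
        have h2 := Int.self_le_toNat (2 * (Curv2.genus k (U : Scheme.{u}) : ℤ) + |cst k U| + |K|)
        have h3 := le_abs_self (cst k U)
        have h4 := neg_abs_le K
        have h5 : 0 ≤ (K + (n : ℤ) - 1) * (dg k (L.restrict U.ι) - 1) :=
          mul_nonneg (by have := abs_nonneg (cst k U); have := Int.natCast_nonneg (Curv2.genus k (U : Scheme.{u}));
                         linarith [abs_nonneg K]) (by linarith)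
        have h6 : (0 : ℤ) ≤ dg k (L.restrict U.ι) - 1 := by linarith
        have h7 : |K| = (K.natAbs : ℤ) := Int.abs_eq_natAbs K
        nlinarith [abs_nonneg (cst k U)]
      refine ⟨?_, gg_of_iso e.symm (gg_of_qBound hS' lT hqT hbig)⟩
      have := h1_of_qBound hS' lT (𝟙 _) lT rfl hqT (by linarith)
      exact (Crv77.hEquiv k e 1).toEquiv.subsingleton
    · have : Nonempty (U : Scheme.{u}) := hUc.nonempty.to_subtype
      have := isAffine_of_subsingleton' (Z := (U : Scheme.{u}))
      have hMr := Amp73.isCoh_restrict hMc U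
      have := hMr.1
      exact ⟨CechComp71.subsingleton_HH_affine _ Nat.one_pos, gg_of_subsingleton _⟩
  refine ⟨sub_h1_of_parts (k := k) hMc fun U hU hUc => sub_h1_PU (k := k) hU (Amp73.isCoh_restrict hMc U) (key U hU hUc).1,
    gg_of_cover fun x => ?_⟩
  exact ⟨⟨connectedComponent x, (isClopen_component x).2⟩, isClopen_component x, mem_connectedComponent,
    (key _ (isClopen_component x) isConnected_connectedComponent).2⟩

include hdim hL in
theorem quot_of_bounded (n₀ : ℕ) : ∃ K : ℤ, ∀ E : X.Modules, Coh.IsCoh E →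
    Curv2.IsGloballyGenerated (CohB1.tensorMod E (CohB1.tensorPow L n₀)) →
    ∀ (Q : X.Modules) (p : E ⟶ Q), Epi p → FlatMod.IsFinLocFree Q → - K * al k L Q ≤ chi k Q := by
  classical
  refine ⟨(n₀ : ℤ) + ((finite_components (X := X)).toFinset.sup fun U => (cst k U).natAbs : ℕ),
    fun E hEc hg Q p hp lQ => ?_⟩
  set B := (finite_components (X := X)).toFinset.sup fun U => (cst k U).natAbs
  set K : ℤ := (n₀ : ℤ) + B
  have hQc := isCoh_of_isFinLocFree lQ
  have hLn := EGA73.isInvertible_tensorPow hL.1 n₀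
  refine parts_induct (k := k) (fun M => - K * al k L M ≤ chi k M) (fun M hz => ?_) (fun M N e hM => ?_)
    (fun U hU M hM h1 h2 => ?_) hQc fun U hU hUc => ?_
  · obtain ⟨h1, h2⟩ := chi_al_zero (k := k) hdim hL hz
    rw [h1, h2, mul_zero]
  · rw [chi, al, ← Crv77.euler_congr e, ← Crv77.euler_congr (EGA73.tensIso e (Iso.refl L))]
    exact hM
  · obtain ⟨e1, e2⟩ := sum_chi_al (k := k) hdim hL (inf_compl' U hU) (sup_compl' U hU) hM
    rw [e1, e2]
    linarith
  have := isIntegral_comp (k := k) hU hUc
  have := isProper_ovr (k := k) hU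
  have : Smooth ((U : Scheme.{u}) ↘ Spec (CommRingCat.of k)) := by
    show Smooth (U.ι ≫ (X ↘ Spec (CommRingCat.of k)))
    infer_instance
  have lQU := lf_restrict U lQ
  have hQr := isFinLocFreeOfRank_rk lQU
  have hal := al_part (k := k) hU hUc hdim hL.1 hQr
  rcases comp_cases (k := k) hdim hU hUc with hd | hsub
  · have h := cur_of_smooth k (U : Scheme.{u}) hd
    have hcs : CompactSpace (U : Scheme.{u}) :=
      isCompact_iff_compactSpace.1 (NoetherianSpace.isCompact _)
    have hLU := EGA73.isInvertible_restrict hL.1 U.ι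
    have hl : 0 < dg k (L.restrict U.ι) := by
      rw [← deg_eq_dg_of_isInvertible hLU]
      exact VarCurve.deg_pos_of_isAmple k hd (Amp73.isAmple_restrict hL U.ι)
    have hell : ell k L U = dg k (L.restrict U.ι) := by
      rw [← deg_eq_dg_of_isInvertible hLU, ell, cst_eq hU, Curv2.deg, Nat.cast_one, one_mul,
        show chi k ((PU U).obj L) = _ from euler_push_clopen hU (Crv77.isCoh_of_isInvertible hLU)]
    have hLn' := EGA73.isInvertible_tensorPow hLU n₀
    have hgQ : Curv2.IsGloballyGenerated (CohB1.tensorMod (Q.restrict U.ι) (CohB1.tensorPow (L.restrict U.ι) n₀)) := by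
      have hepi : Epi (twMap p (CohB1.tensorPow L n₀)) := by
        obtain ⟨w, hw⟩ := shortExact_twMap hLn
          (S := ShortComplex.mk (kernel.ι p) p (kernel.condition p))
          { exact := ShortComplex.exact_of_f_is_kernel _ (kernelIsKernel p)
            epi_g := hp }
        exact hw.epi_g
      have h1 : Curv2.IsGloballyGenerated (CohB1.tensorMod Q (CohB1.tensorPow L n₀)) := by
        obtain ⟨ι, φ, hφ⟩ := hg
        exact ⟨ι, φ ≫ twMap p (CohB1.tensorPow L n₀), @epi_comp _ _ _ _ _ φ hφ _ hepi⟩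
      refine gg_of_iso ?_ (GGDesc24.isGloballyGenerated_pullback U.ι h1)
      exact ((Scheme.Modules.restrictFunctorIsoPullback U.ι).app _).symm ≪≫
        (EGA73.tensorRestrictIso U.ι Q _).symm ≪≫ EGA73.tensIso (Iso.refl _) (Amp73.powRestrict U.ι L n₀).symm
    obtain ⟨lT, -, dT⟩ := h.tensor_invertible lQU hLn'
    have h0 := h.dg_nonneg_of_gg lT hgQ
    rw [dT, h.dg_tensorPow hLU] at h0
    have hchi : chi k ((PU U).obj Q) = dg k (Q.restrict U.ι) + rk (Q.restrict U.ι) * cst k U := by
      rw [dg, Curv2.deg, cst_eq hU,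
        show chi k ((PU U).obj Q) = _ from euler_push_clopen hU (isCoh_of_isFinLocFree lQU)]
      ring
    rw [hal, hchi, hell]
    have hb : |cst k U| ≤ (B : ℤ) := by
      rw [Int.abs_eq_natAbs]
      exact_mod_cast Finset.le_sup (f := fun U => (cst k U).natAbs) (by simp [hU, hUc])
    have hr0 : (0 : ℤ) ≤ rk (Q.restrict U.ι) := Int.natCast_nonneg _
    have h8 : 0 ≤ (rk (Q.restrict U.ι) : ℤ) * ((B : ℤ) * dg k (L.restrict U.ι) + cst k U) :=
      mul_nonneg hr0 (by nlinarith [neg_abs_le (cst k U), Int.natCast_nonneg B])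
    simp only [K]
    nlinarith
  · have hc : Coh.IsCoh ((PU U).obj Q) := isCoh_PU' k hU.1 hQc
    have hd0 : topologicalKrullDim (CohB1.support ((PU U).obj Q)) < ((1 : ℕ) : WithBot ℕ∞) := by
      refine lt_of_le_of_lt (TopDim50.dim_mono (support_PU_subset hU.1 hQc)) ?_
      have : Subsingleton ↥(U : Set X) := hsub
      refine lt_of_le_of_lt (b := (0 : WithBot ℕ∞)) ?_ (by exact_mod_cast Nat.one_pos)
      exact Order.krullDim_nonpos_iff_forall_isMax.2 fun a b _ => by
        intro y _
        obtain ⟨z, hz⟩ := a.isIrreducible.nonempty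
        exact Subsingleton.elim z y ▸ hz
    have ha : al k L ((PU U).obj Q) = 0 := by
      have := HP96.alpha_hp_eq_zero k hL.1 hc hd0
      rw [alpha_eq hdim hL hc] at this
      exact_mod_cast this
    rw [ha, mul_zero]
    by_cases hz : IsZero ((PU U).obj Q)
    · rw [(chi_al_zero (k := k) hdim hL hz).1]
    · have hp := HP96.evPos_iff.1 (HP96.evPos_hp k hL hc hz)
      rw [hp_eq hdim hL hc, ha, Int.cast_zero, map_zero, zero_mul, add_zero, Polynomial.leadingCoeff_C] at hp
      exact_mod_cast hp.le

end Clopen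

end Groth.Agent.VB30
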