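import Groth.Agent.VB30.Gen
import Groth.Agent.EGA73.Invertible
import Groth.Agent.Stein58.FinitePoints

/-! Sections of semistable bundles of degree zero. -/

set_option autoImplicit false
set_option linter.style.haveILetI false
set_option linter.unusedSectionVars false
set_option backward.isDefEq.respectTransparency.types false

noncomputable section

universe u

attribute [local instance] Curv2.resAlgebra

open CategoryTheory CategoryTheory.Limits AlgebraicGeometry TopologicalSpace Opposite
open Groth.Agent.QC70 Groth.Agent.Props58.LocFree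

namespace Groth.Agent.VB30

variable {k : Type u} [Field k] {X : Scheme.{u}} [X.Over (Spec (CommRingCat.of k))] [IsIntegral X]

theorem rk_eq_of_basis {E : X.Modules} {U : X.Opens} {n : ℕ} {b : Fin n → Γ(E, U)} (hb : StalkBasis b)
    (hU : genericPoint X ∈ U) : rk E = n :=
  (hb.stalkEquiv (genericPoint X) hU).finrank_eq.symm.trans (Module.finrank_fin_fun _)

namespace Cur

variable (h : Cur k X)
include h

set_option maxHeartbeats 1000000 in
/-- A semistable bundle of degree zero has at most rank many independent sections. -/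
theorem h0_le_rk_of_ss {G : X.Modules} (hG : FlatMod.IsFinLocFree G) (hs : SS k G) (hd : dg k G = 0)
    {P : X} (_hP : IsClosed ({P} : Set X)) (hd1 : Module.finrank k (X.residueField P) = 1) :
    Module.finrank k (Coh.HH X G 0) ≤ rk G := by
  obtain ⟨U, n, b, hPU, hb⟩ := isFinLocFree_iff.mp hG P
  rw [rk_eq_of_basis hb (gen_mem hPU)]
  let c := (hb.stalkEquiv P hPU).symm
  let ev : Coh.HH X G 0 →ₗ[k] (Fin n → X.residueField P) :=
    { toFun := fun x i => X.residue P (c (germM G ⊤ P trivial (Crv77.sec G x)) i)
      map_add' := fun x y => funext fun i => by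
        rw [map_add, germM_add, map_add, Pi.add_apply, map_add, Pi.add_apply]
      map_smul' := fun a x => funext fun i => by
        rw [Crv77.sec_smul, germM_smul, map_smul, Pi.smul_apply, smul_eq_mul, map_mul, RingHom.id_apply,
          Pi.smul_apply, Algebra.smul_def]
        rfl }
  have hinj : Function.Injective ev := (injective_iff_map_eq_zero ev).2 fun x hx => by
    by_contra hx0
    set s := Crv77.toHom x
    obtain ⟨lO, rO⟩ := lf_of_isInvertible (X := X) EGA73.isInvertible_structureModule
    have hs0 : s ≠ 0 := fun e => hx0 <| (Crv77.sec G).injective (by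
      rw [map_zero, ← Crv77.toHom_app_one x, show Crv77.toHom x = 0 from e]; rfl)
    have : Mono s := (h.rk_image_eq_zero_or s lO hG rO).resolve_left hs0
    have hQ : FlatMod.IsFinLocFree (cokernel s) :=
      h.isFinLocFree_cokernel_of_max s hG lO (by omega) fun F j hj h0 hF => by
        have := hs F j hj h0 hF
        rw [hd, zero_mul] at this
        rw [h.dg_structureModule, zero_mul, rO, Nat.cast_one, mul_one]
        exact nonpos_of_mul_nonpos_left this (by exact_mod_cast h0.trans_le (rk_le_of_mono_lf j hG))
    let l := stalkLinear s P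
    let p := stalkLinear (cokernel.π s) P
    have hli : Function.Injective l := injective_stalkMapM_of_mono s P
    have hsu : Function.Surjective p := surjective_stalkMapM_of_epi (cokernel.π s) P
    obtain ⟨V, m, d, hPV, hd'⟩ := isFinLocFree_iff.mp hQ P
    have := hd'.free_stalk P hPV
    obtain ⟨q, hq⟩ := Module.projective_lifting_property p LinearMap.id hsu
    have hex : Function.Exact l p := fun e => by
      constructor
      · exact fun he => stalkMapM_exact (ShortComplex.mk s (cokernel.π s) (cokernel.condition s)) (ShortComplex.exact_of_g_is_cokernel _ (cokernelIsCokernel s)) P e he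
      · rintro ⟨a, rfl⟩
        change stalkMapM (cokernel.π s) P (stalkMapM s P a) = 0
        obtain ⟨W, hW, w, rfl⟩ := germM_exist a
        rw [stalkMapM_germ, stalkMapM_germ]
        have h0 := congrArg (fun f => f.app W w) (cokernel.condition s)
        exact (congrArg (germM _ W P hW) h0).trans (germM_zero hW)
    have hsp : ∃ q', p ∘ₗ q' = LinearMap.id := ⟨q, hq⟩
    obtain ⟨r, hr⟩ := ((hex.split_tfae hli hsu).out 0 1).1 hsp
    let g := germM G ⊤ P trivial (Crv77.sec G x)
    have hg : g ∈ IsLocalRing.maximalIdeal (X.presheaf.stalk P) • (⊤ : Submodule (X.presheaf.stalk P) (G.presheaf.stalk P)) := by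
      rw [← c.symm_apply_apply g, show c.symm = hb.stalkEquiv P hPU from rfl, StalkBasis.stalkEquiv]
      simp only [LinearEquiv.ofBijective_apply, Fintype.linearCombination_apply]
      exact Submodule.sum_mem _ fun i _ => Submodule.smul_mem_smul
        (IsLocalRing.residue_eq_zero_iff _ |>.1 (congrFun hx i)) trivial
    have hall : (⊤ : Submodule (X.presheaf.stalk P) ((Coh.structureModule X).presheaf.stalk P)) ≤
        IsLocalRing.maximalIdeal (X.presheaf.stalk P) • ⊤ := fun e _ => by
      obtain ⟨W, hW, a, rfl⟩ := germM_exist e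
      have he : l (germM (Coh.structureModule X) W P hW a) = X.presheaf.germ W P hW a • g := by
        change stalkMapM s P _ = _
        rw [stalkMapM_germ, show s.app W a = (show Γ(X, W) from a) • res G le_top (s.app ⊤ (toUnit 1))
          from app_toUnit s _, germM_smul, germM_res]
        exact congrArg (fun z => X.presheaf.germ W P hW a • germM G ⊤ P trivial z) (Crv77.toHom_app_one x)
      rw [← LinearMap.id_apply (R := X.presheaf.stalk P) (germM (Coh.structureModule X) W P hW a), ← hr,
        LinearMap.comp_apply, he, map_smul]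
      refine Submodule.smul_mem _ _ ?_
      have := Submodule.mem_map_of_mem (f := r) hg
      rw [Submodule.map_smul''] at this
      exact Submodule.smul_mono le_rfl le_top this
    obtain ⟨U', n', b', hPU', hb'⟩ := isFinLocFree_iff.mp lO P
    have := hb'.finite_stalk P hPU'
    have hbot := Submodule.eq_bot_of_le_smul_of_le_jacobson_bot _ _ Module.Finite.fg_top hall
      (IsLocalRing.maximalIdeal_le_jacobson _)
    have hn : n' = 1 := (rk_eq_of_basis hb' (gen_mem hPU')).symm.trans rO
    have hz : (hb'.stalkEquiv P hPU' fun _ => 1) = 0 := (Submodule.mem_bot _).1 (hbot ▸ Submodule.mem_top)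
    exact one_ne_zero (congrFun ((hb'.stalkEquiv P hPU').map_eq_zero_iff.1 hz) ⟨0, by omega⟩)
  have : FiniteDimensional k (X.residueField P) := Module.finite_of_finrank_eq_succ hd1
  calc Module.finrank k (Coh.HH X G 0) ≤ Module.finrank k (Fin n → X.residueField P) :=
        LinearMap.finrank_le_finrank_of_injective hinj
    _ = n := by rw [Module.finrank_pi_fintype, Finset.sum_const, hd1, Finset.card_univ, Fintype.card_fin]; simp
where
  rk_le_of_mono_lf {F G : X.Modules} (j : F ⟶ G) [Mono j] (hG : FlatMod.IsFinLocFree G) : rk F ≤ rk G := by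
    have := (isCoh_of_isFinLocFree hG).2
    exact rk_le_of_mono j

end Cur

theorem isFinLocFree_biproduct' {n : ℕ} (P : Fin n → X.Modules) (h : ∀ j, PicF.IsInvertible (P j)) :
    FlatMod.IsFinLocFree (⨁ P) := fun x => by
  choose W hxW hW using fun j => h j x
  let U : X.Opens := ⟨⋂ j, (W j : Set X), isOpen_iInter_of_finite fun j => (W j).2⟩
  have hle : ∀ j, U ≤ W j := fun j z hz => Set.mem_iInter.1 hz j
  let e := fun j => (EGA73.nonempty_restrict_iso_unit_of_le (hle j) (hW j)).some
  have : PreservesColimitsOfSize.{0, 0} (Scheme.Modules.restrictFunctor U.ι) :=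
    (Scheme.Modules.restrictAdjunction U.ι).leftAdjoint_preservesColimits
  exact ⟨U, n, Set.mem_iInter.2 hxW, ⟨(Scheme.Modules.restrictFunctor U.ι).mapIso (biproduct.isoCoproduct P) ≪≫
    PreservesCoproduct.iso (Scheme.Modules.restrictFunctor U.ι) P ≪≫ Sigma.mapIso fun j => e j⟩⟩

namespace Cur

variable (h : Cur k X)
include h

/-- The dual of a semistable bundle is semistable. -/
theorem ss_homMod {F L : X.Modules} (hF : FlatMod.IsFinLocFree F) (hL : PicF.IsInvertible L) (hs : SS k F) :
    SS k (homMod F L) := fun G i hi h0 hG => by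
  obtain ⟨lH, rH, dH⟩ := h.homMod_invertible hF hL
  refine h.sub_of_quot lH (fun Q p hp hQ0 lQ hlt => ?_) G i hi hG h0
  have hse : (ShortComplex.mk (kernel.ι p) p (kernel.condition p)).ShortExact :=
    { exact := ShortComplex.exact_of_f_is_kernel _ (kernelIsKernel p) }
  have := (shortExact_homComap_lf hse lQ L).mono_f
  dsimp only at this
  obtain ⟨e⟩ := h.iso_bidual hF hL
  obtain ⟨l, r, d⟩ := h.homMod_invertible lQ hL
  have hQ0' : 0 < rk (homMod Q L) := r.symm ▸ hQ0
  let η : homMod Q L ⟶ homMod (homMod F L) L := (homComap p).app L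
  have : Mono η := this
  have b : dg k (homMod Q L) * rk F ≤ dg k F * rk (homMod Q L) :=
    hs _ (η ≫ e.inv) (mono_comp _ _) hQ0' l
  rw [r, d] at b
  rw [rH, dH]
  linarith

end Cur

section Setup

variable (hS : CrvPic30.Setup k X)
include hS

set_option maxHeartbeats 1000000 in
/-- A semistable bundle embeds in a sum of copies of a line bundle of large degree. -/
theorem exists_mono_sigma {F L : X.Modules} (hF : FlatMod.IsFinLocFree F) (hL : PicF.IsInvertible L)
    (hs : SS k F) (hg : Curv2.genus k X = 1) (hd : dg k F < (dg k L - 1) * rk F)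
    {P : X} (hP : IsClosed ({P} : Set X)) (hd1 : Module.finrank k (X.residueField P) = 1) :
    ∃ (M : ℕ), 0 < M ∧ ∃ (j : F ⟶ ∐ fun _ : Fin M => L), Mono j := by
  have h := cur_of_setup hS
  have := h.isNoetherian
  obtain ⟨lH, rH, dH⟩ := h.homMod_invertible hF hL
  have hgen := span_germ_eq_top hS lH (fun E' j hj hE' hr hd' => h1_elementary hS lH (h.ss_homMod hF hL hs)
    (Or.inl (by rw [rH, dH, hg]; push_cast; linarith)) j hE' hr hd') hP hd1
  have := h.curveCoh.finite _ (isCoh_of_isFinLocFree lH) 0
  obtain ⟨n, x, hx⟩ := Module.Finite.exists_fin (R := k) (M := Coh.HH X (homMod F L) 0)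
  -- pad by one zero map
  let y : Fin (n + 1) → Coh.HH X (homMod F L) 0 := Fin.cons 0 x
  let f : F ⟶ ⨁ fun _ : Fin (n + 1) => L := biproduct.lift fun i => homOf (y i)
  suffices Mono f from ⟨n + 1, Nat.succ_pos n, f ≫ (biproduct.isoCoproduct _).hom, mono_comp _ _⟩
  have lT := isFinLocFree_biproduct' (fun _ : Fin (n + 1) => L) fun _ => hL
  have hz : ∀ z, kernel.ι f ≫ homOf z = 0 := fun z => by
    have hz' : z ∈ Submodule.span k (Set.range x) := by rw [hx]; trivial
    refine Submodule.span_induction (p := fun z _ => kernel.ι f ≫ homOf z = 0) ?_ ?_ ?_ ?_ hz'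
    · rintro _ ⟨i, rfl⟩
      have := (kernel.ι f ≫= (biproduct.lift_π (fun i => homOf (y i)) i.succ).symm)
      rw [kernel.condition_assoc, zero_comp] at this
      rwa [show y i.succ = x i from Fin.cons_succ _ _ _] at this
    · rw [homOf_zero, comp_zero]
    · intro a b _ _ ha hb
      rw [homOf_add, Preadditive.comp_add, ha, hb, add_zero]
    · intro c a _ ha
      rw [homOf_smul, ← Category.assoc, ha, zero_comp]
  have hFc := isCoh_of_isFinLocFree hF
  have hKc := h.isCoh_kernel f hFc (isCoh_of_isFinLocFree lT)
  have lK := h.isFinLocFree_of_mono (kernel.ι f) hKc hF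
  have hSe := shortExact_cokernel (kernel.ι f)
  have l3 : FlatMod.IsFinLocFree (cokernel (kernel.ι f)) :=
    h.isFinLocFree_of_isTF (h.isCoh_cokernel _ hKc hFc)
      ((isTF_of_isFinLocFree lT).of_mono (Abelian.factorThruCoimage f))
  let η : homMod F L ⟶ homMod (kernel f) L := (homComap (kernel.ι f)).app L
  have hη : Epi η := (shortExact_homComap_lf hSe l3 L).epi_g
  obtain ⟨l', r', -⟩ := h.homMod_invertible lK hL
  have hsec : ∀ s : Γ(homMod F L, ⊤), η.app ⊤ s = 0 := fun s => by
    obtain ⟨z, rfl⟩ := (Crv77.sec (homMod F L)).surjective s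
    have he : homOf (Crv77.hmap k η 0 z) = kernel.ι f ≫ homOf z := homOf_comap (kernel.ι f) z
    rw [hz z] at he
    replace he := he.trans homOf_zero.symm
    rw [← Crv77.sec_hmap k η z, homOf_injective he, map_zero]
  have hstalk : ∀ e, stalkMapM η P e = 0 := fun e => by
    have he : e ∈ Submodule.span (X.presheaf.stalk P)
        (Set.range fun s : Γ(homMod F L, ⊤) => germM (homMod F L) ⊤ P trivial s) := by rw [hgen]; trivial
    have hle : Submodule.span (X.presheaf.stalk P)
        (Set.range fun s : Γ(homMod F L, ⊤) => germM (homMod F L) ⊤ P trivial s) ≤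
        LinearMap.ker (stalkLinear η P) := Submodule.span_le.2 (by
      rintro _ ⟨s, rfl⟩
      change stalkMapM η P (germM (homMod F L) ⊤ P trivial s) = 0
      rw [stalkMapM_germ, hsec, germM_zero])
    exact hle he
  have hrk : rk (kernel f) = 0 := by
    rw [← r']
    obtain ⟨U, m, b, hPU, hb⟩ := isFinLocFree_iff.mp l' P
    rw [rk_eq_of_basis hb (gen_mem hPU)]
    by_contra hm
    obtain ⟨e, he⟩ := surjective_stalkMapM_of_epi η P (hb.stalkEquiv P hPU fun _ => 1)
    rw [hstalk] at he
    exact one_ne_zero (congrFun ((hb.stalkEquiv P hPU).map_eq_zero_iff.1 he.symm) ⟨0, Nat.pos_of_ne_zero hm⟩)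
  exact Preadditive.mono_of_cancel_zero _ fun {Z} u hu => by
    rw [← kernel.lift_ι f u hu]
    have hg0 : IsZero (kernel f) := h.isZero_of_rk_eq_zero lK hrk
    rw [hg0.eq_of_tgt (kernel.lift f u hu) 0, zero_comp]
where
  homOf_comap {A B N : X.Modules} (g : A ⟶ B) (z : Coh.HH X (homMod B N) 0) :
      homOf (Crv77.hmap k ((homComap g).app N) 0 z) = g ≫ homOf z := by
    refine Scheme.Modules.hom_ext _ _ fun W => ?_
    ext t
    exact congrArg (fun φ : HomOn A N ⊤ => φ.app W le_top t) (Crv77.sec_hmap k ((homComap g).app N) z)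

end Setup

theorem exists_point_of_section {k : Type u} [Field k] {X : Scheme.{u}} [X.Over (Spec (CommRingCat.of k))]
    [IsProper (X ↘ Spec (CommRingCat.of k))] (O : Spec (CommRingCat.of k) ⟶ X)
    (hO : O ≫ (X ↘ Spec (CommRingCat.of k)) = 𝟙 _) :
    ∃ P : X, IsClosed ({P} : Set X) ∧ Module.finrank k (X.residueField P) = 1 := by
  refine ⟨O (IsLocalRing.closedPoint k), ?_, ?_⟩
  · have : IsClosedImmersion (O ≫ (X ↘ Spec (CommRingCat.of k))) := by rw [hO]; infer_instance
    have : IsClosedImmersion O := IsClosedImmersion.of_comp O (X ↘ Spec (CommRingCat.of k))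
    have hr : Set.range O = {O (IsLocalRing.closedPoint k)} := by
      refine Set.eq_singleton_iff_unique_mem.2 ⟨⟨_, rfl⟩, ?_⟩
      rintro _ ⟨y, rfl⟩
      exact congrArg O (Subsingleton.elim (α := PrimeSpectrum k) y _)
    exact hr ▸ O.isClosedEmbedding.isClosed_range
  · let φ := X.descResidueField (Scheme.stalkClosedPointTo O)
    have h1 : CommRingCat.ofHom (Curv2.resMap k X (O (IsLocalRing.closedPoint k))) ≫ φ = 𝟙 _ := by
      refine Spec.map_injective ?_
      rw [Spec.map_comp, Spec.map_id, Stein58.SpecMap_resMap, ← Category.assoc,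
        Scheme.descResidueField_stalkClosedPointTo_fromSpecResidueField, hO]
    have hb : Function.Bijective (Curv2.resMap k X (O (IsLocalRing.closedPoint k))) := by
      refine ⟨RingHom.injective _, fun b => ⟨φ.hom b, φ.hom.injective ?_⟩⟩
      exact congr(($h1).hom (φ.hom b))
    rw [← Module.finrank_self k]
    exact (LinearEquiv.ofBijective (Algebra.linearMap k (X.residueField (O (IsLocalRing.closedPoint k)))) hb).finrank_eq.symm

end Groth.Agent.VB30
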