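import Groth.Agent.VB30.Stalk
import Groth.Agent.VB30.Tensor
import Groth.Agent.ASB64.LocFreeRetract
import Groth.Agent.KSchm95.Basic
import Mathlib.RingTheory.Idempotents
import Mathlib.CategoryTheory.Idempotents.Basic

/-! Idempotent endomorphisms cutting a bundle into line bundles. -/

set_option autoImplicit false
set_option backward.isDefEq.respectTransparency.types false
set_option linter.style.haveILetI false
set_option linter.unusedSectionVars false

noncomputable section

universe u

open CategoryTheory CategoryTheory.Limits AlgebraicGeometry TopologicalSpace Opposite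
open Groth.Agent.QC70 Groth.Agent.Props58.LocFree

namespace Groth.Agent.VB30.Blocks

variable {Y : Scheme.{u}} [IsIntegral Y]

theorem gmap_id (M : Y.Modules) : gmap (𝟙 M) = LinearMap.id := LinearMap.ext fun e => by
  rw [gmap_apply, stalkMapM_id]; rfl

theorem gmap_comp {M N P : Y.Modules} (f : M ⟶ N) (g : N ⟶ P) : gmap (f ≫ g) = (gmap g).comp (gmap f) :=
  LinearMap.ext fun e => by simp only [gmap_apply, LinearMap.comp_apply, stalkMapM_comp]

theorem gmap_zero (M N : Y.Modules) : gmap (0 : M ⟶ N) = 0 := LinearMap.ext fun e => by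
  rw [gmap_apply, stalkMapM_zero]; rfl

theorem gmap_add {M N : Y.Modules} (f g : M ⟶ N) : gmap (f + g) = gmap f + gmap g := LinearMap.ext fun e => by
  rw [LinearMap.add_apply, gmap_apply, gmap_apply, gmap_apply]
  obtain ⟨W, hW, s, rfl⟩ := germM_exist e
  rw [stalkMapM_germ, stalkMapM_germ, stalkMapM_germ]
  exact map_add (N.presheaf.germ W _ hW).hom _ _

theorem eq_zero_of_gmap' {A E : Y.Modules} (ψ : A ⟶ E) (hE : IsTF E) (hA : ∀ e, gmap ψ e = 0) : ψ = 0 := by
  refine Scheme.Modules.hom_ext _ _ fun U => ?_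
  ext s
  refine QC70.section_ext _ _ 0 fun x hx => ?_
  have h0 : QC70.germM E U x hx (ψ.app U s) = 0 := hE x (by
    rw [← QC70.stalkMapM_germ ψ hx s, toGen_stalkMapM, map_zero]
    exact hA _)
  obtain ⟨W, hW, hxW, e⟩ := QC70.germM_eq_zero h0
  exact ⟨W, hW, hxW, e.trans (map_zero _).symm⟩

/-- A nonzero map between invertible modules is a monomorphism. -/
theorem mono_line {L M : Y.Modules} (hL : PicF.IsInvertible L) (hM : FlatMod.IsFinLocFree M) (σ : L ⟶ M)
    (hσ : σ ≠ 0) : Mono σ := by
  obtain ⟨hlf, hrk⟩ := lf_of_isInvertible hL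
  have : Module.Finite Y.functionField (gst L) :=
    haveI := (isCoh_of_isFinLocFree hlf).2
    finite_gst L
  have hne : LinearMap.ker (gmap σ) ≠ ⊤ := fun h => hσ <| eq_zero_of_gmap' σ (isTF_of_isFinLocFree hM) fun e =>
    LinearMap.mem_ker.1 (h ▸ Submodule.mem_top)
  have h1 := Submodule.finrank_lt hne
  change Module.finrank Y.functionField (gst L) = 1 at hrk
  rw [hrk, Nat.lt_one_iff] at h1
  have hinj : Function.Injective (gmap σ) := LinearMap.ker_eq_bot.1 (Submodule.finrank_eq_zero.1 h1)
  refine mono_of_injective_stalkMapM _ fun x a b hab => isTF_of_isFinLocFree hlf x (hinj ?_)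
  rw [gmap_apply, gmap_apply, ← toGen_stalkMapM, ← toGen_stalkMapM, hab]

theorem isIntegral_line_comp {L M N : Y.Modules} (_hL : PicF.IsInvertible L) (hM : PicF.IsInvertible M)
    (hN : FlatMod.IsFinLocFree N) {f : L ⟶ M} {g : M ⟶ N} (hf : f ≠ 0) (hg : g ≠ 0) : f ≫ g ≠ 0 := by
  haveI := mono_line hM hN g hg
  exact fun h => hf ((cancel_mono g).1 (h.trans zero_comp.symm))

variable [IsLocallyNoetherian Y] {E : Y.Modules} {r : ℕ} {ι : Type} [Fintype ι]

theorem exists_lines (hE : FlatMod.IsFinLocFreeOfRank r E) (hι : Fintype.card ι = r) (e : ι → End E)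
    (he : CompleteOrthogonalIdempotents e) (h0 : ∀ i, e i ≠ 0) :
    ∃ (M : ι → Y.Modules) (inc : ∀ i, M i ⟶ E) (pr : ∀ i, E ⟶ M i),
      (∀ i, inc i ≫ pr i = 𝟙 (M i)) ∧ (∀ i, (pr i ≫ inc i : E ⟶ E) = e i) ∧ (∀ i, PicF.IsInvertible (M i)) := by
  classical
  have hlE := isFinLocFree_of_rank hE
  choose M inc pr h1 h2 using fun i => IsIdempotentComplete.idempotents_split E (e i) (he.idem i).eq
  have hlf : ∀ i, FlatMod.IsFinLocFree (M i) := fun i =>
    ASB64.isFinLocFree_of_retract (inc i) (pr i) (h1 i) hlE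
  refine ⟨M, inc, pr, h1, h2, fun i => isInvertible_of_lf (hlf i) ?_⟩
  have hfin : ∀ i, Module.Finite Y.functionField (gst (M i)) := fun i =>
    haveI := (isCoh_of_isFinLocFree (hlf i)).2
    finite_gst (M i)
  -- each rank is positive
  have hpos : ∀ j, 1 ≤ Module.finrank Y.functionField (gst (M j)) := fun j => by
    haveI := hfin j
    refine Nat.one_le_iff_ne_zero.2 fun hz => h0 j ?_
    haveI : Subsingleton (gst (M j)) := Module.finrank_zero_iff.1 hz
    have : inc j = 0 := eq_zero_of_gmap' (inc j) (isTF_of_isFinLocFree hlE) fun x => by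
      rw [Subsingleton.elim x 0, map_zero]
    rw [← h2 j, this, comp_zero]
  -- the ranks add up
  let Φ : gst E →ₗ[Y.functionField] (∀ j, gst (M j)) := LinearMap.pi fun j => gmap (pr j)
  have hsurj : Function.Surjective Φ := fun v => ⟨∑ j, gmap (inc j) (v j), funext fun l => by
    show gmap (pr l) _ = v l
    rw [map_sum, Finset.sum_eq_single l]
    · rw [← LinearMap.comp_apply, ← gmap_comp, h1, gmap_id]; rfl
    · intro j _ hjl
      have hz : inc j ≫ pr l = 0 := by
        have ho : e l * e j = 0 := he.ortho (Ne.symm hjl)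
        rw [End.mul_def, ← h2, ← h2, Category.assoc] at ho
        have := congrArg (fun φ : E ⟶ E => inc j ≫ φ ≫ pr l) ho
        simp only [Category.assoc, reassoc_of% (h1 j), h1 l, Category.comp_id] at this
        exact this.trans (by simp)
      rw [← LinearMap.comp_apply, ← gmap_comp, hz, gmap_zero]; rfl
    · exact fun h => absurd (Finset.mem_univ l) h⟩
  haveI : Module.Finite Y.functionField (gst E) :=
    haveI := (isCoh_of_isFinLocFree hlE).2
    finite_gst E
  haveI := hfin
  have hle : Module.finrank Y.functionField (∀ j, gst (M j)) ≤ r :=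
    (LinearMap.finrank_le_finrank_of_surjective hsurj).trans (rk_eq_of_isFinLocFreeOfRank hE).le
  rw [Module.finrank_pi_fintype] at hle
  by_contra hne
  have h2' : 2 ≤ Module.finrank Y.functionField (gst (M i)) := by
    have := hpos i
    change Module.finrank Y.functionField (gst (M i)) ≠ 1 at hne
    omega
  have : r + 1 ≤ ∑ j, Module.finrank Y.functionField (gst (M j)) := by
    rw [← Finset.add_sum_erase _ _ (Finset.mem_univ i)]
    have hs : (Finset.univ.erase i).card ≤ ∑ j ∈ Finset.univ.erase i, Module.finrank Y.functionField (gst (M j)) := by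
      rw [Finset.card_eq_sum_ones]; exact Finset.sum_le_sum fun j _ => hpos j
    rw [Finset.card_erase_of_mem (Finset.mem_univ i), Finset.card_univ, hι] at hs
    have : 0 < r := hι ▸ Fintype.card_pos_iff.2 ⟨i⟩
    omega
  omega

/-- Nonzero blocks compose to nonzero blocks. -/
theorem block_mul_ne_zero (hE : FlatMod.IsFinLocFreeOfRank r E) (hι : Fintype.card ι = r) (e : ι → End E)
    (he : CompleteOrthogonalIdempotents e) (h0 : ∀ i, e i ≠ 0) (i j l : ι) (x y : End E)
    (hx : e i * x * e j ≠ 0) (hy : e j * y * e l ≠ 0) : e i * x * e j * y * e l ≠ 0 := by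
  obtain ⟨M, inc, pr, h1, h2, hM⟩ := exists_lines hE hι e he h0
  let f : M l ⟶ M j := inc l ≫ y ≫ pr j
  let g : M j ⟶ M i := inc j ≫ x ≫ pr i
  have ey : (e j * y * e l : End E) = pr l ≫ f ≫ inc j := by
    simp only [End.mul_def, ← h2, f, Category.assoc]
  have ex : (e i * x * e j : End E) = pr j ≫ g ≫ inc i := by
    simp only [End.mul_def, ← h2, g, Category.assoc]
  have hf : f ≠ 0 := fun h => hy (by rw [ey, h, zero_comp, comp_zero])
  have hg : g ≠ 0 := fun h => hx (by rw [ex, h, zero_comp, comp_zero])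
  intro h
  refine isIntegral_line_comp (hM l) (hM j) (lf_of_isInvertible (hM i)).1 hf hg ?_
  have e' : (e i * x * e j * y * e l : End E) = pr l ≫ f ≫ g ≫ inc i := by
    simp only [End.mul_def, ← h2, f, g, Category.assoc]
  rw [e'] at h
  have := congrArg (fun φ : E ⟶ E => inc l ≫ φ ≫ pr i) h
  simp only [Category.assoc, h1 i, reassoc_of% (h1 l), Category.comp_id] at this
  exact this.trans (by simp)

end Groth.Agent.VB30.Blocks
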