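import Groth.Agent.VB30.GalAlg
import Groth.Agent.VB30.Blocks
import Groth.Agent.ASB64.HomBC
import Groth.Agent.KSchm95.EndFinite
import Groth.Agent.Grass5.FlagStep
import Groth.Agent.VB30.Det2
import Groth.Prelude.Def_CurvBase

/-! Bundles of prime rank which decompose only after extending the field: they split into distinct
line bundles over the extension of that degree, and their endomorphisms form that field. -/

set_option autoImplicit false
set_option backward.isDefEq.respectTransparency.types false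
set_option maxSynthPendingDepth 6
set_option synthInstance.maxHeartbeats 200000
set_option linter.style.haveILetI false
set_option linter.unusedSectionVars false

noncomputable section

universe u

open CategoryTheory CategoryTheory.Limits AlgebraicGeometry TopologicalSpace Opposite TensorProduct
open Groth.Agent.QC70 Groth.Agent.Props58.LocFree Groth.Agent.FF71 Groth.Agent.Mum71 Groth.Agent.ASB64

namespace Groth.Agent.VB30.GalSplit

variable {k : Type u} [Field k] [Finite k] {X : Scheme.{u}} [X.Over (Spec (CommRingCat.of k))]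
  [IsProper (X ↘ Spec (CommRingCat.of k))]

include k in
theorem finite_end {E : X.Modules} (hE : Coh.IsCoh E) : Finite (End E) := by
  haveI : IsLocallyNoetherian X := LocallyOfFiniteType.isLocallyNoetherian (X ↘ Spec (CommRingCat.of k))
  haveI : Module.Finite k (Coh.HH X (homMod E E) 0) :=
    Serre71.finite_hh_of_isProper k (homMod E E) (isCoh_homMod hE hE) 0
  haveI : Finite (Coh.HH X (homMod E E) 0) := Module.finite_of_finite k
  exact Finite.of_injective (KSchm95.endToHH E) (KSchm95.endToHH_injective E)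

include k in
theorem hloc_end {E : X.Modules} (hE : Coh.IsCoh E) (hi : KSchm95.Indec E) :
    ∀ a : End E, IsNilpotent a ∨ IsUnit a := by
  haveI := KSchm95.isArtinianRing_end (k := k) E hE
  exact KSchm95.isNilpotent_or_isUnit (KSchm95.eq_zero_or_one_of_indec hi)

/-- Fields acting on a bundle of rank `r` with a rational point have degree dividing `r`. -/
theorem finrank_dvd {E : X.Modules} {r : ℕ} (hr : 0 < r) (hE : FlatMod.IsFinLocFreeOfRank r E)
    (O : Spec (CommRingCat.of k) ⟶ X) (L : Type u) [Field L] [Algebra k L] (φ : L →ₐ[k] End E) :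
    Module.finrank k L ∣ r := by
  classical
  let G := Scheme.Modules.pullback O
  let P := G.obj E
  obtain ⟨U, hU, ⟨e⟩⟩ := Grass5.QuotBC.isFinLocFreeOfRank_pullback O hE
    (default : PrimeSpectrum k)
  obtain ⟨s, hs⟩ := exists_stalkBasis_of_iso e
  have htop : (⊤ : (Spec (CommRingCat.of k)).Opens) ≤ U := fun y _ =>
    (Subsingleton.elim (default : PrimeSpectrum k) y) ▸ hU
  let c : (Fin r → Γ(Spec (CommRingCat.of k), ⊤)) ≃ Γ(P, ⊤) := Equiv.ofBijective _ (hs.bijective htop)
  let a : Γ(Spec (CommRingCat.of k), ⊤) ≃ k := (Scheme.ΓSpecIso (CommRingCat.of k)).commRingCatIsoToRingEquiv.toEquiv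
  let act : End E →+* AddMonoid.End Γ(P, ⊤) :=
    { toFun := fun f => ((G.map f).app ⊤).hom
      map_one' := by
        rw [End.one_def, G.map_id]
        rfl
      map_mul' := fun f g => by
        rw [End.mul_def, G.map_comp]
        rfl
      map_zero' := by
        show ((G.map (0 : E ⟶ E)).app ⊤).hom = _
        rw [G.map_zero]
        rfl
      map_add' := fun f g => by
        show ((G.map ((show E ⟶ E from f) + (show E ⟶ E from g))).app ⊤).hom = _
        rw [G.map_add]
        rfl }
  letI : Module L Γ(P, ⊤) := Module.compHom Γ(P, ⊤) (act.comp φ.toRingHom)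
  haveI : Finite Γ(P, ⊤) := Finite.of_equiv _ ((Equiv.arrowCongr (Equiv.refl (Fin r)) a).symm.trans c)
  have hcard : Nat.card Γ(P, ⊤) = Nat.card k ^ r := by
    rw [← Nat.card_congr ((Equiv.arrowCongr (Equiv.refl (Fin r)) a).symm.trans c), Nat.card_fun, Nat.card_fin]
  haveI : Nontrivial Γ(P, ⊤) := by
    rw [← Finite.one_lt_card_iff_nontrivial, hcard]
    exact Nat.one_lt_pow hr.ne' Finite.one_lt_card
  haveI : Finite (AddMonoid.End Γ(P, ⊤)) :=
    Finite.of_injective (fun f => (f : Γ(P, ⊤) → Γ(P, ⊤))) DFunLike.coe_injective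
  haveI : Nontrivial (AddMonoid.End Γ(P, ⊤)) := by
    obtain ⟨x, hx⟩ := exists_ne (0 : Γ(P, ⊤))
    exact ⟨⟨1, 0, fun h => hx (DFunLike.congr_fun h x)⟩⟩
  haveI : Finite L := Finite.of_injective _ (act.comp φ.toRingHom).injective
  haveI : Module.Finite L Γ(P, ⊤) := Module.Finite.of_finite
  haveI : Module.Finite k L := Module.Finite.of_finite
  have h1 := Module.natCard_eq_pow_finrank (K := L) (V := Γ(P, ⊤))
  rw [hcard, Module.natCard_eq_pow_finrank (K := k) (V := L), ← pow_mul] at h1
  exact ⟨_, Nat.pow_right_injective (Finite.one_lt_card (α := k)) h1⟩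

variable [GeometricallyIntegral (X ↘ Spec (CommRingCat.of k))]

/-- A bundle of prime rank, indecomposable but decomposable after some extension of the field. -/
theorem main {E : X.Modules} {r : ℕ} (hr : r.Prime) (hE : FlatMod.IsFinLocFreeOfRank r E)
    (O : Spec (CommRingCat.of k) ⟶ X) (hi : KSchm95.Indec E)
    (hng : ∃ (K : Type u) (_ : Field K) (_ : Algebra k K) (E₁ E₂ : (Curv2.bc k X K).Modules),
      ¬ IsZero E₁ ∧ ¬ IsZero E₂ ∧ Nonempty ((Scheme.Modules.pullback (Curv2.bcFst k X K)).obj E ≅ E₁ ⊞ E₂))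
    (K' : Type u) [Field K'] [Algebra k K'] (hK' : Module.finrank k K' = r) :
    IsField (End E) ∧ Nat.card (End E) = Nat.card k ^ r ∧
    ∃ (M : Fin r → (Curv2.bc k X K').Modules), (∀ i, PicF.IsInvertible (M i)) ∧
      Nonempty ((Scheme.Modules.pullback (Curv2.bcFst k X K')).obj E ≅ ∐ M) ∧
      (∀ i j, i ≠ j → ¬ Nonempty (M i ≅ M j)) ∧
      ∀ (i : Fin r) (L : X.Modules), PicF.IsInvertible L →
        ¬ Nonempty (M i ≅ (Scheme.Modules.pullback (Curv2.bcFst k X K')).obj L) := by
  classical
  haveI : IsLocallyNoetherian X := LocallyOfFiniteType.isLocallyNoetherian (X ↘ Spec (CommRingCat.of k))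
  haveI : CompactSpace X := QuasiCompact.compactSpace_of_compactSpace (X ↘ Spec (CommRingCat.of k))
  have hlE := isFinLocFree_of_rank hE
  haveI : E.IsQuasicoherent := isQuasicoherent_of_isFinLocFree hlE
  haveI : E.IsFiniteType := isFiniteType_of_isFinLocFree hlE
  have hcE : Coh.IsCoh E := ⟨isQuasicoherent_of_isFinLocFree hlE, isFiniteType_of_isFinLocFree hlE⟩
  haveI := finite_end (k := k) hcE
  haveI : Nontrivial (End E) := ⟨⟨1, 0, fun h => hi.1 ((IsZero.iff_id_eq_zero E).mpr h)⟩⟩
  haveI : IsIntegral (Curv2.bc k X K') :=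
    GeometricallyIntegral.geometrically_isIntegral (f := X ↘ Spec (CommRingCat.of k)) _ _ _ (IsPullback.of_hasPullback _ _)
  haveI : IsLocallyNoetherian (Curv2.bc k X K') :=
    LocallyOfFiniteType.isLocallyNoetherian (Curv2.bcSnd k X K')
  let E' := (Scheme.Modules.pullback (Curv2.bcFst k X K')).obj E
  have hE' : FlatMod.IsFinLocFreeOfRank r E' := Grass5.QuotBC.isFinLocFreeOfRank_pullback _ hE
  let Θ : K' ⊗[k] End E →ₐ[K'] End E' := endBC (k := k) K' E
  have hΘ : Function.Bijective Θ := endBC_bijective (k := k) K' E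
  have hdim : Fintype (K' ≃ₐ[k] K') → Nat.card (K' ≃ₐ[k] K') = r := fun _ => by
    haveI : FiniteDimensional k K' := Module.finite_of_finrank_pos (by rw [hK']; exact hr.pos)
    haveI : Finite K' := Module.finite_of_finite k
    rw [IsGalois.card_aut_eq_finrank, hK']
  obtain ⟨hfield, hrk, hcomm, e, hFt, he, he0⟩ := GalAlg.main (k := k) (hloc_end (k := k) hcE hi) K' hr hK'
    (fun L _ _ φ => finrank_dvd hr.pos hE O L φ) (by
      obtain ⟨K, _, _, E₁, E₂, h1, h2, ⟨φ⟩⟩ := hng
      let F := (Scheme.Modules.pullback (Curv2.bcFst k X K)).obj E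
      let p : End F := φ.hom ≫ biprod.fst ≫ biprod.inl ≫ φ.inv
      obtain ⟨z, hz⟩ := (endBC_bijective (k := k) K E).2 p
      refine ⟨K, ‹_›, ‹_›, z, (endBC_bijective (k := k) K E).1 ?_, fun h => ?_, fun h => ?_⟩
      · rw [map_mul, hz]
        show p ≫ p = p
        simp [p]
      · rw [h, map_zero] at hz
        refine h1 ((IsZero.iff_id_eq_zero E₁).mpr ?_)
        have := congrArg (fun f : F ⟶ F => biprod.inl ≫ φ.inv ≫ f ≫ φ.hom ≫ biprod.fst) hz
        simpa [p] using this.symm
      · rw [h, map_one] at hz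
        refine h2 ((IsZero.iff_id_eq_zero E₂).mpr ?_)
        have := congrArg (fun f : F ⟶ F => biprod.inr ≫ φ.inv ≫ f ≫ φ.hom ≫ biprod.snd) hz
        rw [End.one_def] at this
        simpa [p] using this)
    (fun e _ he he0 i j l x y hx hy h => by
      have hinj : ∀ z : K' ⊗[k] End E, z ≠ 0 → Θ z ≠ 0 := fun z hz h => hz (hΘ.1 (h.trans (map_zero Θ).symm))
      let ιe := Fintype.equivFinOfCardEq (n := r) (α := K' ≃ₐ[k] K') (by
        rw [Fintype.card_eq_nat_card]; exact hdim ‹_›)
      let e' : Fin r → End E' := fun a => Θ (e (ιe.symm a))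
      have he' : CompleteOrthogonalIdempotents e' :=
        (CompleteOrthogonalIdempotents.equiv ιe.symm).2 (he.map Θ.toRingHom)
      have := Blocks.block_mul_ne_zero hE' (Fintype.card_fin r) e' he' (fun a => hinj _ (he0 _))
        (ιe i) (ιe j) (ιe l) (Θ x) (Θ y)
        (by simp only [e', Equiv.symm_apply_apply, ← map_mul]; exact hinj _ hx)
        (by simp only [e', Equiv.symm_apply_apply, ← map_mul]; exact hinj _ hy)
      simp only [e', Equiv.symm_apply_apply, ← map_mul, h, map_zero] at this
      exact this rfl)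
  refine ⟨hfield, by rw [Module.natCard_eq_pow_finrank (K := k), hrk], ?_⟩
  let ιe := Fintype.equivFinOfCardEq (n := r) (α := K' ≃ₐ[k] K') (by
    rw [Fintype.card_eq_nat_card]; exact hdim hFt)
  let e' : Fin r → End E' := fun a => Θ (e (ιe.symm a))
  have he' : CompleteOrthogonalIdempotents e' := (CompleteOrthogonalIdempotents.equiv ιe.symm).2 (he.map Θ.toRingHom)
  have he0' : ∀ a, e' a ≠ 0 := fun a h => he0 _ (hΘ.1 (h.trans (map_zero Θ).symm))
  obtain ⟨M, inc, pr, h1, h2, hM⟩ := Blocks.exists_lines hE' (Fintype.card_fin r) e' he' he0'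
  have hcomm' : ∀ u v : End E', u * v = v * u := fun u v => by
    obtain ⟨u, rfl⟩ := hΘ.2 u
    obtain ⟨v, rfl⟩ := hΘ.2 v
    rw [← map_mul, ← map_mul, hcomm]
  have horth : ∀ a b, a ≠ b → inc a ≫ pr b = 0 := fun a b hab => by
    have ho : e' b * e' a = 0 := he'.ortho (Ne.symm hab)
    rw [End.mul_def, ← h2, ← h2, Category.assoc] at ho
    have := congrArg (fun φ : E' ⟶ E' => inc a ≫ φ ≫ pr b) ho
    simp only [Category.assoc, reassoc_of% (h1 a), h1 b, Category.comp_id] at this
    exact this.trans (by simp)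
  refine ⟨M, hM, ⟨?_⟩, fun a b hab => ?_, fun a L hL => ?_⟩
  · refine { hom := ∑ a, pr a ≫ Sigma.ι M a, inv := Sigma.desc inc, hom_inv_id := ?_, inv_hom_id := ?_ }
    · rw [Preadditive.sum_comp]
      simp only [Category.assoc, Sigma.ι_desc, h2]
      exact he'.complete
    · refine Sigma.hom_ext _ _ fun a => ?_
      rw [Sigma.ι_desc_assoc, Category.comp_id, Preadditive.comp_sum, Finset.sum_eq_single a]
      · rw [reassoc_of% (h1 a)]
      · intro b _ hb
        rw [← Category.assoc, horth a b (Ne.symm hb), zero_comp]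
      · exact fun h => absurd (Finset.mem_univ a) h
  · rintro ⟨φ⟩
    let u : End E' := pr a ≫ φ.hom ≫ inc b
    have hz : u = 0 := by
      have e1 : e' b * u * e' a = u := by simp [End.mul_def, u, ← h2, reassoc_of% (h1 b), reassoc_of% (h1 a)]
      rw [← e1, hcomm' (e' b) u, mul_assoc, he'.ortho (Ne.symm hab), mul_zero]
    have hid := congrArg (fun f : E' ⟶ E' => inc a ≫ f ≫ pr b ≫ φ.inv) hz
    simp only [u, Category.assoc, reassoc_of% (h1 a), reassoc_of% (h1 b), Iso.hom_inv_id] at hid
    refine he0' a ?_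
    rw [← h2 a, ← Category.id_comp (inc a), hid]
    simp
  · rintro ⟨φ⟩
    have hlL := (lf_of_isInvertible' hL)
    haveI : L.IsQuasicoherent := isQuasicoherent_of_isFinLocFree hlL
    haveI : L.IsFiniteType := isFiniteType_of_isFinLocFree hlL
    obtain ⟨n, u, v, huv⟩ := KSchm95.exists_sum_eq_of_comp (k := k) (F := L) (G := E) K' (φ.inv ≫ inc a) (𝟙 L)
      (pr a ≫ φ.hom) (by
        rw [Category.assoc, reassoc_of% (h1 a), Iso.inv_hom_id, CategoryTheory.Functor.map_id])
    have hne : 𝟙 L ≠ 0 := fun h => he0' a <| by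
      have hz : IsZero (M a) := ((Scheme.Modules.pullback (Curv2.bcFst k X K')).map_isZero
        ((IsZero.iff_id_eq_zero L).mpr h)).of_iso φ
      rw [← h2 a, hz.eq_of_tgt (pr a) 0, zero_comp]
    obtain ⟨i, hi0⟩ : ∃ i, u i ≫ v i ≠ 0 := by
      by_contra hc
      push Not at hc
      exact hne (huv.symm.trans (Finset.sum_eq_zero fun i _ => hc i))
    haveI := finite_end (k := k) (E := L) ⟨isQuasicoherent_of_isFinLocFree hlL, isFiniteType_of_isFinLocFree hlL⟩
    haveI := GeometricallyIntegral.isIntegral_of_subsingleton (f := X ↘ Spec (CommRingCat.of k))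
    haveI := Blocks.mono_line hL hlL (u i ≫ v i) hi0
    obtain ⟨w, hw⟩ := Finite.surjective_of_injective
      (show Function.Injective (fun z : End L => (z ≫ u i ≫ v i : L ⟶ L)) from fun z z' h => (cancel_mono (u i ≫ v i)).1 h) (𝟙 L)
    have hsplit : (w ≫ u i) ≫ v i = 𝟙 L := by rw [Category.assoc]; exact hw
    let p : End E := v i ≫ w ≫ u i
    have hp : p * p = p := by
      show (v i ≫ w ≫ u i) ≫ (v i ≫ w ≫ u i) = v i ≫ w ≫ u i
      simp only [Category.assoc] at hsplit ⊢
      rw [reassoc_of% hsplit]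
    rcases KSchm95.eq_zero_or_one_of_indec hi p hp with h | h
    · refine hne ?_
      have := congrArg (fun f : E ⟶ E => (w ≫ u i) ≫ f ≫ v i) h
      simp only [p, Category.assoc] at hsplit this
      simpa [reassoc_of% hsplit, hsplit] using this
    · have hiso : E ≅ L := ⟨v i, w ≫ u i, h, hsplit⟩
      have hr1 := rk_eq_of_isFinLocFreeOfRank hE
      rw [rk_congr hiso, (lf_of_isInvertible hL).2] at hr1
      exact hr.one_lt.ne hr1

end Groth.Agent.VB30.GalSplit
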