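import Groth.Agent.VB30.Endo
import Groth.Agent.VB30.Setup
import Groth.Agent.VB30.Lines
import Groth.Agent.VB30.Rank2
import Mathlib.LinearAlgebra.Matrix.GeneralLinearGroup.Card
import Mathlib.CategoryTheory.Endomorphism

/-! Counting automorphisms of sums of line bundles of degree zero over a finite field. -/

set_option autoImplicit false
set_option linter.style.haveILetI false
set_option linter.unusedSectionVars false
set_option backward.isDefEq.respectTransparency.types false

noncomputable section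

universe u

open CategoryTheory CategoryTheory.Limits AlgebraicGeometry TopologicalSpace Opposite
open Groth.Agent.QC70 Groth.Agent.Props58.LocFree

namespace Groth.Agent.VB30

section Abstract

universe v w
variable {C : Type w} [Category.{v} C] [Preadditive C]

/-- Units of the endomorphism ring count automorphisms. -/
theorem card_aut_eq_card_units (E : C) : Nat.card (Aut E) = Nat.card (End E)ˣ :=
  Nat.card_congr (Aut.unitsEndEquivAut E).toEquiv.symm

theorem card_aut_congr {A B : C} (e : A ≅ B) : Nat.card (Aut A) = Nat.card (Aut B) :=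
  Nat.card_congr
    { toFun := fun f => e.symm ≪≫ f ≪≫ e
      invFun := fun f => e ≪≫ f ≪≫ e.symm
      left_inv := fun f => by ext; simp
      right_inv := fun f => by ext; simp }

variable [HasFiniteBiproducts C] [HasBinaryBiproducts C]

/-- Objects without maps between them. -/
def endProdEquiv (A B : C) (hAB : ∀ f : A ⟶ B, f = 0) (hBA : ∀ f : B ⟶ A, f = 0) :
    End (A ⊞ B) ≃+* End A × End B where
  toFun f := ((biprod.inl ≫ f ≫ biprod.fst : A ⟶ A), (biprod.inr ≫ f ≫ biprod.snd : B ⟶ B))
  invFun p := biprod.map p.1 p.2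
  left_inv f := by
    apply biprod.hom_ext' <;> apply biprod.hom_ext
    · simp
    · simp [hAB (biprod.inl ≫ f ≫ biprod.snd)]
    · simp [hBA (biprod.inr ≫ f ≫ biprod.fst)]
    · simp
  right_inv p := by
    refine Prod.ext ?_ ?_ <;> simp
  map_mul' f g := by
    have h1 : biprod.inl ≫ g ≫ biprod.snd = (0 : A ⟶ B) := hAB _
    have h2 : biprod.inr ≫ g ≫ biprod.fst = (0 : B ⟶ A) := hBA _
    have hg : ∀ {Z : C} (u : A ⊞ B ⟶ Z),
        biprod.inl ≫ g ≫ u = (biprod.inl ≫ g ≫ biprod.fst) ≫ biprod.inl ≫ u ∧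
          biprod.inr ≫ g ≫ u = (biprod.inr ≫ g ≫ biprod.snd) ≫ biprod.inr ≫ u := fun u => by
      constructor
      · conv_lhs => rw [← Category.id_comp u, ← biprod.total]
        simp only [Preadditive.add_comp, Preadditive.comp_add, Category.assoc, reassoc_of% h1, zero_comp, add_zero]
      · conv_lhs => rw [← Category.id_comp u, ← biprod.total]
        simp only [Preadditive.add_comp, Preadditive.comp_add, Category.assoc, reassoc_of% h2, zero_comp, zero_add]
    refine Prod.ext ?_ ?_
    · change biprod.inl ≫ (g ≫ f) ≫ biprod.fst = _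
      rw [Category.assoc, (hg _).1]
      rfl
    · change biprod.inr ≫ (g ≫ f) ≫ biprod.snd = _
      rw [Category.assoc, (hg _).2]
      rfl
  map_add' f g := by
    refine Prod.ext ?_ ?_
    · change biprod.inl ≫ ((f : A ⊞ B ⟶ A ⊞ B) + g) ≫ biprod.fst = _
      rw [Preadditive.add_comp, Preadditive.comp_add]
      rfl
    · change biprod.inr ≫ ((f : A ⊞ B ⟶ A ⊞ B) + g) ≫ biprod.snd = _
      rw [Preadditive.add_comp, Preadditive.comp_add]
      rfl

theorem card_aut_biprod (A B : C) (hAB : ∀ f : A ⟶ B, f = 0) (hBA : ∀ f : B ⟶ A, f = 0) :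
    Nat.card (Aut (A ⊞ B)) = Nat.card (Aut A) * Nat.card (Aut B) := by
  rw [card_aut_eq_card_units, card_aut_eq_card_units, card_aut_eq_card_units, ← Nat.card_prod]
  exact Nat.card_congr ((Units.mapEquiv (endProdEquiv A B hAB hBA).toMulEquiv).trans MulEquiv.prodUnits).toEquiv

variable {R : Type*} [CommRing R]

/-- Endomorphisms of a power of an object with scalar endomorphisms are matrices. -/
def endPowEquiv (L : C) (φ : R ≃+* End L) (n : ℕ) :
    Matrix (Fin n) (Fin n) R ≃+* End (⨁ fun _ : Fin n => L) where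
  toFun M := biproduct.matrix fun j i => φ (M i j)
  invFun f := Matrix.of fun i j => φ.symm (biproduct.components f j i)
  left_inv M := by
    ext i j
    simp [biproduct.matrix_components]
  right_inv f := by
    refine Eq.trans ?_ (biproduct.components_matrix f)
    exact congrArg biproduct.matrix (funext fun j => funext fun i => φ.apply_symm_apply _)
  map_mul' M N := by
    apply biproduct.hom_ext'
    intro j
    apply biproduct.hom_ext
    intro i
    change (biproduct.ι _ j ≫ biproduct.matrix _) ≫ biproduct.π _ i =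
      (biproduct.ι _ j ≫ (biproduct.matrix _ ≫ biproduct.matrix _)) ≫ biproduct.π _ i
    rw [biproduct.ι_matrix, biproduct.lift_π, Matrix.mul_apply, map_sum]
    simp only [Category.assoc, biproduct.matrix_π]
    rw [← Category.assoc, biproduct.ι_matrix, biproduct.lift_desc]
    exact Finset.sum_congr rfl fun l _ => by rw [map_mul]; rfl
  map_add' M N := by
    apply biproduct.hom_ext'
    intro j
    apply biproduct.hom_ext
    intro i
    change (biproduct.ι _ j ≫ biproduct.matrix _) ≫ biproduct.π _ i =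
      (biproduct.ι _ j ≫ (biproduct.matrix _ + biproduct.matrix _)) ≫ biproduct.π _ i
    simp only [Preadditive.comp_add, Preadditive.add_comp, biproduct.ι_matrix, biproduct.lift_π]
    exact map_add φ _ _

theorem card_aut_pow (L : C) (φ : R ≃+* End L) (n : ℕ) :
    Nat.card (Aut (⨁ fun _ : Fin n => L)) = Nat.card (GL (Fin n) R) := by
  rw [card_aut_eq_card_units]
  exact Nat.card_congr (Units.mapEquiv (endPowEquiv L φ n).toMulEquiv).toEquiv.symm

theorem card_aut_line (L : C) (φ : R ≃+* End L) : Nat.card (Aut L) = Nat.card Rˣ := by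
  rw [card_aut_eq_card_units]
  exact Nat.card_congr (Units.mapEquiv φ.toMulEquiv).toEquiv.symm

/-- The sum of two copies. -/
def powTwoIso (L : C) : L ⊞ L ≅ ⨁ fun _ : Fin 2 => L where
  hom := biprod.desc (biproduct.ι (fun _ : Fin 2 => L) 0) (biproduct.ι (fun _ : Fin 2 => L) 1)
  inv := biprod.lift (biproduct.π _ 0) (biproduct.π _ 1)
  hom_inv_id := by apply biprod.hom_ext' <;> apply biprod.hom_ext <;> simp [biproduct.ι_π]
  inv_hom_id := by rw [biprod.lift_desc, ← biproduct.total, Fin.sum_univ_two]

/-- The sum of three copies. -/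
def powThreeIso (L : C) : (L ⊞ L) ⊞ L ≅ ⨁ fun _ : Fin 3 => L where
  hom := biprod.desc (biprod.desc (biproduct.ι (fun _ : Fin 3 => L) 0) (biproduct.ι (fun _ : Fin 3 => L) 1))
    (biproduct.ι (fun _ : Fin 3 => L) 2)
  inv := biprod.lift (biprod.lift (biproduct.π _ 0) (biproduct.π _ 1)) (biproduct.π _ 2)
  hom_inv_id := by
    apply biprod.hom_ext'
    · apply biprod.hom_ext' <;> apply biprod.hom_ext
      · apply biprod.hom_ext <;> simp [biproduct.ι_π]
      · simp [biproduct.ι_π]
      · apply biprod.hom_ext <;> simp [biproduct.ι_π]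
      · simp [biproduct.ι_π]
    · apply biprod.hom_ext
      · apply biprod.hom_ext <;> simp [biproduct.ι_π]
      · simp [biproduct.ι_π]
  inv_hom_id := by rw [biprod.lift_desc, biprod.lift_desc, ← biproduct.total, Fin.sum_univ_three]

end Abstract

variable {k : Type u} [Field k] {X : Scheme.{u}} [X.Over (Spec (CommRingCat.of k))] [IsIntegral X]

namespace Cur

variable (h : Cur k X)
include h

/-- Endomorphisms of a line bundle are scalars when the global functions are constants. -/
theorem bijective_scal_line [Finite k] (h0 : Module.finrank k (Coh.HH X (Coh.structureModule X) 0) = 1)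
    {L : X.Modules} (hL : PicF.IsInvertible L) : Function.Bijective (scalHom k L) := by
  have := h.isNoetherian
  obtain ⟨H, e, he, he', hH, ⟨i⟩⟩ := exists_twist_equiv hL
  obtain ⟨lL, rL⟩ := lf_of_isInvertible hL
  have hinj : Function.Injective (scalHom k L) :=
    (injective_iff_map_eq_zero _).2 fun c hc => eq_zero_of_scal_eq_zero (by omega) hc
  have := h.curveCoh.finite _ (Crv77.isCoh_structureModule (X := X)) 0
  let one : Γ(Coh.structureModule X, ⊤) := (1 : Γ(X, ⊤))
  let a : (L ⟶ L) → Coh.HH X (Coh.structureModule X) 0 := fun f =>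
    (Crv77.sec _).symm ((i.inv ≫ twMap f H ≫ i.hom).app ⊤ one)
  have ha : Function.Injective a := fun f g hfg => by
    have h1 := (Crv77.sec (Coh.structureModule X)).symm.injective hfg
    have h2 : i.inv ≫ twMap f H ≫ i.hom = i.inv ≫ twMap g H ≫ i.hom :=
      Scheme.Modules.hom_ext _ _ fun V => by
        ext r
        refine (QC70.app_toUnit _ r).trans (Eq.trans ?_ (QC70.app_toUnit _ r).symm)
        exact congrArg (fun z : Γ(Coh.structureModule X, ⊤) => (show Γ(X, V) from r) • res (Coh.structureModule X) (le_top : V ≤ ⊤) z) h1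
    rw [cancel_epi i.inv, cancel_mono i.hom] at h2
    have key : ∀ (F : X.Modules ⥤ X.Modules), F = Crv77.twist H → F.map f = F.map g := by
      rintro F rfl
      exact h2
    exact e.fullyFaithfulInverse.map_injective (key e.inverse he')
  have : Finite (Coh.HH X (Coh.structureModule X) 0) := Module.finite_of_finite k
  have : Finite (L ⟶ L) := Finite.of_injective a ha
  have hc : Nat.card (L ⟶ L) ≤ Nat.card k := by
    refine (Nat.card_le_card_of_injective a ha).trans ?_
    rw [Module.natCard_eq_pow_finrank (K := k), h0, pow_one]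
  have : Finite (CategoryTheory.End L) := ‹Finite (L ⟶ L)›
  exact Function.Injective.bijective_of_nat_card_le hinj hc

/-- Distinct line bundles of the same degree admit no maps. -/
theorem hom_eq_zero_of_not_iso {L M : X.Modules} (hL : PicF.IsInvertible L) (hM : PicF.IsInvertible M)
    (hd : dg k L = dg k M) (hn : ¬ Nonempty (L ≅ M)) (f : L ⟶ M) : f = 0 := by
  obtain ⟨l, r⟩ := lf_of_isInvertible hL
  obtain ⟨l', r'⟩ := lf_of_isInvertible hM
  by_contra hf
  have := (h.rk_image_eq_zero_or f l l' r).resolve_left hf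
  obtain ⟨-, hiso⟩ := h.dg_le_of_mono f (isCoh_of_isFinLocFree l) (isCoh_of_isFinLocFree l') (r.trans r'.symm)
  have := hiso hd
  exact hn ⟨asIso f⟩

theorem card_aut_three [Finite k] (h0 : Module.finrank k (Coh.HH X (Coh.structureModule X) 0) = 1)
    {A B : X.Modules} (hA : PicF.IsInvertible A) (hB : PicF.IsInvertible B)
    (hdA : dg k A = 0) (hdB : dg k B = 0) :
    Nat.card (Aut ((A ⊞ A) ⊞ A)) =
        (Nat.card k ^ 3 - 1) * (Nat.card k ^ 3 - Nat.card k) * (Nat.card k ^ 3 - Nat.card k ^ 2) ∧
    (¬ Nonempty (A ≅ B) →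
      Nat.card (Aut ((A ⊞ A) ⊞ B)) = (Nat.card k - 1) ^ 3 * (Nat.card k + 1) * Nat.card k) ∧
    (∀ C : X.Modules, PicF.IsInvertible C → dg k C = 0 → ¬ Nonempty (A ≅ B) → ¬ Nonempty (A ≅ C) →
      ¬ Nonempty (B ≅ C) → Nat.card (Aut ((A ⊞ B) ⊞ C)) = (Nat.card k - 1) ^ 3) := by
  classical
  have := Fintype.ofFinite k
  have φ : ∀ {L : X.Modules}, PicF.IsInvertible L → k ≃+* CategoryTheory.End L := fun {L} hL =>
    RingEquiv.ofBijective (scalHom k L) (h.bijective_scal_line h0 hL)
  have line : ∀ {L : X.Modules}, PicF.IsInvertible L → Nat.card (Aut L) = Nat.card k - 1 := fun {L} hL => by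
    rw [card_aut_line L (φ hL), Nat.card_units]
  refine ⟨?_, fun hn => ?_, fun C hC hdC hAB hAC hBC => ?_⟩
  · rw [card_aut_congr (powThreeIso A), card_aut_pow A (φ hA) 3, Matrix.card_GL_field, Fin.prod_univ_three,
      Nat.card_eq_fintype_card]
    norm_num
  · have z1 : ∀ f : A ⊞ A ⟶ B, f = 0 := fun f => biprod.hom_ext' _ _
      (by rw [comp_zero]; exact h.hom_eq_zero_of_not_iso hA hB (hdA.trans hdB.symm) hn _)
      (by rw [comp_zero]; exact h.hom_eq_zero_of_not_iso hA hB (hdA.trans hdB.symm) hn _)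
    have hn' : ¬ Nonempty (B ≅ A) := fun ⟨e⟩ => hn ⟨e.symm⟩
    have z2 : ∀ f : B ⟶ A ⊞ A, f = 0 := fun f => biprod.hom_ext _ _
      (by rw [zero_comp]; exact h.hom_eq_zero_of_not_iso hB hA (hdB.trans hdA.symm) hn' _)
      (by rw [zero_comp]; exact h.hom_eq_zero_of_not_iso hB hA (hdB.trans hdA.symm) hn' _)
    rw [card_aut_biprod _ _ z1 z2, card_aut_congr (powTwoIso A), card_aut_pow A (φ hA) 2, Matrix.card_GL_field,
      Fin.prod_univ_two, line hB, Nat.card_eq_fintype_card]
    have hq : 1 ≤ Fintype.card k := Fintype.card_pos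
    obtain ⟨q, hq'⟩ : ∃ q, Fintype.card k = q + 1 := ⟨_, (Nat.sub_add_cancel hq).symm⟩
    rw [hq']
    simp only [Fin.val_zero, Fin.val_one, pow_zero, pow_one]
    rw [show (q + 1) ^ 2 - 1 = q * (q + 2) from Nat.sub_eq_of_eq_add (by ring),
      show (q + 1) ^ 2 - (q + 1) = q * (q + 1) from Nat.sub_eq_of_eq_add (by ring), Nat.add_sub_cancel]
    ring
  · have z : ∀ {L M : X.Modules}, PicF.IsInvertible L → PicF.IsInvertible M → dg k L = 0 → dg k M = 0 →
        ¬ Nonempty (L ≅ M) → ∀ f : L ⟶ M, f = 0 := fun hL hM dL dM hn => h.hom_eq_zero_of_not_iso hL hM (dL.trans dM.symm) hn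
    have z1 : ∀ f : A ⊞ B ⟶ C, f = 0 := fun f => biprod.hom_ext' _ _
      (by rw [comp_zero]; exact z hA hC hdA hdC hAC _) (by rw [comp_zero]; exact z hB hC hdB hdC hBC _)
    have z2 : ∀ f : C ⟶ A ⊞ B, f = 0 := fun f => biprod.hom_ext _ _
      (by rw [zero_comp]; exact z hC hA hdC hdA (fun ⟨e⟩ => hAC ⟨e.symm⟩) _)
      (by rw [zero_comp]; exact z hC hB hdC hdB (fun ⟨e⟩ => hBC ⟨e.symm⟩) _)
    rw [card_aut_biprod _ _ z1 z2, card_aut_biprod _ _ (z hA hB hdA hdB hAB)
      (z hB hA hdB hdA fun ⟨e⟩ => hAB ⟨e.symm⟩), line hA, line hB, line hC]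
    ring

end Cur

end Groth.Agent.VB30
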