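import Groth.Agent.VB30.Farey

/-! Semistable bundles in genus one. -/

set_option autoImplicit false
set_option linter.style.haveILetI false
set_option linter.unusedSectionVars false
set_option backward.isDefEq.respectTransparency.types false

noncomputable section

universe u

open CategoryTheory CategoryTheory.Limits AlgebraicGeometry TopologicalSpace Opposite
open Groth.Agent.QC70 Groth.Agent.Props58.LocFree

namespace Groth.Agent.VB30

variable {k : Type u} [Field k] {X : Scheme.{u}} [X.Over (Spec (CommRingCat.of k))] [IsIntegral X]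

theorem biprod_shortExact (A B : X.Modules) :
    (ShortComplex.mk (biprod.inl : A ⟶ A ⊞ B) biprod.snd biprod.inl_snd).ShortExact :=
  (ShortComplex.Splitting.ofHasBinaryBiproduct A B).shortExact

namespace Cur

variable (h : Cur k X)
include h

theorem ss_biprod {A B : X.Modules} (hA : FlatMod.IsFinLocFree A) (hB : FlatMod.IsFinLocFree B)
    (ha : 0 < rk A) (hb : 0 < rk B) (hAs : SS k A) (hBs : SS k B)
    (hμ : dg k A * rk B = dg k B * rk A) : SS k (A ⊞ B) := by
  have hAB := DCoh43.isFinLocFree_biprod hA hB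
  have hS := biprod_shortExact A B
  have hr := h.rk_add hS (isCoh_of_isFinLocFree hAB)
  have hd := h.dg_add hS (isCoh_of_isFinLocFree hA) (isCoh_of_isFinLocFree hAB)
  dsimp only at hr hd
  exact (h.ss_extension_iff hS hA hAB hB ha hb
    (by dsimp only; rw [hr, hd]; push_cast; linarith) (by dsimp only; rw [hr, hd]; push_cast; linarith)).2 ⟨hAs, hBs⟩

theorem exists_sum_copies {A : X.Modules} (hA : FlatMod.IsFinLocFree A) (ha : 0 < rk A) (hAs : SS k A) :
    ∀ n : ℕ, ∃ F : X.Modules, FlatMod.IsFinLocFree F ∧ rk F = (n + 1) * rk A ∧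
      dg k F = (n + 1) * dg k A ∧ SS k F
  | 0 => ⟨A, hA, by simp, by simp, hAs⟩
  | n + 1 => by
    obtain ⟨F, lF, rF, dF, sF⟩ := exists_sum_copies hA ha hAs n
    have hAF := DCoh43.isFinLocFree_biprod hA lF
    have hS := biprod_shortExact A F
    have hr := h.rk_add hS (isCoh_of_isFinLocFree hAF)
    have hd := h.dg_add hS (isCoh_of_isFinLocFree hA) (isCoh_of_isFinLocFree hAF)
    dsimp only at hr hd
    refine ⟨_, hAF, by rw [hr, rF]; ring, by rw [hd, dF]; push_cast; ring,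
      h.ss_biprod hA lF ha (by rw [rF]; exact Nat.mul_pos n.succ_pos ha) hAs sF ?_⟩
    rw [rF, dF]; push_cast; ring

end Cur

/-- Coprime rank and degree turn semistability into stability. -/
theorem st_of_ss_gcd {E : X.Modules} (hs : SS k E) (hg : Int.gcd (dg k E) (rk E) = 1) : St k E := by
  intro G i hi h0 hlt hG
  refine lt_of_le_of_ne (hs G i hi h0 hG) fun e => ?_
  have hdvd : (rk E : ℤ) ∣ dg k E * rk G := ⟨dg k G, by rw [← e]; ring⟩
  have hco : IsCoprime (rk E : ℤ) (dg k E) := (Int.isCoprime_iff_gcd_eq_one.2 hg).symm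
  have := Int.le_of_dvd (by exact_mod_cast h0) (hco.dvd_of_dvd_mul_left hdvd)
  omega

section Setup

variable (hS : CrvPic30.Setup k X)
include hS

theorem exists_ss [IsAlgClosed k] (hg : Curv2.genus k X = 1) (r : ℕ) (d : ℤ) (hr : 0 < r) :
    ∃ F : X.Modules, FlatMod.IsFinLocFree F ∧ rk F = r ∧ dg k F = d ∧ SS k F := by
  have h := cur_of_setup hS
  have hg0 : 0 < Int.gcd d r := Nat.pos_of_ne_zero fun e => by
    have := (Int.gcd_eq_zero_iff.1 e).2
    omega
  obtain ⟨r₀, hr₀⟩ : ∃ r₀, r = Int.gcd d r * r₀ :=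
    Int.natCast_dvd_natCast.1 (Int.gcd_dvd_right d r)
  obtain ⟨d₀, hd₀⟩ := Int.gcd_dvd_left d r
  have h₀ : 0 < r₀ := by
    rcases Nat.eq_zero_or_pos r₀ with z | z
    · rw [z, mul_zero] at hr₀; omega
    · exact z
  have hco : Int.gcd d₀ r₀ = 1 := by
    have e : Int.gcd d r = Int.gcd ((Int.gcd d r : ℕ) * d₀) ((Int.gcd d r : ℕ) * (r₀ : ℤ)) := by
      rw [← hd₀]; congr 1; exact_mod_cast hr₀
    rw [Int.gcd_mul_left, Int.natAbs_natCast] at e
    exact Nat.eq_of_mul_eq_mul_left hg0 ((mul_one _).trans e).symm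
  obtain ⟨A, lA, rA, dA, sA⟩ := exists_stable hS hg r₀ d₀ h₀ hco
  obtain ⟨F, lF, rF, dF, sF⟩ := h.exists_sum_copies lA (rA ▸ h₀) (h.ss_of_st lA sA) (Int.gcd d r - 1)
  refine ⟨F, lF, ?_, ?_, sF⟩
  · rw [rF, rA, Nat.sub_add_cancel hg0, ← hr₀]
  · rw [dF, dA, Nat.cast_sub hg0, Nat.cast_one, sub_add_cancel, ← hd₀]

set_option maxHeartbeats 1000000 in
/-- In genus one stable bundles have coprime rank and degree. -/
theorem gcd_eq_one_of_st [IsAlgClosed k] (hg : Curv2.genus k X = 1) {F : X.Modules}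
    (hF : FlatMod.IsFinLocFree F) (h0 : 0 < rk F) (hst : St k F) : Int.gcd (dg k F) (rk F) = 1 := by
  have h := cur_of_setup hS
  by_contra hne
  have hg0 : 0 < Int.gcd (dg k F) (rk F) := Nat.pos_of_ne_zero fun e => by
    have := (Int.gcd_eq_zero_iff.1 e).2
    omega
  obtain ⟨r₀, hr₀⟩ : ∃ r₀, rk F = Int.gcd (dg k F) (rk F) * r₀ :=
    Int.natCast_dvd_natCast.1 (Int.gcd_dvd_right (dg k F) (rk F))
  obtain ⟨d₀, hd₀⟩ := Int.gcd_dvd_left (dg k F) (rk F : ℤ)
  generalize hgg : Int.gcd (dg k F) (rk F) = g at hne hg0 hr₀ hd₀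
  have h₀ : 0 < r₀ := by
    rcases Nat.eq_zero_or_pos r₀ with z | z
    · rw [z, mul_zero] at hr₀; omega
    · exact z
  have hco : Int.gcd d₀ r₀ = 1 := by
    rw [hr₀, hd₀, Nat.cast_mul, Int.gcd_mul_left, Int.natAbs_natCast] at hgg
    exact Nat.eq_of_mul_eq_mul_left hg0 (hgg.trans (mul_one _).symm)
  have hlt : r₀ < rk F := by
    rw [hr₀]
    calc r₀ = 1 * r₀ := (one_mul _).symm
      _ < g * r₀ := Nat.mul_lt_mul_of_lt_of_le (by omega) le_rfl h₀
  obtain ⟨A, lA, rA, dA, sA⟩ := exists_stable hS hg r₀ d₀ h₀ hco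
  obtain ⟨lH, rH, dH⟩ := h.homMod_lf lA hF
  obtain ⟨M, φ, hM, hdM, hφ⟩ := h.exists_hom_line_zero (euler_eq_zero_of_genus_one hS hg) lH
    (by rw [rH, rA]; exact Nat.mul_pos h₀ h0)
    (by
      rw [dH, rA, dA, hr₀, hd₀]
      push_cast
      exact le_of_eq (by ring))
  let adj : Crv77.twist A ⊣ homFunctor A := homModAdjR A
  let ψ : CohB1.tensorMod M A ⟶ F := (adj.homEquiv M F).symm φ
  have hψ : ψ ≠ 0 := fun e => hφ <| by
    have : φ = (adj.homEquiv M F) ψ := ((adj.homEquiv M F).apply_symm_apply φ).symm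
    haveI : (homFunctor A).Additive := (homModAdj A).right_adjoint_additive
    rw [‹φ = _›, e, Adjunction.homEquiv_unit]
    exact (congrArg (adj.unit.app M ≫ ·) ((homFunctor A).map_zero _ _)).trans comp_zero
  obtain ⟨lB, rB, dB⟩ := h.tensor_invertible lA hM
  have hBs := h.ss_twist lA hM (h.ss_of_st lA sA)
  let χ : CohB1.tensorMod A M ⟶ F := (EGA73.tensComm A M).hom ≫ ψ
  have hχ : χ ≠ 0 := fun e => hψ <| by
    rw [← cancel_epi (EGA73.tensComm A M).hom, comp_zero]; exact e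
  obtain ⟨K, I, i, p, q, hi, hp, hq, -, -, lK, lI, r, d, -, hz⟩ := h.exists_ker_im χ lB hF
  rw [rB, rA] at r
  rw [dB, dA, rA, hdM, mul_zero, add_zero] at d
  have hI0 : 0 < rk I := Nat.pos_of_ne_zero fun e => hχ (hz e)
  have hI := hst I q hq hI0 (by omega) lI
  have hK : dg k K * r₀ ≤ d₀ * rk K := by
    rcases Nat.eq_zero_or_pos (rk K) with z | z
    · rw [h.dg_of_rk_zero lK z, z]; simp
    · have := hBs K i hi z lK
      rw [rB, dB, rA, dA, hdM, mul_zero, add_zero] at this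
      exact this
  rw [hr₀, hd₀] at hI
  push_cast at hI
  have hI' : dg k I * r₀ < d₀ * rk I := by
    have hgz : (0 : ℤ) < g := by exact_mod_cast hg0
    nlinarith
  have hr' : (r₀ : ℤ) = rk K + rk I := by exact_mod_cast r
  have e₁ : d₀ * (r₀ : ℤ) = dg k K * r₀ + dg k I * r₀ := by rw [← add_mul, ← d]
  have e₂ : d₀ * (r₀ : ℤ) = d₀ * rk K + d₀ * rk I := by rw [← mul_add, ← hr']
  linarith

set_option maxHeartbeats 1000000 in
/-- Indecomposable bundles are semistable in genus one. -/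
theorem ss_of_indecomposable (hg : Curv2.genus k X = 1) {E : X.Modules} (hE : FlatMod.IsFinLocFree E)
    (h0 : 0 < rk E) (hind : ∀ E₁ E₂ : X.Modules, Nonempty (E ≅ E₁ ⊞ E₂) → IsZero E₁ ∨ IsZero E₂) :
    SS k E := by
  have h := cur_of_setup hS
  have hEc := isCoh_of_isFinLocFree hE
  obtain ⟨E₁, i₁, hi₁, l₁, h1, hmax, hrk⟩ := h.exists_max hE h0
  have lQ := h.isFinLocFree_cokernel_of_max i₁ hE l₁ h1 hmax
  obtain ⟨rQ, dQ⟩ := h.rk_cokernel i₁ (isCoh_of_isFinLocFree l₁) hEc
  rcases Nat.eq_zero_or_pos (rk (cokernel i₁)) with z | z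
  · have hd0 := h.dg_of_rk_zero lQ z
    intro G i hi hG0 hG
    have a := hmax G i hi hG0 hG
    rw [show rk E₁ = rk E by omega, show dg k E₁ = dg k E by omega] at a
    exact a
  · exfalso
    have hz : ∀ φ : E₁ ⟶ cokernel i₁, φ = 0 := fun φ => by
      obtain ⟨K, I, i, p, j, hi, hp, hj, -, -, lK, lI, r, d, -, hzero⟩ := h.exists_ker_im φ l₁ lQ
      refine hzero (Nat.eq_zero_of_not_pos fun hI => ?_)
      have a := h.quot_slope_lt i₁ hE l₁ h1 hmax hrk j lI hI
      rcases Nat.eq_zero_or_pos (rk K) with zK | zK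
      · have := h.dg_of_rk_zero lK zK
        rw [r, d, zK, this] at a
        simp at a
      · have b := hmax K (i ≫ i₁) (mono_comp _ _) zK lK
        rw [r, d] at a b
        push_cast at a b
        nlinarith
    have hs := h.isSplitEpi_of_h1 (shortExact_cokernel i₁) lQ (h1_hom_subsingleton_genus_one hS hg l₁ lQ hz)
    have := hs
    let s := ShortComplex.Splitting.ofExactOfSection (ShortComplex.mk i₁ (cokernel.π i₁) (cokernel.condition i₁))
      (shortExact_cokernel i₁).exact (section_ (cokernel.π i₁)) (IsSplitEpi.id (cokernel.π i₁)) hi₁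
    rcases hind E₁ (cokernel i₁) ⟨s.isoBinaryBiproduct⟩ with hZ | hZ
    · have := rk_eq_zero_of_isZero hZ; omega
    · have := rk_eq_zero_of_isZero hZ; omega

end Setup

end Groth.Agent.VB30
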