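import Groth.Agent.VB30.AutCount
import Groth.Agent.VB30.Tensor
import Mathlib.Algebra.Homology.ShortComplex.ShortExact

/-! Automorphisms involving the non-split self-extension of the trivial bundle. -/

set_option autoImplicit false
set_option linter.style.haveILetI false
set_option linter.unusedSectionVars false
set_option backward.isDefEq.respectTransparency.types false

noncomputable section

universe u

open CategoryTheory CategoryTheory.Limits AlgebraicGeometry TopologicalSpace Opposite
open Groth.Agent.QC70 Groth.Agent.Props58.LocFree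

namespace Groth.Agent.VB30

variable {k : Type u} [Field k] {X : Scheme.{u}} [X.Over (Spec (CommRingCat.of k))] [IsIntegral X]

section Ext

variable {F : X.Modules} {i : Coh.structureModule X ⟶ F} {g : F ⟶ Coh.structureModule X} {w : i ≫ g = 0}
  (hS : (ShortComplex.mk i g w).ShortExact) (hns : ∀ s : Coh.structureModule X ⟶ F, s ≫ g ≠ 𝟙 _)
  (hb : Function.Bijective (scalHom k (Coh.structureModule X)))

include hS hns hb

theorem hom_unit_ext (v : Coh.structureModule X ⟶ F) : ∃ c : k, v = scal (Coh.structureModule X) c ≫ i := by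
  have := hS.mono_f
  obtain ⟨c, hc⟩ := hb.2 (v ≫ g)
  change scal (Coh.structureModule X) c = v ≫ g at hc
  have hc0 : c = 0 := by
    by_contra hc0
    refine hns (scal (Coh.structureModule X) c⁻¹ ≫ v) ?_
    rw [Category.assoc, ← hc, ← scal_mul, mul_inv_cancel₀ hc0, scal_one]
  rw [hc0, scal_zero] at hc
  obtain ⟨u, hu⟩ := KernelFork.IsLimit.lift' hS.fIsKernel v hc.symm
  obtain ⟨d, hd⟩ := hb.2 u
  change scal (Coh.structureModule X) d = u at hd
  exact ⟨d, by rw [hd]; exact hu.symm⟩

theorem hom_ext_unit (f : F ⟶ Coh.structureModule X) : ∃ c : k, f = g ≫ scal (Coh.structureModule X) c := by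
  have := hS.epi_g
  obtain ⟨c, hc⟩ := hb.2 (i ≫ f)
  change scal (Coh.structureModule X) c = i ≫ f at hc
  have hc0 : c = 0 := by
    by_contra hc0
    let r : F ⟶ Coh.structureModule X := f ≫ scal (Coh.structureModule X) c⁻¹
    have hr : i ≫ r = 𝟙 _ := by
      show i ≫ f ≫ scal (Coh.structureModule X) c⁻¹ = 𝟙 _
      rw [← Category.assoc, ← hc, ← scal_mul, inv_mul_cancel₀ hc0, scal_one]
    let S := ShortComplex.mk i g w
    have : Epi S.g := hS.epi_g
    exact hns (ShortComplex.Splitting.ofExactOfRetraction S hS.exact r hr hS.epi_g).s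
      (ShortComplex.Splitting.ofExactOfRetraction S hS.exact r hr hS.epi_g).s_g
  rw [hc0, scal_zero] at hc
  obtain ⟨u, hu⟩ := CokernelCofork.IsColimit.desc' hS.gIsCokernel f hc.symm
  obtain ⟨d, hd⟩ := hb.2 u
  change scal (Coh.structureModule X) d = u at hd
  exact ⟨d, by rw [hd]; exact hu.symm⟩

omit hS hns hb in
/-- An endomorphism of the extension in coordinates. -/
def extEnd (i : Coh.structureModule X ⟶ F) (g : F ⟶ Coh.structureModule X) (x y : k) : F ⟶ F :=
  scal F x + g ≫ scal (Coh.structureModule X) y ≫ i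

theorem exists_extEnd (φ : F ⟶ F) : ∃ x y : k, φ = extEnd i g x y := by
  obtain ⟨x, hx⟩ := hom_unit_ext hS hns hb (i ≫ φ)
  have h0 : i ≫ (φ - scal F x) = 0 := by
    rw [Preadditive.comp_sub, hx, scal_comm i x, sub_self]
  obtain ⟨u, hu⟩ := CokernelCofork.IsColimit.desc' hS.gIsCokernel (φ - scal F x) h0
  obtain ⟨y, hy⟩ := hom_unit_ext hS hns hb u
  refine ⟨x, y, ?_⟩
  rw [extEnd, ← hy]
  exact (sub_add_cancel φ (scal F x)).symm.trans (by rw [add_comm]; congr 1; exact hu.symm)

theorem eq_zero_of_extEnd (h0 : 0 < rk F) {x y : k} (e : extEnd i g x y = 0) : x = 0 ∧ y = 0 := by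
  have := hS.mono_f
  have := hS.epi_g
  have hx : x = 0 := by
    have h1 : i ≫ extEnd i g x y = scal (Coh.structureModule X) x ≫ i := by
      rw [extEnd, Preadditive.comp_add, reassoc_of% w, zero_comp, add_zero, scal_comm i x]
    rw [e, comp_zero] at h1
    exact hb.1 ((show scal (Coh.structureModule X) x = 0 from (cancel_mono i).1 (h1.symm.trans zero_comp.symm)).trans
      (map_zero (scalHom k (Coh.structureModule X))).symm)
  refine ⟨hx, ?_⟩
  rw [extEnd, hx, scal_zero, zero_add] at e
  have h2 : scal (Coh.structureModule X) y ≫ i = 0 := (cancel_epi g).1 (e.trans comp_zero.symm)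
  exact hb.1 ((show scal (Coh.structureModule X) y = 0 from (cancel_mono i).1 (h2.trans zero_comp.symm)).trans
    (map_zero (scalHom k (Coh.structureModule X))).symm)

omit hS hns hb in
theorem extEnd_comp (w : i ≫ g = 0) (x y x' y' : k) :
    extEnd i g x y ≫ extEnd i g x' y' = extEnd i g (x * x') (x * y' + y * x') := by
  simp only [extEnd, Preadditive.add_comp, Preadditive.comp_add, Category.assoc]
  rw [← scal_mul, mul_comm x' x]
  have t1 : scal F x ≫ g ≫ scal (Coh.structureModule X) y' ≫ i = g ≫ scal (Coh.structureModule X) (x * y') ≫ i := by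
    rw [← Category.assoc, scal_comm g x, Category.assoc, ← Category.assoc (scal (Coh.structureModule X) x), ← scal_mul, mul_comm y' x]
  have t2 : g ≫ scal (Coh.structureModule X) y ≫ i ≫ scal F x' = g ≫ scal (Coh.structureModule X) (y * x') ≫ i := by
    rw [← scal_comm i x', ← Category.assoc (scal (Coh.structureModule X) y), ← scal_mul, mul_comm x' y]
  have t3 : g ≫ scal (Coh.structureModule X) y ≫ i ≫ g ≫ scal (Coh.structureModule X) y' ≫ i = 0 := by
    rw [reassoc_of% w]; simp
  rw [t1, t2, t3, scal_add, Preadditive.add_comp, Preadditive.comp_add]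
  abel

theorem card_aut_ext [Finite k] (h0 : 0 < rk F) :
    Nat.card (Aut F) = (Nat.card k - 1) * Nat.card k := by
  have := Fintype.ofFinite k
  have hid : extEnd i g (1 : k) 0 = 𝟙 F := by rw [extEnd, scal_one, scal_zero, zero_comp, comp_zero, add_zero]
  have hinj : ∀ {x y x' y' : k}, extEnd i g x y = extEnd i g x' y' → x = x' ∧ y = y' := fun {x y x' y'} e => by
    have h1 : extEnd i g (x - x') (y - y') + extEnd i g x' y' = extEnd i g x y := by
      simp only [extEnd]
      rw [show scal F x = scal F (x - x') + scal F x' by rw [← scal_add, sub_add_cancel],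
        show scal (Coh.structureModule X) y = scal (Coh.structureModule X) (y - y') + scal (Coh.structureModule X) y' by rw [← scal_add, sub_add_cancel],
        Preadditive.add_comp, Preadditive.comp_add]
      abel
    rw [e, add_eq_right] at h1
    obtain ⟨a, b⟩ := eq_zero_of_extEnd hS hns hb h0 h1
    exact ⟨sub_eq_zero.1 a, sub_eq_zero.1 b⟩
  let Φ : kˣ × k → Aut F := fun p =>
    { hom := extEnd i g (p.1 : k) p.2
      inv := extEnd i g ↑p.1⁻¹ (-p.2 * ↑p.1⁻¹ * ↑p.1⁻¹)
      hom_inv_id := by
        rw [extEnd_comp w, ← hid]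
        refine congrArg₂ (extEnd i g) (Units.mul_inv p.1) ?_
        field_simp
        simp
      inv_hom_id := by
        rw [extEnd_comp w, ← hid]
        refine congrArg₂ (extEnd i g) (Units.inv_mul p.1) ?_
        field_simp
        simp }
  have hΦ : Function.Bijective Φ := by
    refine ⟨fun p q e => ?_, fun f => ?_⟩
    · obtain ⟨a, b⟩ := hinj (congrArg Iso.hom e)
      exact Prod.ext (Units.ext a) b
    · obtain ⟨x, y, hxy⟩ := exists_extEnd hS hns hb f.hom
      obtain ⟨x', y', hxy'⟩ := exists_extEnd hS hns hb f.inv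
      have h1 := f.hom_inv_id
      rw [hxy, hxy', extEnd_comp w, ← hid] at h1
      exact ⟨⟨Units.mkOfMulEqOne x x' (hinj h1).1, y⟩, Iso.ext hxy.symm⟩
  rw [← Nat.card_congr (Equiv.ofBijective Φ hΦ), Nat.card_prod, Nat.card_units]

omit hS hns hb in
/-- An endomorphism of the sum of the trivial bundle and the extension in coordinates. -/
def sumEnd (i : Coh.structureModule X ⟶ F) (g : F ⟶ Coh.structureModule X) (a b c x y : k) : Coh.structureModule X ⊞ F ⟶ Coh.structureModule X ⊞ F :=
  biprod.desc (biprod.lift (scal (Coh.structureModule X) a) (scal (Coh.structureModule X) b ≫ i)) (biprod.lift (g ≫ scal (Coh.structureModule X) c) (extEnd i g x y))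

omit hS hns hb in
theorem sumEnd_comp (w : i ≫ g = 0) (a b c x y a' b' c' x' y' : k) :
    sumEnd i g a b c x y ≫ sumEnd i g a' b' c' x' y' =
      sumEnd i g (a * a') (a * b' + b * x') (c * a' + x * c') (x * x') (c * b' + x * y' + y * x') := by
  have hi : ∀ {Z : X.Modules} (v : Coh.structureModule X ⟶ Z), i ≫ g ≫ v = 0 := fun v => by rw [reassoc_of% w, zero_comp]
  apply biprod.hom_ext' <;> apply biprod.hom_ext
  · simp only [sumEnd, Category.assoc, biprod.inl_desc, biprod.inl_desc_assoc, biprod.lift_desc_assoc,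
      biprod.lift_desc, Preadditive.add_comp, biprod.lift_fst, hi, comp_zero, add_zero]
    rw [← scal_mul, mul_comm]
  · simp only [sumEnd, Category.assoc, biprod.inl_desc, biprod.inl_desc_assoc, biprod.lift_desc_assoc,
      biprod.lift_desc, Preadditive.add_comp, biprod.lift_snd]
    rw [extEnd, Preadditive.comp_add, Preadditive.comp_add, hi, comp_zero, add_zero, ← scal_comm i x',
      ← Category.assoc (scal (Coh.structureModule X) b), ← scal_mul, ← Category.assoc (scal (Coh.structureModule X) a), ← scal_mul, scal_add,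
      Preadditive.add_comp, mul_comm x' b, mul_comm b' a]
  · simp only [sumEnd, Category.assoc, biprod.inr_desc, biprod.inr_desc_assoc, biprod.lift_desc_assoc,
      biprod.lift_desc, Preadditive.add_comp, biprod.lift_fst]
    rw [extEnd, Preadditive.add_comp, Category.assoc, Category.assoc, hi, comp_zero, comp_zero, add_zero,
      ← Category.assoc (scal F x), scal_comm g x, Category.assoc, ← scal_mul, ← scal_mul, scal_add,
      Preadditive.comp_add, mul_comm a' c, mul_comm c' x]
  · simp only [sumEnd, Category.assoc, biprod.inr_desc, biprod.inr_desc_assoc, biprod.lift_desc_assoc,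
      biprod.lift_desc, Preadditive.add_comp, biprod.lift_snd]
    rw [extEnd_comp w, ← Category.assoc (scal (Coh.structureModule X) c), ← scal_mul, mul_comm b' c, extEnd, extEnd, add_assoc (c * b'),
      scal_add (Coh.structureModule X) (c * b'), Preadditive.add_comp, Preadditive.comp_add]
    abel

theorem card_aut_sum [Finite k] (h0 : 0 < rk F) :
    Nat.card (Aut (Coh.structureModule X ⊞ F)) = (Nat.card k - 1) ^ 2 * Nat.card k ^ 3 := by
  have := Fintype.ofFinite k
  have := hS.mono_f
  have := hS.epi_g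
  have hid : sumEnd i g (1 : k) 0 0 1 0 = 𝟙 (Coh.structureModule X ⊞ F) := by
    apply biprod.hom_ext' <;> apply biprod.hom_ext <;>
      simp [sumEnd, extEnd, scal_one, scal_zero]
  have hinj : ∀ {a b c x y a' b' c' x' y' : k}, sumEnd i g a b c x y = sumEnd i g a' b' c' x' y' →
      a = a' ∧ b = b' ∧ c = c' ∧ x = x' ∧ y = y' := by
    intro a b c x y a' b' c' x' y' e
    have e1 := congrArg (fun f => biprod.inl ≫ f ≫ biprod.fst) e
    have e2 := congrArg (fun f => biprod.inl ≫ f ≫ biprod.snd) e
    have e3 := congrArg (fun f => biprod.inr ≫ f ≫ biprod.fst) e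
    have e4 := congrArg (fun f => biprod.inr ≫ f ≫ biprod.snd) e
    simp only [sumEnd, biprod.inl_desc_assoc, biprod.inr_desc_assoc, biprod.lift_fst, biprod.lift_snd] at e1 e2 e3 e4
    refine ⟨hb.1 e1, hb.1 ((cancel_mono i).1 e2), hb.1 ((cancel_epi g).1 e3), ?_⟩
    have h1 : extEnd i g (x - x') (y - y') + extEnd i g x' y' = extEnd i g x y := by
      simp only [extEnd]
      rw [show scal F x = scal F (x - x') + scal F x' by rw [← scal_add, sub_add_cancel],
        show scal (Coh.structureModule X) y = scal (Coh.structureModule X) (y - y') + scal (Coh.structureModule X) y' by rw [← scal_add, sub_add_cancel],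
        Preadditive.add_comp, Preadditive.comp_add]
      abel
    rw [e4, add_eq_right] at h1
    obtain ⟨u, v⟩ := eq_zero_of_extEnd hS hns hb h0 h1
    exact ⟨sub_eq_zero.1 u, sub_eq_zero.1 v⟩
  have hsurj : ∀ f : Coh.structureModule X ⊞ F ⟶ Coh.structureModule X ⊞ F, ∃ a b c x y : k, f = sumEnd i g a b c x y := by
    intro f
    obtain ⟨a, ha⟩ := hb.2 (biprod.inl ≫ f ≫ biprod.fst)
    change scal (Coh.structureModule X) a = _ at ha
    obtain ⟨b, hb'⟩ := hom_unit_ext hS hns hb (biprod.inl ≫ f ≫ biprod.snd)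
    obtain ⟨c, hc⟩ := hom_ext_unit hS hns hb (biprod.inr ≫ f ≫ biprod.fst)
    obtain ⟨x, y, hxy⟩ := exists_extEnd hS hns hb (biprod.inr ≫ f ≫ biprod.snd)
    refine ⟨a, b, c, x, y, ?_⟩
    apply biprod.hom_ext' <;> apply biprod.hom_ext <;> simp [sumEnd, ha, ← hb', ← hc, ← hxy]
  let Φ : kˣ × k × k × kˣ × k → Aut (Coh.structureModule X ⊞ F) := fun p =>
    let a := (p.1 : k); let b := p.2.1; let c := p.2.2.1; let x := (p.2.2.2.1 : k); let y := p.2.2.2.2
    let a' := (↑p.1⁻¹ : k); let x' := (↑p.2.2.2.1⁻¹ : k)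
    { hom := sumEnd i g a b c x y
      inv := sumEnd i g a' (-a' * b * x') (-x' * c * a') x' (x' * (c * a' * b - y) * x')
      hom_inv_id := by
        rw [sumEnd_comp w, ← hid]
        congr 1 <;> simp only [a, a', x, x', Units.val_inv_eq_inv_val] <;>
          (have := p.1.ne_zero; have := p.2.2.2.1.ne_zero; field_simp; try ring)
      inv_hom_id := by
        rw [sumEnd_comp w, ← hid]
        congr 1 <;> simp only [a, a', x, x', Units.val_inv_eq_inv_val] <;>
          (have := p.1.ne_zero; have := p.2.2.2.1.ne_zero; field_simp; try ring) }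
  have hΦ : Function.Bijective Φ := by
    refine ⟨fun p q e => ?_, fun f => ?_⟩
    · obtain ⟨a, b, c, d, e'⟩ := hinj (congrArg Iso.hom e)
      exact Prod.ext (Units.ext a) (Prod.ext b (Prod.ext c (Prod.ext (Units.ext d) e')))
    · obtain ⟨a, b, c, x, y, hf⟩ := hsurj f.hom
      obtain ⟨a', b', c', x', y', hf'⟩ := hsurj f.inv
      have h1 := f.hom_inv_id
      rw [hf, hf', sumEnd_comp w, ← hid] at h1
      obtain ⟨u, -, -, v, -⟩ := hinj h1
      exact ⟨(Units.mkOfMulEqOne a a' u, b, c, Units.mkOfMulEqOne x x' v, y), Iso.ext hf.symm⟩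
  rw [← Nat.card_congr (Equiv.ofBijective Φ hΦ)]
  simp only [Nat.card_prod, Nat.card_units]
  ring

end Ext

namespace Cur

variable (h : Cur k X)
include h

theorem card_aut_sum_twist [Finite k] (h0 : Module.finrank k (Coh.HH X (Coh.structureModule X) 0) = 1)
    {F : X.Modules} {i : Coh.structureModule X ⟶ F} {g : F ⟶ Coh.structureModule X} {w : i ≫ g = 0} (hS : (ShortComplex.mk i g w).ShortExact)
    (hns : ∀ s : Coh.structureModule X ⟶ F, s ≫ g ≠ 𝟙 _) (hF : 0 < rk F) {L : X.Modules} (hL : PicF.IsInvertible L)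
    (hd : dg k L = 0) (hn : ¬ Nonempty (L ≅ Coh.structureModule X)) :
    Nat.card (Aut (Coh.structureModule X ⊞ CohB1.tensorMod L F)) = (Nat.card k - 1) ^ 2 * Nat.card k := by
  have hO : PicF.IsInvertible (Coh.structureModule X) := EGA73.isInvertible_structureModule
  have hb := h.bijective_scal_line h0 hO
  have := h.isNoetherian
  obtain ⟨w', hT⟩ := shortExact_twMap hL hS
  let j : CohB1.tensorMod (Coh.structureModule X) L ≅ L := EGA73.tensUnitLeft L
  have d0 := h.dg_structureModule
  have z1 : ∀ f : Coh.structureModule X ⟶ CohB1.tensorMod F L, f = 0 := fun f => by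
    have e : f ≫ twMap g L = 0 := by
      rw [← cancel_mono j.hom, zero_comp]
      exact h.hom_eq_zero_of_not_iso hO hL (d0.trans hd.symm) (fun ⟨e⟩ => hn ⟨e.symm⟩) _
    obtain ⟨v, hv⟩ := KernelFork.IsLimit.lift' hT.fIsKernel f e
    have hv0 : (v ≫ j.hom : Coh.structureModule X ⟶ L) = 0 :=
      h.hom_eq_zero_of_not_iso hO hL (d0.trans hd.symm) (fun ⟨e⟩ => hn ⟨e.symm⟩) _
    rw [← hv, (cancel_mono j.hom).1 (hv0.trans zero_comp.symm)]
    exact zero_comp
  have z2 : ∀ f : CohB1.tensorMod F L ⟶ Coh.structureModule X, f = 0 := fun f => by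
    have e : twMap i L ≫ f = 0 := by
      rw [← cancel_epi j.inv, comp_zero]
      exact h.hom_eq_zero_of_not_iso hL hO (hd.trans d0.symm) hn _
    obtain ⟨v, hv⟩ := CokernelCofork.IsColimit.desc' hT.gIsCokernel f e
    have hv0 : (j.inv ≫ v : L ⟶ Coh.structureModule X) = 0 := h.hom_eq_zero_of_not_iso hL hO (hd.trans d0.symm) hn _
    rw [← hv, (cancel_epi j.inv).1 (hv0.trans comp_zero.symm)]
    exact comp_zero
  obtain ⟨H, e, he, -, -, -⟩ := exists_twist_equiv hL
  have htw : Nat.card (Aut F) = Nat.card (Aut (CohB1.tensorMod F L)) := by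
    have key : Nat.card (Aut F) = Nat.card (Aut (e.functor.obj F)) :=
      Nat.card_congr e.fullyFaithfulFunctor.isoEquiv
    rw [he] at key
    exact key
  rw [card_aut_congr (biprod.mapIso (Iso.refl _) (EGA73.tensComm L F)), card_aut_biprod _ _ z1 z2, ← htw,
    card_aut_ext hS hns hb hF, card_aut_line _ (RingEquiv.ofBijective (scalHom k (Coh.structureModule X)) hb), Nat.card_units]
  ring

end Cur

end Groth.Agent.VB30
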