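import Groth.Agent.QC70.Stalk
import Groth.Agent.Amp73.CounitIff
import Groth.Agent.QC70.PushClosed

/-! The part of a module supported on a clopen subset. -/

set_option autoImplicit false
set_option linter.style.haveILetI false
set_option backward.isDefEq.respectTransparency.types false

noncomputable section

universe u

open CategoryTheory CategoryTheory.Limits AlgebraicGeometry TopologicalSpace Opposite

namespace Groth.Agent.VB30.Clopen

variable {X : Scheme.{u}}

/-- `j_* (M|U)`. -/
abbrev PU (U : X.Opens) : X.Modules ⥤ X.Modules :=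
  Scheme.Modules.restrictFunctor U.ι ⋙ Scheme.Modules.pushforward U.ι

/-- `M ⟶ j_* (M|U)`. -/
abbrev unitU (U : X.Opens) : 𝟭 X.Modules ⟶ PU U :=
  (Scheme.Modules.restrictAdjunction U.ι).unit

instance preservesMono_PU (U : X.Opens) {M N : X.Modules} (φ : M ⟶ N) [Mono φ] : Mono ((PU U).map φ) := by
  have h : Mono ((Scheme.Modules.restrictFunctor U.ι).map φ) := by
    have : (Scheme.Modules.restrictFunctor U.ι).IsRightAdjoint := inferInstanceAs
      (SheafOfModules.pushforward.{u} _).IsRightAdjoint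
    exact (Scheme.Modules.restrictFunctor U.ι).map_mono φ
  have : (Scheme.Modules.pushforward U.ι).IsRightAdjoint :=
    (Scheme.Modules.restrictAdjunction U.ι).isRightAdjoint
  exact (Scheme.Modules.pushforward U.ι).map_mono _

theorem isZero_restrict_push {U V : X.Opens} (h : U ⊓ V = ⊥) (N : (U : Scheme.{u}).Modules) :
    IsZero (((Scheme.Modules.pushforward U.ι).obj N).restrict V.ι) := by
  rw [IsZero.iff_id_eq_zero]
  refine Scheme.Modules.hom_ext _ _ fun W => ?_
  ext x
  have he : U.ι ⁻¹ᵁ (V.ι ''ᵁ W) = ⊥ := by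
    refine eq_bot_iff.2 fun y hy => ?_
    obtain ⟨w, -, hw⟩ := hy
    have : (y.1 : X) ∈ U ⊓ V := ⟨y.2, by rw [← show (V.ι w : X) = y.1 from hw]; exact w.2⟩
    rw [h] at this
    exact this
  have hs : Subsingleton Γ(N, U.ι ⁻¹ᵁ (V.ι ''ᵁ W)) := by
    rw [he]
    exact ⟨fun a b => QC70.section_ext N a b fun p hp => hp.elim⟩
  exact hs.elim _ _

variable {U V : X.Opens}

theorem isIso_restrict_unit (U : X.Opens) (M : X.Modules) :
    IsIso ((Scheme.Modules.restrictFunctor U.ι).map ((unitU U).app M)) := by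
  have := (Scheme.Modules.restrictAdjunction U.ι).left_triangle_components M
  exact IsIso.of_isIso_fac_right (h := 𝟙 _) this

/-- The decomposition along complementary opens. -/
def toSum (U V : X.Opens) (M : X.Modules) : M ⟶ (PU U).obj M ⊞ (PU V).obj M :=
  biprod.lift ((unitU U).app M) ((unitU V).app M)

theorem isIso_restrict_toSum (h : U ⊓ V = ⊥) (M : X.Modules) :
    IsIso ((Scheme.Modules.restrictFunctor U.ι).map (toSum U V M)) := by
  have h2 : IsZero ((Scheme.Modules.restrictFunctor U.ι).obj ((PU V).obj M)) :=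
    isZero_restrict_push (by rwa [inf_comm]) _
  set F := Scheme.Modules.restrictFunctor U.ι
  have hp : IsIso (F.map (biprod.fst : (PU U).obj M ⊞ (PU V).obj M ⟶ _)) := by
    refine ⟨F.map biprod.inl, ?_, by rw [← F.map_comp, biprod.inl_fst, F.map_id]⟩
    rw [← F.map_comp, ← F.map_id]
    have := congrArg F.map (biprod.total (X := (PU U).obj M) (Y := (PU V).obj M))
    rw [F.map_add, F.map_comp biprod.snd, h2.eq_of_tgt (F.map biprod.snd) 0, zero_comp, add_zero] at this
    exact this
  have h3 : F.map (toSum U V M) ≫ F.map biprod.fst = F.map ((unitU U).app M) := by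
    rw [← F.map_comp, toSum, biprod.lift_fst]
  have := isIso_restrict_unit U M
  exact IsIso.of_isIso_fac_right h3

theorem isIso_of_restrict_cover {M N : X.Modules} (φ : M ⟶ N)
    (H : ∀ x : X, ∃ (W : Scheme.{u}) (j : W ⟶ X) (_ : IsOpenImmersion j),
      x ∈ Set.range j ∧ IsIso ((Scheme.Modules.restrictFunctor j).map φ)) : IsIso φ := by
  refine QC70.isIso_of_bijective_stalkMapM φ fun x => ?_
  obtain ⟨W, j, hj, ⟨y, rfl⟩, hiso⟩ := H x
  have h1 : IsIso ((Scheme.Modules.restrictFunctor j ⋙ Scheme.Modules.toPresheaf _ ⋙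
      TopCat.Presheaf.stalkFunctor _ y).map φ) := by rw [Functor.comp_map]; infer_instance
  rw [NatIso.isIso_map_iff (Scheme.Modules.restrictStalkNatIso j y)] at h1
  exact ConcreteCategory.bijective_of_isIso ((Scheme.Modules.toPresheaf _ ⋙
      TopCat.Presheaf.stalkFunctor _ (j y)).map φ)

theorem isIso_toSum (h : U ⊓ V = ⊥) (hc : U ⊔ V = ⊤) (M : X.Modules) : IsIso (toSum U V M) := by
  refine isIso_of_restrict_cover _ fun x => ?_
  have hx : x ∈ U ⊔ V := by rw [hc]; exact trivial
  rcases hx with hx | hx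
  · exact ⟨_, U.ι, inferInstance, by rw [Scheme.Opens.range_ι]; exact hx, isIso_restrict_toSum h M⟩
  · refine ⟨_, V.ι, inferInstance, by rw [Scheme.Opens.range_ι]; exact hx, ?_⟩
    have e : toSum U V M = toSum V U M ≫ (biprod.braiding _ _).hom := by
      apply biprod.hom_ext <;> simp [toSum]
    rw [e, Functor.map_comp]
    have := isIso_restrict_toSum (inf_comm U V ▸ h : V ⊓ U = ⊥) M
    infer_instance

/-- `M ≅ M_U ⊞ M_V`. -/
def sumIso (h : U ⊓ V = ⊥) (hc : U ⊔ V = ⊤) (M : X.Modules) : M ≅ (PU U).obj M ⊞ (PU V).obj M :=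
  have := isIso_toSum h hc M
  asIso (toSum U V M)

theorem shortExact_sum (h : U ⊓ V = ⊥) (hc : U ⊔ V = ⊤) (M : X.Modules) :
    (ShortComplex.mk (biprod.inl ≫ (sumIso h hc M).inv) ((sumIso h hc M).hom ≫ biprod.snd)
      (by simp) : ShortComplex X.Modules).ShortExact :=
  (ShortComplex.Splitting.mk (S := ShortComplex.mk (biprod.inl ≫ (sumIso h hc M).inv)
      ((sumIso h hc M).hom ≫ biprod.snd) (by simp))
    ((sumIso h hc M).hom ≫ biprod.fst) (biprod.inr ≫ (sumIso h hc M).inv) (by simp) (by simp)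
    (by
      rw [← cancel_epi (sumIso h hc M).inv, ← cancel_mono (sumIso h hc M).hom]
      simp [biprod.total])).shortExact

theorem isClosed_of_compl (h : U ⊓ V = ⊥) (hc : U ⊔ V = ⊤) : IsClosed (U : Set X) := by
  have e : (U : Set X) = (V : Set X)ᶜ := by
    ext x
    refine ⟨fun hU hV => ?_, fun hV => ?_⟩
    · have : x ∈ U ⊓ V := ⟨hU, hV⟩
      rw [h] at this
      exact this
    · have : x ∈ U ⊔ V := by rw [hc]; exact trivial
      exact this.resolve_right hV
  rw [e]
  exact V.2.isClosed_compl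

theorem isClosedImmersion_ι (hU : IsClosed (U : Set X)) : IsClosedImmersion U.ι :=
  IsClosedImmersion.of_isPreimmersion _ (by rw [Scheme.Opens.range_ι]; exact hU)

theorem support_PU_subset (hU : IsClosed (U : Set X)) {M : X.Modules} (hM : Coh.IsCoh M) :
    CohB1.support ((PU U).obj M) ⊆ U := by
  have := isClosedImmersion_ι hU
  have := (Amp73.isCoh_restrict hM U).2
  exact (QC70.support_pushforward_subset U.ι _).trans (by rw [Scheme.Opens.range_ι])

theorem isCoh_PU [IsLocallyNoetherian X] (hU : IsClosed (U : Set X)) {M : X.Modules} (hM : Coh.IsCoh M) :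
    Coh.IsCoh ((PU U).obj M) := by
  have := isClosedImmersion_ι hU
  exact QC70.isCoh_pushforward U.ι _ (Amp73.isCoh_restrict hM U)

end Groth.Agent.VB30.Clopen
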