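import Groth.Agent.VB30.GenericSub
import Groth.Agent.Desc59.Pic.VectPush
import Groth.Agent.GGDesc24.Basic
import Groth.Agent.Cyc90.Dev.FiltBasis
import Groth.Agent.VB30.Tensor
import Groth.Agent.Grass5.FlagStep

/-! Over a neighbourhood of a point of the base, a globally generated bundle on a family of curves is
an extension of a line bundle by trivial ones. -/

set_option autoImplicit false
set_option backward.isDefEq.respectTransparency.types false
set_option linter.style.haveILetI false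
set_option linter.unusedSectionVars false

noncomputable section

universe u

open CategoryTheory CategoryTheory.Limits AlgebraicGeometry TopologicalSpace Opposite IsLocalRing
open Groth.Agent.QC70 Groth.Agent.Props58.LocFree Groth.Agent.Cyc90

namespace Groth.Agent.VB30.FiltChain

open GenericSub

variable {X : Scheme.{u}}

theorem push_res {X' : Scheme.{u}} (h : X' ⟶ X) (N : X'.Modules) {U W : X.Opens} (le : W ≤ U)
    (z : Γ((Scheme.Modules.pushforward h).obj N, U)) :
    res ((Scheme.Modules.pushforward h).obj N) le z = res N (h.preimage_mono le) z := rfl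

/-- The inverse image of a global section. -/
def ps {X' : Scheme.{u}} (h : X' ⟶ X) (E : X.Modules) (s : Γ(E, ⊤)) :
    Γ((Scheme.Modules.pullback h).obj E, ⊤) :=
  QCPull72.unitSec h E (show (⊤ : X'.Opens) ≤ h ⁻¹ᵁ (⊤ : X.Opens) from fun _ _ => trivial) s

theorem unitSec_res {X' : Scheme.{u}} (h : X' ⟶ X) (E : X.Modules) (s : Γ(E, ⊤)) (U : X.Opens) :
    QCPull72.unitSec h E (le_refl (h ⁻¹ᵁ U)) (res E le_top s) =
      res ((Scheme.Modules.pullback h).obj E) (le_top : h ⁻¹ᵁ U ≤ ⊤) (ps h E s) := by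
  rw [QCPull72.unitSec, app_res, push_res, ps, QCPull72.unitSec, res_res, res_res]

theorem nv_pullback {X' : Scheme.{u}} (h : X' ⟶ X) {r : ℕ} {E : X.Modules}
    (hE : FlatMod.IsFinLocFreeOfRank r E) (s : Γ(E, ⊤)) (x : X') (hx : NV E s (h x)) :
    NV ((Scheme.Modules.pullback h).obj E) (ps h E s) x := by
  obtain ⟨U, hxU, ⟨e⟩⟩ := hE (h x)
  obtain ⟨S, hS⟩ := exists_stalkBasis_of_iso e
  obtain ⟨a, ha⟩ := hS.exists_comb le_rfl (res E le_top s)
  have hS' := Desc59.Pic.VectPush.stalkBasis_pullback h hS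
  have hb : germComb S (h x) hxU (fun i => X.presheaf.germ U (h x) hxU (a i)) = germM E ⊤ (h x) trivial s := by
    rw [← germ_comb S le_rfl a (h x) hxU, ha, germM_res]
  obtain ⟨j, hj⟩ : ∃ j, X.presheaf.germ U (h x) hxU (a j) ∉ maximalIdeal (X.presheaf.stalk (h x)) := by
    by_contra hc
    push Not at hc
    exact (not_nv_iff hS hxU hb).2 hc hx
  have hu : germComb (fun i => QCPull72.unitSec h E (le_refl (h ⁻¹ᵁ U)) (S i)) x hxU
      (fun i => X'.presheaf.germ (h ⁻¹ᵁ U) x hxU (h.app U (a i))) =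
      germM ((Scheme.Modules.pullback h).obj E) ⊤ x trivial (ps h E s) := by
    rw [← germ_comb (fun i => QCPull72.unitSec h E (le_refl (h ⁻¹ᵁ U)) (S i)) le_rfl (fun i => h.app U (a i)) x hxU,
      ← germM_res (M := (Scheme.Modules.pullback h).obj E) (le_top : h ⁻¹ᵁ U ≤ ⊤) hxU (ps h E s)]
    refine congrArg (germM _ _ x hxU) ?_
    rw [← unitSec_res, ← ha]
    simp only [QCPull72.unitSec, res_self, map_sum, Scheme.Modules.Hom.app_smul]
    rfl
  intro hbad
  have hj' := (not_nv_iff hS' hxU hu).1 (fun hnv => hnv hbad) j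
  rw [mem_maximalIdeal, mem_nonunits_iff, not_not] at hj
  refine (mem_maximalIdeal _).1 hj' ?_
  exact (Scheme.Hom.germ_stalkMap_apply h U x hxU (a j)) ▸ hj.map (h.stalkMap x).hom

theorem isGloballyGenerated_of_epi {E Q : X.Modules} (p : E ⟶ Q) [Epi p]
    (h : Curv2.IsGloballyGenerated E) : Curv2.IsGloballyGenerated Q := by
  obtain ⟨ι, q, hq⟩ := h
  exact ⟨ι, q ≫ p, @epi_comp _ _ _ _ _ q hq p ‹_›⟩

/-- An invertible module is filtered by itself. -/
theorem hasFilt_single {T : Scheme.{u}} {L : T.Modules} (hL : PicF.IsInvertible L) :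
    Dev.HasFilt L [L] :=
  Dev.HasFilt.step (kernel.ι (𝟙 L)) (𝟙 L) (kernel.condition _)
    { exact := ShortComplex.exact_of_f_is_kernel _ (kernelIsKernel (𝟙 L))
      mono_f := inferInstanceAs (Mono (kernel.ι (𝟙 L)))
      epi_g := inferInstanceAs (Epi (𝟙 L)) } hL (.zero (isZero_kernel_of_mono (𝟙 L)))

variable {k : Type u} [Field k] [Infinite k]

set_option maxHeartbeats 1000000 in
/-- Near a point of the base: an extension of a line bundle by trivial line bundles. -/
theorem exists_hasFilt : ∀ (m : ℕ) {X U : Scheme.{u}} [IsAffine U] [X.Over (Spec (CommRingCat.of k))]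
    (f : X ⟶ U) [SmoothOfRelativeDimension 1 f] [IsProper f] (g : U ⟶ Spec (CommRingCat.of k)),
    f ≫ g = X ↘ Spec (CommRingCat.of k) → ∀ {E : X.Modules}, FlatMod.IsFinLocFreeOfRank (m + 1) E →
    Curv2.IsGloballyGenerated E → ∀ u : U, ∃ V : U.Opens, u ∈ V ∧ IsAffineOpen V ∧
      ∀ {T : Scheme.{u}} (h : T ⟶ X), (∀ t, f (h t) ∈ V) → ∃ (L : T.Modules) (ls : List T.Modules),
        Dev.HasFilt ((Scheme.Modules.pullback h).obj E) (L :: ls) ∧ ls.length = m ∧
          ∀ M ∈ ls, Nonempty (M ≅ Coh.structureModule T)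
  | 0, X, U, _, _, f, _, _, g, _, E, hE, _, u => by
    refine ⟨⊤, trivial, isAffineOpen_top U, fun {T} h _ => ⟨(Scheme.Modules.pullback h).obj E, [], ?_, rfl, by simp⟩⟩
    have hL : PicF.IsInvertible ((Scheme.Modules.pullback h).obj E) :=
      isInvertible_of_rank_one (Grass5.QuotBC.isFinLocFreeOfRank_pullback h hE)
    exact hasFilt_single hL
  | m + 1, X, U, _, _, f, _, _, g, hg, E, hE, hgen, u => by
    have : CompactSpace X := QuasiCompact.compactSpace_of_compactSpace f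
    obtain ⟨s, V₀, hu₀, hs⟩ := exists_nbhd f g hg hE (by omega) hgen u
    obtain ⟨V₁, hV₁, hu₁, hle⟩ := exists_isAffineOpen_mem_and_subset (U := V₀) hu₀
    let X₁ : Scheme.{u} := f ⁻¹ᵁ V₁
    let f₁ : X₁ ⟶ V₁ := f ∣_ V₁
    haveI : IsAffine (V₁ : Scheme.{u}) := hV₁
    haveI hsm : SmoothOfRelativeDimension 1 f₁ :=
      (smoothOfRelativeDimension_isStableUnderBaseChange 1).of_isPullback
        (isPullback_morphismRestrict f V₁).flip ‹_›
    haveI hpr : IsProper f₁ := MorphismProperty.of_isPullback (P := @IsProper)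
      (isPullback_morphismRestrict f V₁).flip ‹_›
    letI : X₁.Over (Spec (CommRingCat.of k)) := ⟨(f ⁻¹ᵁ V₁).ι ≫ (X ↘ Spec (CommRingCat.of k))⟩
    have hg₁ : f₁ ≫ V₁.ι ≫ g = X₁ ↘ Spec (CommRingCat.of k) := by
      show _ = (f ⁻¹ᵁ V₁).ι ≫ _
      rw [← hg, morphismRestrict_ι_assoc]
    let E₁ := (Scheme.Modules.pullback (f ⁻¹ᵁ V₁).ι).obj E
    have hE₁ : FlatMod.IsFinLocFreeOfRank (m + 2) E₁ := Grass5.QuotBC.isFinLocFreeOfRank_pullback _ hE
    let s₁ : Γ(E₁, ⊤) := ps (f ⁻¹ᵁ V₁).ι E s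
    obtain ⟨hmono, hQ⟩ := mono_and_rank hE₁ s₁ fun x =>
      nv_pullback (f ⁻¹ᵁ V₁).ι hE s x (hs _ (hle x.2))
    let Q := cokernel (unitHom s₁)
    have hQgen : Curv2.IsGloballyGenerated Q := isGloballyGenerated_of_epi (cokernel.π (unitHom s₁))
      (GGDesc24.isGloballyGenerated_pullback _ hgen)
    obtain ⟨V₂, hu₂, hV₂, IH⟩ := exists_hasFilt m f₁ (V₁.ι ≫ g) hg₁ hQ hQgen ⟨u, hu₁⟩
    refine ⟨V₁.ι ''ᵁ V₂, ⟨⟨u, hu₁⟩, hu₂, rfl⟩, hV₂.image_of_isOpenImmersion V₁.ι, fun {T} h hT => ?_⟩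
    have hrange : Set.range h ⊆ Set.range (f ⁻¹ᵁ V₁).ι := by
      rintro _ ⟨t, rfl⟩
      obtain ⟨w, -, hw⟩ := hT t
      rw [Scheme.Opens.range_ι]
      show f (h t) ∈ V₁
      rw [← hw]
      exact w.2
    let h' : T ⟶ X₁ := IsOpenImmersion.lift (f ⁻¹ᵁ V₁).ι h hrange
    have hfac : h' ≫ (f ⁻¹ᵁ V₁).ι = h := IsOpenImmersion.lift_fac _ _ _
    obtain ⟨L, ls, hfilt, hlen, hls⟩ := IH h' fun t => by
      obtain ⟨w, hw, hwt⟩ := hT t
      have e : V₁.ι (f₁ (h' t)) = f (h t) := by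
        rw [← Scheme.Hom.comp_apply, morphismRestrict_ι, Scheme.Hom.comp_apply, ← Scheme.Hom.comp_apply h', hfac]
      have hwe : w = f₁ (h' t) := V₁.ι.isOpenEmbedding.injective (hwt.trans e.symm)
      exact hwe ▸ hw
    have hS : (ShortComplex.mk (unitHom s₁) (cokernel.π _) (cokernel.condition _)).ShortExact :=
      { exact := ShortComplex.exact_of_g_is_cokernel _ (cokernelIsCokernel _)
        mono_f := hmono }
    have hQlf : FlatMod.IsFinLocFree Q := fun x => by
      obtain ⟨W, hx, e⟩ := hQ x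
      exact ⟨W, _, hx, e⟩
    have hS' := KRR40.shortExact_pullback h' hS hQlf
    let eO : (Scheme.Modules.pullback h').obj (unitMod X₁) ≅ Coh.structureModule T :=
      PicLoc.pullbackStructureIso h'
    have hO : Dev.HasFilt ((Scheme.Modules.pullback h').obj (unitMod X₁))
        [(Scheme.Modules.pullback h').obj (unitMod X₁)] :=
      hasFilt_single (EGA73.isInvertible_of_iso eO.symm EGA73.isInvertible_structureModule)
    refine ⟨L, ls ++ [(Scheme.Modules.pullback h').obj (unitMod X₁)],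
      ((Dev.HasFilt.append _ _ _ hS' hO hfilt).of_iso ?_), by simp [hlen], fun M hM => ?_⟩
    · exact (Scheme.Modules.pullbackComp h' (f ⁻¹ᵁ V₁).ι).app E ≪≫ eqToIso (by rw [hfac])
    · rcases List.mem_append.1 hM with hM | hM
      · exact hls M hM
      · rw [List.mem_singleton] at hM
        subst hM
        exact ⟨eO⟩

end Groth.Agent.VB30.FiltChain
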