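import Groth.Agent.KRR40.RelKoszul
import Groth.Agent.VB30.Clopen
import Groth.Agent.VB30.FiltChain
import Groth.Agent.DCK91.PullStalk
import Groth.Agent.Univ70.Sect
import Groth.Prelude.Def_KLin
import Mathlib.AlgebraicGeometry.Modules.Sheaf
import Mathlib.CategoryTheory.Abelian.Exact

/-! A family of bundles of rank two on the projective line whose splitting type jumps. -/

set_option autoImplicit false
set_option backward.isDefEq.respectTransparency.types false
set_option maxSynthPendingDepth 6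
set_option linter.style.haveILetI false
set_option linter.unusedSectionVars false

noncomputable section

universe u

open CategoryTheory CategoryTheory.Limits AlgebraicGeometry TopologicalSpace Opposite Polynomial
open Groth.Agent.QC70 Groth.Agent.KRR40 Groth.Agent.Var76.Reg Groth.Agent.Cyc90

namespace Groth.Agent.VB30.Jump

section Abstract

variable {C : Type*} [Category C] [Abelian C] {A B₁ B₂ : C}

/-- The cokernel of a pair whose first component is invertible. -/
def cokerLiftIso (u : A ⟶ B₁) [IsIso u] (v : A ⟶ B₂) : cokernel (biprod.lift u v) ≅ B₂ where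
  hom := cokernel.desc _ (biprod.desc (-(inv u ≫ v)) (𝟙 B₂)) (by simp [biprod.lift_desc])
  inv := biprod.inr ≫ cokernel.π _
  hom_inv_id := by
    have h : u ≫ biprod.inl ≫ cokernel.π (biprod.lift u v) + v ≫ biprod.inr ≫ cokernel.π (biprod.lift u v) = 0 := by
      rw [← Category.assoc, ← Category.assoc, ← Preadditive.add_comp, ← biprod.lift_eq, cokernel.condition]
    refine (cancel_epi (cokernel.π (biprod.lift u v))).1 ?_
    rw [cokernel.π_desc_assoc, Category.comp_id]
    apply biprod.hom_ext'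
    · rw [biprod.inl_desc_assoc]
      refine (cancel_epi u).1 ?_
      simp only [Preadditive.neg_comp, Preadditive.comp_neg, Category.assoc, IsIso.hom_inv_id_assoc]
      exact neg_eq_of_add_eq_zero_left h
    · simp
  inv_hom_id := by simp

theorem mono_lift_left (u : A ⟶ B₁) [Mono u] (v : A ⟶ B₂) : Mono (biprod.lift u v) :=
  mono_of_mono_fac (biprod.lift_fst u v)

/-- Transport of the cokernel of a pair along a functor preserving cokernels. -/
def mapCokerLiftIso {D : Type*} [Category D] [Abelian D] (G : C ⥤ D) [G.Additive]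
    [PreservesColimitsOfShape WalkingParallelPair G] (u : A ⟶ B₁) (v : A ⟶ B₂) :
    G.obj (cokernel (biprod.lift u v)) ≅ cokernel (biprod.lift (G.map u) (G.map v)) :=
  haveI : PreservesBinaryBiproducts G := preservesBinaryBiproducts_of_preservesBiproducts G
  PreservesCokernel.iso G (biprod.lift u v) ≪≫
    cokernel.mapIso _ _ (Iso.refl _) (G.mapBiprod B₁ B₂) (by
      rw [Iso.refl_hom, Category.id_comp]
      apply biprod.hom_ext <;> simp only [Functor.mapBiprod_hom, Category.assoc, biprod.lift_fst, biprod.lift_snd, ← Functor.map_comp])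

/-- Transport of the cokernel of a triple. -/
def mapCoker3Iso {B₃ : C} {D : Type*} [Category D] [Abelian D] (G : C ⥤ D) [G.Additive]
    [PreservesColimitsOfShape WalkingParallelPair G] (u : A ⟶ B₁) (v : A ⟶ B₂) (w : A ⟶ B₃) :
    G.obj (cokernel (biprod.lift u (biprod.lift v w))) ≅
      cokernel (biprod.lift (G.map u) (biprod.lift (G.map v) (G.map w))) :=
  haveI : PreservesBinaryBiproducts G := preservesBinaryBiproducts_of_preservesBiproducts G
  mapCokerLiftIso G u (biprod.lift v w) ≪≫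
    cokernel.mapIso _ _ (Iso.refl _) (biprod.mapIso (Iso.refl _) (G.mapBiprod B₂ B₃)) (by
      apply biprod.hom_ext
      · simp
      · apply biprod.hom_ext
        · simp
          exact (congrArg (G.map _ ≫ ·) (biprod.lift_fst _ _)).trans
            ((G.map_comp _ _).symm.trans (congrArg G.map (biprod.lift_fst _ _)))
        · simp
          exact (congrArg (G.map _ ≫ ·) (biprod.lift_snd _ _)).trans
            ((G.map_comp _ _).symm.trans (congrArg G.map (biprod.lift_snd _ _))))

theorem isIso_map_inr_π {D : Type*} [Category D] [Abelian D] (G : C ⥤ D) [G.Additive]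
    [PreservesColimitsOfShape WalkingParallelPair G] (u : A ⟶ B₁) (v : A ⟶ B₂) [IsIso (G.map u)] :
    IsIso (G.map (biprod.inr ≫ cokernel.π (biprod.lift u v))) := by
  haveI : PreservesBinaryBiproducts G := preservesBinaryBiproducts_of_preservesBiproducts G
  have e : G.map (biprod.inr ≫ cokernel.π (biprod.lift u v)) =
      ((mapCokerLiftIso G u v) ≪≫ cokerLiftIso (G.map u) (G.map v)).inv := by
    refine (Iso.comp_hom_eq_id (mapCokerLiftIso G u v ≪≫ cokerLiftIso (G.map u) (G.map v))).1 ?_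
    simp only [mapCokerLiftIso, cokerLiftIso, Iso.trans_hom, cokernel.mapIso_hom, cokernel.map,
      Functor.map_comp, Category.assoc, PreservesCokernel.π_iso_hom_assoc, cokernel.π_desc_assoc,
      cokernel.π_desc, Functor.mapBiprod_hom, biprod.lift_desc, Preadditive.comp_add, ← G.map_comp_assoc,
      biprod.inr_fst, biprod.inr_snd]
    simp
  rw [e]
  infer_instance

/-- Exchanging the two components. -/
def cokerSwapIso (u : A ⟶ B₁) (v : A ⟶ B₂) : cokernel (biprod.lift u v) ≅ cokernel (biprod.lift v u) :=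
  cokernel.mapIso _ _ (Iso.refl _) (biprod.braiding _ _) (by apply biprod.hom_ext <;> simp)

theorem isIso_map_inl_π {D : Type*} [Category D] [Abelian D] (G : C ⥤ D) [G.Additive]
    [PreservesColimitsOfShape WalkingParallelPair G] (u : A ⟶ B₁) (v : A ⟶ B₂) [IsIso (G.map v)] :
    IsIso (G.map (biprod.inl ≫ cokernel.π (biprod.lift u v))) := by
  have e : biprod.inl ≫ cokernel.π (biprod.lift u v) =
      (biprod.inr ≫ cokernel.π (biprod.lift v u)) ≫ (cokerSwapIso u v).inv := by
    have h : (biprod.inr : B₁ ⟶ B₂ ⊞ B₁) ≫ biprod.lift biprod.snd biprod.fst = biprod.inl := by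
      apply biprod.hom_ext <;> simp
    simp [cokerSwapIso, reassoc_of% h]
  have := isIso_map_inr_π G v u
  rw [e, Functor.map_comp]
  infer_instance

variable {B₃ : C}

/-- The projection forgetting the third component. -/
theorem inl_pr : (biprod.inl : B₁ ⟶ B₁ ⊞ (B₂ ⊞ B₃)) ≫ biprod.lift biprod.fst (biprod.snd ≫ biprod.fst) = biprod.inl := by
  apply biprod.hom_ext <;> simp

theorem inl_inr_pr : (biprod.inl : B₂ ⟶ B₂ ⊞ B₃) ≫ (biprod.inr : _ ⟶ B₁ ⊞ (B₂ ⊞ B₃)) ≫
    biprod.lift biprod.fst (biprod.snd ≫ biprod.fst) = biprod.inr := by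
  apply biprod.hom_ext <;> simp

theorem inr_inr_pr : (biprod.inr : B₃ ⟶ B₂ ⊞ B₃) ≫ (biprod.inr : _ ⟶ B₁ ⊞ (B₂ ⊞ B₃)) ≫
    biprod.lift biprod.fst (biprod.snd ≫ biprod.fst) = 0 := by
  apply biprod.hom_ext <;> simp

/-- A third component equal to zero splits off. -/
def cokZeroIso (u : A ⟶ B₁) (v : A ⟶ B₂) :
    cokernel (biprod.lift u (biprod.lift v (0 : A ⟶ B₃))) ≅ cokernel (biprod.lift u v) ⊞ B₃ where
  hom := cokernel.desc _ (biprod.lift (biprod.lift biprod.fst (biprod.snd ≫ biprod.fst) ≫ cokernel.π _)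
      (biprod.snd ≫ biprod.snd)) (by
    apply biprod.hom_ext
    · simp only [Category.assoc, biprod.lift_fst, Limits.zero_comp]
      rw [← Category.assoc]
      refine Eq.trans (congrArg (· ≫ cokernel.π _) ?_) (cokernel.condition (biprod.lift u v))
      apply biprod.hom_ext <;> simp
    · simp)
  inv := biprod.desc (cokernel.desc _ (biprod.desc (biprod.inl ≫ cokernel.π _) (biprod.inl ≫ biprod.inr ≫ cokernel.π _))
      (by
        refine Eq.trans ?_ (cokernel.condition (biprod.lift u (biprod.lift v (0 : A ⟶ B₃))))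
        simp only [biprod.lift_eq, Preadditive.add_comp, Category.assoc, Limits.zero_comp, add_zero, biprod.inl_desc, biprod.inr_desc]))
    (biprod.inr ≫ biprod.inr ≫ cokernel.π _)
  hom_inv_id := by
    refine (cancel_epi (cokernel.π _)).1 ?_
    apply biprod.hom_ext'
    · simp [biprod.lift_desc, reassoc_of% (inl_pr (B₁ := B₁) (B₂ := B₂) (B₃ := B₃))]
    · apply biprod.hom_ext' <;> simp [biprod.lift_desc, reassoc_of% (inl_inr_pr (B₁ := B₁) (B₂ := B₂) (B₃ := B₃)), reassoc_of% (inr_inr_pr (B₁ := B₁) (B₂ := B₂) (B₃ := B₃))]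
  inv_hom_id := by
    apply biprod.hom_ext'
    · refine (cancel_epi (cokernel.π _)).1 ?_
      apply biprod.hom_ext' <;> apply biprod.hom_ext <;> simp [reassoc_of% (inl_pr (B₁ := B₁) (B₂ := B₂) (B₃ := B₃)), reassoc_of% (inl_inr_pr (B₁ := B₁) (B₂ := B₂) (B₃ := B₃))]
    · apply biprod.hom_ext <;> simp [reassoc_of% (inr_inr_pr (B₁ := B₁) (B₂ := B₂) (B₃ := B₃))]

/-- An invertible third component cancels. -/
def cokUnitIso (u : A ⟶ B₁) (v : A ⟶ B₂) (w : A ⟶ B₃) [IsIso w] :
    cokernel (biprod.lift u (biprod.lift v w)) ≅ B₁ ⊞ B₂ :=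
  cokernel.mapIso _ (biprod.lift w (biprod.lift u v)) (Iso.refl _)
    { hom := biprod.lift (biprod.snd ≫ biprod.snd) (biprod.lift biprod.fst (biprod.snd ≫ biprod.fst))
      inv := biprod.lift (biprod.snd ≫ biprod.fst) (biprod.lift (biprod.snd ≫ biprod.snd) biprod.fst)
      hom_inv_id := by
        apply biprod.hom_ext
        · simp
        · apply biprod.hom_ext <;> simp
      inv_hom_id := by
        apply biprod.hom_ext
        · simp
        · apply biprod.hom_ext <;> simp }
    (by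
      apply biprod.hom_ext
      · simp
      · apply biprod.hom_ext <;> simp) ≪≫
  cokerLiftIso w (biprod.lift u v)

/-- The sequence forgetting the third component. -/
theorem exists_ses (u : A ⟶ B₁) (v : A ⟶ B₂) [Mono (biprod.lift u v)] (w : A ⟶ B₃) :
    ∃ (i : B₃ ⟶ cokernel (biprod.lift u (biprod.lift v w)))
      (q : cokernel (biprod.lift u (biprod.lift v w)) ⟶ cokernel (biprod.lift u v)) (h : i ≫ q = 0),
      (ShortComplex.mk i q h).ShortExact := by
  let f := biprod.lift u (biprod.lift v w)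
  let pr : B₁ ⊞ (B₂ ⊞ B₃) ⟶ B₁ ⊞ B₂ := biprod.lift biprod.fst (biprod.snd ≫ biprod.fst)
  have hfpr : f ≫ pr = biprod.lift u v := by apply biprod.hom_ext <;> simp [f, pr]
  let i : B₃ ⟶ cokernel f := biprod.inr ≫ biprod.inr ≫ cokernel.π f
  let q : cokernel f ⟶ cokernel (biprod.lift u v) :=
    cokernel.desc f (pr ≫ cokernel.π _) (by rw [← Category.assoc, hfpr, cokernel.condition])
  have h3 : (biprod.inr : B₃ ⟶ B₂ ⊞ B₃) ≫ biprod.inr ≫ pr = 0 := by apply biprod.hom_ext <;> simp [pr]
  have h : i ≫ q = 0 := by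
    simp only [i, q, Category.assoc, cokernel.π_desc, reassoc_of% h3, Limits.zero_comp]
  refine ⟨i, q, h, ?_⟩
  haveI : Mono f := mono_of_mono_fac hfpr
  haveI : Mono i := Preadditive.mono_of_cancel_zero _ fun {P} z hz => by
    have hz' : (z ≫ biprod.inr ≫ biprod.inr) ≫ cokernel.π f = 0 := by simpa [i] using hz
    let w' := (Abelian.monoIsKernelOfCokernel _ (cokernelIsCokernel f)).lift (KernelFork.ofι _ hz')
    have hw : w' ≫ f = z ≫ biprod.inr ≫ biprod.inr :=
      Fork.IsLimit.lift_ι (Abelian.monoIsKernelOfCokernel _ (cokernelIsCokernel f))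
    have hw0 : w' = 0 := (cancel_mono (biprod.lift u v)).1 (by
      rw [← hfpr, reassoc_of% hw, h3, Limits.comp_zero]; exact Limits.zero_comp.symm)
    have h5 : z ≫ biprod.inr ≫ biprod.inr = (0 : P ⟶ B₁ ⊞ (B₂ ⊞ B₃)) :=
      hw.symm.trans ((congrArg (· ≫ f) hw0).trans Limits.zero_comp)
    simpa using congrArg (· ≫ biprod.snd ≫ biprod.snd) h5
  haveI : Epi pr := epi_of_epi_fac
    (show biprod.map (𝟙 B₁) biprod.inl ≫ pr = 𝟙 (B₁ ⊞ B₂) by apply biprod.hom_ext <;> simp [pr])
  haveI : Epi q := by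
    haveI : Epi (cokernel.π f ≫ q) := by simp only [q, cokernel.π_desc]; exact epi_comp _ _
    exact epi_of_epi (cokernel.π f) q
  refine { exact := ShortComplex.exact_of_g_is_cokernel _ (CokernelCofork.IsColimit.ofπ _ _
    (fun {Z} a ha => cokernel.desc _ (biprod.desc (biprod.inl ≫ cokernel.π f ≫ a) (biprod.inl ≫ biprod.inr ≫ cokernel.π f ≫ a)) ?_)
    (fun {Z} a ha => ?_) (fun {Z} a ha b hb => ?_)) }
  · have h1 := congrArg (· ≫ a) (cokernel.condition f)
    simp only [f, biprod.lift_eq, Preadditive.add_comp, Category.assoc, Limits.zero_comp] at h1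
    simp only [biprod.lift_eq, Preadditive.add_comp, Category.assoc, biprod.inl_desc, biprod.inr_desc]
    simp only [i, Category.assoc] at ha
    rw [ha, Limits.comp_zero, add_zero] at h1
    exact h1
  · refine (cancel_epi (cokernel.π f)).1 ?_
    simp only [q, pr, cokernel.π_desc_assoc, Category.assoc, cokernel.π_desc]
    simp only [i, Category.assoc] at ha
    apply biprod.hom_ext'
    · simp [biprod.lift_desc]
    · apply biprod.hom_ext'
      · simp [biprod.lift_desc]
      · simp [biprod.lift_desc, ha]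
  · refine (cancel_epi q).1 (hb.trans ?_)
    refine (cancel_epi (cokernel.π f)).1 ?_
    simp only [q, pr, cokernel.π_desc_assoc, Category.assoc, cokernel.π_desc]
    simp only [i, Category.assoc] at ha
    apply biprod.hom_ext'
    · simp [biprod.lift_desc]
    · apply biprod.hom_ext'
      · simp [biprod.lift_desc]
      · simp [biprod.lift_desc, ha]

end Abstract

variable {n : ℕ} {T : Scheme.{u}}

theorem cMul_bij (l : Fin (n + 1)) (d e : ℤ) (h : e = d + 1) {V : (KRR.PY n T).Opens}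
    (hV : V ≤ cOpen n T l) : Function.Bijective ((cMul n T l d e h).app V) := by
  let g := xVar n (ULift.{u} ℤ) l
  let ψ := toZ n T
  have hd := Amp73.isFrame_pullS ψ (Var76.Reg.isInvertible_twist (n := n) (A := ULift.{u} ℤ) d)
    (isFrame_unit (𝒜 := CohB1.polyGrading n (ULift.{u} ℤ)) (gUnit g d))
  have he := Amp73.isFrame_pullS ψ (Var76.Reg.isInvertible_twist (n := n) (A := ULift.{u} ℤ) e)
    (isFrame_unit (𝒜 := CohB1.polyGrading n (ULift.{u} ℤ)) (gUnit g e))
  have hmap : (cMul n T l d e h).app (cOpen n T l)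
      (Amp73.pullS ψ (Twist.twistProjSpace n (ULift.{u} ℤ) d) (Var76.Reg.xOpen n (ULift.{u} ℤ) l) (gUnit g d).fwd) =
      Amp73.pullS ψ (Twist.twistProjSpace n (ULift.{u} ℤ) e) (Var76.Reg.xOpen n (ULift.{u} ℤ) l) (gUnit g e).fwd := by
    have hn := (Scheme.Modules.pullbackPushforwardAdjunction ψ).unit.naturality
      (mulX (𝒜 := CohB1.polyGrading n (ULift.{u} ℤ)) g h)
    refine (ConcreteCategory.congr_hom
      (congrArg (fun a => Scheme.Modules.Hom.app a (Var76.Reg.xOpen n (ULift.{u} ℤ) l)) hn) (gUnit g d).fwd).symm.trans ?_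
    exact congrArg (fun t => Amp73.pullS ψ (Twist.twistProjSpace n (ULift.{u} ℤ) e) (Var76.Reg.xOpen n (ULift.{u} ℤ) l) t)
      (mulX_gUnit g h)
  have key : ∀ c : Γ(KRR.PY n T, V), (cMul n T l d e h).app V (c • Var76.LineBundle.res (Twist.twistOver n T d) hV
        (Amp73.pullS ψ (Twist.twistProjSpace n (ULift.{u} ℤ) d) (Var76.Reg.xOpen n (ULift.{u} ℤ) l) (gUnit g d).fwd)) =
      c • Var76.LineBundle.res (Twist.twistOver n T e) hV
        (Amp73.pullS ψ (Twist.twistProjSpace n (ULift.{u} ℤ) e) (Var76.Reg.xOpen n (ULift.{u} ℤ) l) (gUnit g e).fwd) :=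
    fun c => by
    rw [Scheme.Modules.Hom.app_smul]
    refine congrArg (c • ·) ?_
    refine (ConcreteCategory.congr_hom ((cMul n T l d e h).mapPresheaf.naturality (homOfLE hV).op) _).trans ?_
    exact congrArg (Var76.LineBundle.res (Twist.twistOver n T e) hV) hmap
  constructor
  · intro a b hab
    obtain ⟨c, rfl⟩ := (hd V hV).2 a
    obtain ⟨c', rfl⟩ := (hd V hV).2 b
    rw [(he V hV).1 ((key c).symm.trans (hab.trans (key c')))]
  · intro z
    obtain ⟨c, rfl⟩ := (he V hV).2 z
    exact ⟨_, key c⟩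

theorem isIso_restrict_of_bijective {Y : Scheme.{u}} {M N : Y.Modules} (φ : M ⟶ N) (U : Y.Opens)
    (h : ∀ V ≤ U, Function.Bijective (φ.app V)) : IsIso ((Scheme.Modules.restrictFunctor U.ι).map φ) := by
  refine Scheme.Modules.Hom.isIso_iff_isIso_app.2 fun V => ?_
  refine (ConcreteCategory.isIso_iff_bijective _).2 ?_
  exact h (U.ι ''ᵁ V) (by rintro _ ⟨y, -, rfl⟩; exact y.2)

instance isIso_restrict_cMul (l : Fin (n + 1)) (d e : ℤ) (h : e = d + 1) :
    IsIso ((Scheme.Modules.restrictFunctor (cOpen n T l).ι).map (cMul n T l d e h)) :=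
  isIso_restrict_of_bijective _ _ fun _ hV => cMul_bij l d e h hV

variable (n T)

/-- Powers of a coordinate. -/
def cPow (l : Fin (n + 1)) : (p : ℕ) → (d e : ℤ) → e = d + p → (Twist.twistOver n T d ⟶ Twist.twistOver n T e)
  | 0, d, e, h => eqToHom (by rw [h, Nat.cast_zero, add_zero])
  | p + 1, d, e, h => cMul n T l d (d + 1) rfl ≫ cPow l p (d + 1) e (by rw [h]; push_cast; ring)

theorem isIso_restrict_cPow (l : Fin (n + 1)) : ∀ (p : ℕ) (d e : ℤ) (h : e = d + p),
    IsIso ((Scheme.Modules.restrictFunctor (cOpen n T l).ι).map (cPow n T l p d e h))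
  | 0, d, e, h => by unfold cPow; infer_instance
  | p + 1, d, e, h => by
    have := isIso_restrict_cPow l p (d + 1) e (by rw [h]; push_cast; ring)
    unfold cPow
    rw [Functor.map_comp]
    infer_instance

theorem cPow_comm (l m : Fin (n + 1)) : ∀ (p : ℕ) (d e d' e' : ℤ) (h : e = d + p) (h' : e' = d' + p)
    (h₁ : d' = d + 1) (h₂ : e' = e + 1),
    cMul n T m d d' h₁ ≫ cPow n T l p d' e' h' = cPow n T l p d e h ≫ cMul n T m e e' h₂
  | 0, d, e, d', e', h, h', h₁, h₂ => by
    obtain rfl : e = d := by rw [h, Nat.cast_zero, add_zero]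
    obtain rfl : e' = d' := by rw [h', Nat.cast_zero, add_zero]
    simp [cPow]
  | p + 1, d, e, d', e', h, h', h₁, h₂ => by
    subst h₁
    rw [cPow, cPow, ← Category.assoc, cMul_comm n T m l d (d + 1) (d + 1 + 1) rfl rfl, Category.assoc,
      cPow_comm l m p (d + 1) e (d + 1 + 1) e' (by rw [h]; push_cast; ring) (by rw [h']; push_cast; ring) rfl h₂,
      Category.assoc]

theorem pullback_smulModΓ {X' Y : Scheme.{u}} (h : X' ⟶ Y) (M : Y.Modules) (r : Coh.Γtop Y) :
    (Scheme.Modules.pullback h).map (Formal.smulModΓ M r) =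
      Formal.smulModΓ ((Scheme.Modules.pullback h).obj M) (h.app ⊤ r) := by
  exact Univ70.pullback_map_smulΓ h M r

theorem isIso_of_cover {T : Scheme.{u}} {M N : (KRR.PY 1 T).Modules} (φ : M ⟶ N)
    (h₀ : IsIso ((Scheme.Modules.restrictFunctor (cOpen 1 T 0).ι).map φ))
    (h₁ : IsIso ((Scheme.Modules.restrictFunctor (cOpen 1 T 1).ι).map φ)) : IsIso φ := by
  refine Clopen.isIso_of_restrict_cover φ fun x => ?_
  obtain ⟨l, hl⟩ := exists_mem_cOpen 1 T x
  refine ⟨_, (cOpen 1 T l).ι, inferInstance, by rw [Scheme.Opens.range_ι]; exact hl, ?_⟩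
  fin_cases l
  · exact h₀
  · exact h₁

set_option maxHeartbeats 1000000 in
theorem mono_of_cover {T : Scheme.{u}} (p : ℕ) (a b c : ℤ) (h₁ : b = a + p) (h₂ : c = a + 1) :
    Mono (biprod.lift (cPow 1 T 0 p a b h₁) (cMul 1 T 1 a c h₂)) := by
  refine mono_of_injective_stalkMapM _ fun x => ?_
  obtain ⟨l, hl⟩ := exists_mem_cOpen 1 T x
  set φ := biprod.lift (cPow 1 T 0 p a b h₁) (cMul 1 T 1 a c h₂)
  have key : ∀ {N : (KRR.PY 1 T).Modules} (π : Twist.twistOver 1 T b ⊞ Twist.twistOver 1 T c ⟶ N),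
      IsIso ((Scheme.Modules.restrictFunctor (cOpen 1 T l).ι).map (φ ≫ π)) →
        Function.Injective (stalkMapM φ x) := fun {N} π hπ a a' e => by
    have hb : Function.Bijective (stalkMapM (φ ≫ π) x) := by
      obtain ⟨y, rfl⟩ : x ∈ Set.range (cOpen 1 T l).ι := by rw [Scheme.Opens.range_ι]; exact hl
      have h1 : IsIso ((Scheme.Modules.restrictFunctor (cOpen 1 T l).ι ⋙ Scheme.Modules.toPresheaf _ ⋙
          TopCat.Presheaf.stalkFunctor _ y).map (φ ≫ π)) := by rw [Functor.comp_map]; infer_instance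
      rw [NatIso.isIso_map_iff (Scheme.Modules.restrictStalkNatIso (cOpen 1 T l).ι y)] at h1
      exact ConcreteCategory.bijective_of_isIso ((Scheme.Modules.toPresheaf (KRR.PY 1 T) ⋙
          TopCat.Presheaf.stalkFunctor _ ((cOpen 1 T l).ι y)).map (φ ≫ π))
    refine hb.1 ?_
    rw [stalkMapM_comp, stalkMapM_comp, e]
  fin_cases l
  · exact key biprod.fst (by simp only [φ, biprod.lift_fst]; exact isIso_restrict_cPow 1 T 0 p a b h₁)
  · exact key biprod.snd (by simp only [φ, biprod.lift_snd]; exact isIso_restrict_cMul 1 a c h₂)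

set_option maxHeartbeats 1000000 in
/-- The cokernel of the pair of coordinates is a twist. -/
theorem nonempty_coker_pair {T : Scheme.{u}} (p : ℕ) (a b c e : ℤ) (h₁ : b = a + p) (h₂ : c = a + 1)
    (h₃ : e = b + 1) :
    Nonempty (cokernel (biprod.lift (cPow 1 T 0 p a b h₁) (cMul 1 T 1 a c h₂)) ≅ Twist.twistOver 1 T e) := by
  have h₄ : e = c + p := by omega
  let ψ := biprod.desc (cMul 1 T 1 b e h₃) (-(cPow 1 T 0 p c e h₄))
  have hz : biprod.lift (cPow 1 T 0 p a b h₁) (cMul 1 T 1 a c h₂) ≫ ψ = 0 := by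
    simp only [ψ, biprod.lift_desc, Preadditive.comp_neg, cPow_comm 1 T 0 1 p a b c e h₁ h₄ h₂ h₃, add_neg_cancel]
  suffices IsIso (cokernel.desc _ ψ hz) from ⟨asIso (cokernel.desc _ ψ hz)⟩
  haveI := isIso_restrict_cPow 1 T 0
  refine isIso_of_cover _ ?_ ?_
  · haveI : IsIso ((Scheme.Modules.restrictFunctor (cOpen 1 T 0).ι).map (cPow 1 T 0 p a b h₁)) :=
      isIso_restrict_cPow 1 T 0 p a b h₁
    haveI := isIso_map_inr_π (Scheme.Modules.restrictFunctor (cOpen 1 T 0).ι) (cPow 1 T 0 p a b h₁) (cMul 1 T 1 a c h₂)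
    haveI : IsIso ((Scheme.Modules.restrictFunctor (cOpen 1 T 0).ι).map
        ((biprod.inr ≫ cokernel.π (biprod.lift (cPow 1 T 0 p a b h₁) (cMul 1 T 1 a c h₂))) ≫ cokernel.desc _ ψ hz)) := by
      simp only [Category.assoc, cokernel.π_desc, ψ, biprod.inr_desc, Functor.map_neg]
      haveI := isIso_restrict_cPow 1 T 0 p c e h₄
      exact ⟨⟨-inv ((Scheme.Modules.restrictFunctor (cOpen 1 T 0).ι).map (cPow 1 T 0 p c e h₄)), by simp, by simp⟩⟩
    rw [Functor.map_comp] at this
    exact IsIso.of_isIso_comp_left ((Scheme.Modules.restrictFunctor (cOpen 1 T 0).ι).map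
      (biprod.inr ≫ cokernel.π (biprod.lift (cPow 1 T 0 p a b h₁) (cMul 1 T 1 a c h₂)))) _
  · haveI := isIso_map_inl_π (Scheme.Modules.restrictFunctor (cOpen 1 T 1).ι) (cPow 1 T 0 p a b h₁) (cMul 1 T 1 a c h₂)
    haveI : IsIso ((Scheme.Modules.restrictFunctor (cOpen 1 T 1).ι).map
        ((biprod.inl ≫ cokernel.π (biprod.lift (cPow 1 T 0 p a b h₁) (cMul 1 T 1 a c h₂))) ≫ cokernel.desc _ ψ hz)) := by
      simp only [Category.assoc, cokernel.π_desc, ψ, biprod.inl_desc]
      infer_instance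
    rw [Functor.map_comp] at this
    exact IsIso.of_isIso_comp_left ((Scheme.Modules.restrictFunctor (cOpen 1 T 1).ι).map
      (biprod.inl ≫ cokernel.π (biprod.lift (cPow 1 T 0 p a b h₁) (cMul 1 T 1 a c h₂)))) _

theorem smulModΓ_zero' {Y : Scheme.{u}} (M : Y.Modules) : Formal.smulModΓ M 0 = 0 := by
  refine Scheme.Modules.hom_ext _ _ fun W => ?_
  ext (x : Γ(M, W))
  show @HSMul.hSMul (Y.ringCatSheaf.obj.obj (.op W)) (M.val.obj (.op W)) (M.val.obj (.op W)) _
    (Coh.resTop Y (.op W) 0) x = 0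
  rw [map_zero, zero_smul]

theorem isIso_smulModΓ' {Y : Scheme.{u}} (M : Y.Modules) {r : Coh.Γtop Y} (hr : IsUnit r) :
    IsIso (Formal.smulModΓ M r) := by
  refine Scheme.Modules.Hom.isIso_iff_isIso_app.2 fun W => ?_
  refine (ConcreteCategory.isIso_iff_bijective _).2 ?_
  obtain ⟨q, hq⟩ := hr.map (Coh.resTop Y (.op W))
  show Function.Bijective fun x : M.val.obj (.op W) =>
    @HSMul.hSMul (Y.ringCatSheaf.obj.obj (.op W)) (M.val.obj (.op W)) (M.val.obj (.op W)) _ (Coh.resTop Y (.op W) r) x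
  rw [← hq]
  exact MulAction.bijective (α := Units _) q

/-- Twisting sheaves pull back to twisting sheaves. -/
def pullTwist {T T' : Scheme.{u}} (ι : KRR.PY 1 T' ⟶ KRR.PY 1 T) (h : ι ≫ toZ 1 T = toZ 1 T') (d : ℤ) :
    (Scheme.Modules.pullback ι).obj (Twist.twistOver 1 T d) ≅ Twist.twistOver 1 T' d :=
  (Scheme.Modules.pullbackComp ι (toZ 1 T)).app _ ≪≫ (Scheme.Modules.pullbackCongr h).app _

set_option maxHeartbeats 2000000 in
/-- The jumping family. -/
theorem exists_family (k : Type u) [Field k] (i : ℕ) :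
    ∃ F : (CohB1.ProjSpaceOver 1 (Spec (CommRingCat.of k[X]))).Modules,
      FlatMod.IsFinLocFreeOfRank 2 F ∧
      (∀ a : k,
        letI ι : CohB1.ProjSpaceOver 1 (Spec (CommRingCat.of k)) ⟶ CohB1.ProjSpaceOver 1 (Spec (CommRingCat.of k[X])) :=
          pullback.lift (pullback.fst _ _)
            (pullback.snd _ _ ≫ Spec.map (CommRingCat.ofHom (Polynomial.evalRingHom a)))
            (specULiftZIsTerminal.hom_ext _ _)
        (a = 0 → Nonempty ((Scheme.Modules.pullback ι).obj F ≅
            Twist.twistOver 1 (Spec (CommRingCat.of k)) ((i : ℤ) + 1) ⊞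
              Twist.twistOver 1 (Spec (CommRingCat.of k)) (-((i : ℤ) + 1)))) ∧
        (a ≠ 0 → Nonempty ((Scheme.Modules.pullback ι).obj F ≅
            Twist.twistOver 1 (Spec (CommRingCat.of k)) (i : ℤ) ⊞
              Twist.twistOver 1 (Spec (CommRingCat.of k)) (-(i : ℤ))))) := by
  set T := Spec (CommRingCat.of k[X])
  let a₀ : ℤ := -((i : ℤ) + 1)
  let b : ℤ := (i : ℤ)
  let c : ℤ := -(i : ℤ)
  have h₁ : b = a₀ + ((2 * i + 1 : ℕ) : ℤ) := by simp only [b, a₀]; push_cast; ring
  have h₂ : c = a₀ + 1 := by simp only [c, a₀]; ring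
  let P := KRR.PY 1 T
  let τ : Coh.Γtop P := (CohB1.ProjSpaceOver.toBase 1 T).app ⊤
    ((Scheme.ΓSpecIso (CommRingCat.of k[X])).inv Polynomial.X)
  let u := cPow 1 T 0 (2 * i + 1) a₀ b h₁
  let v := cMul 1 T 1 a₀ c h₂
  let w := Formal.smulModΓ (Twist.twistOver 1 T a₀) τ
  let F := cokernel (biprod.lift u (biprod.lift v w))
  obtain ⟨eG⟩ := nonempty_coker_pair (T := T) (2 * i + 1) a₀ b c ((i : ℤ) + 1) h₁ h₂ rfl
  haveI : Mono (biprod.lift u v) := mono_of_cover (T := T) _ _ _ _ h₁ h₂
  refine ⟨F, ?_, fun a => ?_⟩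
  · obtain ⟨j, q, hjq, hS⟩ := exists_ses u v w
    exact (Dev.HasFilt.step j q hjq hS
      (EGA73.isInvertible_of_iso eG.symm (KRR40.isInvertible_twistOver 1 T _))
      (FiltChain.hasFilt_single (KRR40.isInvertible_twistOver 1 T a₀))).isFinLocFreeOfRank
  · let ι : CohB1.ProjSpaceOver 1 (Spec (CommRingCat.of k)) ⟶ CohB1.ProjSpaceOver 1 T :=
      pullback.lift (pullback.fst _ _)
        (pullback.snd _ _ ≫ Spec.map (CommRingCat.ofHom (Polynomial.evalRingHom a)))
        (specULiftZIsTerminal.hom_ext _ _)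
    show (a = 0 → Nonempty ((Scheme.Modules.pullback ι).obj F ≅ _)) ∧ (a ≠ 0 → Nonempty ((Scheme.Modules.pullback ι).obj F ≅ _))
    let K := Spec (CommRingCat.of k)
    let G := Scheme.Modules.pullback ι
    haveI : G.Additive := inferInstance
    haveI : PreservesBinaryBiproducts G := preservesBinaryBiproducts_of_preservesBiproducts G
    have hι : ι ≫ toZ 1 T = toZ 1 K := pullback.lift_fst _ _ _
    let r : Coh.Γtop (KRR.PY 1 K) := ι.app ⊤ τ
    let r₀ : Coh.Γtop (KRR.PY 1 K) := (CohB1.ProjSpaceOver.toBase 1 K).app ⊤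
      ((Scheme.ΓSpecIso (CommRingCat.of k)).inv a)
    have hr : r = r₀ := by
      have e1 : ι ≫ CohB1.ProjSpaceOver.toBase 1 T = CohB1.ProjSpaceOver.toBase 1 K ≫
          Spec.map (CommRingCat.ofHom (Polynomial.evalRingHom a)) := pullback.lift_snd _ _ _
      have e2 := congrArg (fun h => Scheme.Hom.appTop h) e1
      simp only [Scheme.Hom.comp_appTop] at e2
      refine (ConcreteCategory.congr_hom e2 ((Scheme.ΓSpecIso (CommRingCat.of k[X])).inv Polynomial.X)).trans
        (congrArg ((CohB1.ProjSpaceOver.toBase 1 K).app ⊤) ?_)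
      refine (ConcreteCategory.congr_hom (Scheme.ΓSpecIso_inv_naturality
        (CommRingCat.ofHom (Polynomial.evalRingHom a))) Polynomial.X).symm.trans ?_
      exact congrArg (Scheme.ΓSpecIso (CommRingCat.of k)).inv (Polynomial.eval_X (x := a))
    have hw : G.map w = Formal.smulModΓ _ r₀ := by
      rw [← hr]; exact pullback_smulModΓ ι _ τ
    let e₀ : G.obj F ≅ cokernel (biprod.lift (G.map u) (biprod.lift (G.map v) (G.map w))) :=
      mapCoker3Iso G u v w
    constructor
    · intro ha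
      have hw0 : G.map w = 0 := by
        rw [hw, show r₀ = 0 by simp only [r₀, ha, map_zero]; rfl]
        exact smulModΓ_zero' _
      refine ⟨e₀ ≪≫ cokernel.mapIso _ (biprod.lift (G.map u) (biprod.lift (G.map v) 0)) (Iso.refl _) (Iso.refl _)
        (by simp [hw0]) ≪≫ cokZeroIso _ _ ≪≫ biprod.mapIso ((mapCokerLiftIso G u v).symm ≪≫
          G.mapIso eG ≪≫ pullTwist ι hι _) (pullTwist ι hι _)⟩
    · intro ha
      haveI : IsIso (G.map w) := by
        rw [hw]
        exact isIso_smulModΓ' _ (((isUnit_iff_ne_zero.2 ha).map _).map _)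
      exact ⟨e₀ ≪≫ cokUnitIso _ _ _ ≪≫ biprod.mapIso (pullTwist ι hι _) (pullTwist ι hι _)⟩

end Groth.Agent.VB30.Jump
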