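import Groth.Agent.VB30.ClopenSS

/-! Semistability of dimension one, component by component. -/

set_option autoImplicit false
set_option linter.style.haveILetI false
set_option linter.unusedSectionVars false
set_option backward.isDefEq.respectTransparency.types false

noncomputable section

universe u

open CategoryTheory CategoryTheory.Limits AlgebraicGeometry TopologicalSpace

namespace Groth.Agent.VB30.Clopen

variable {k : Type u} [Field k] {X : Scheme.{u}} [X.Over (Spec (CommRingCat.of k))]
  [IsProper (X ↘ Spec (CommRingCat.of k))] (hdim : topologicalKrullDim X ≤ 1) {L : X.Modules}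
  (hL : CohB1.IsAmple L)

/-- The complement of a clopen set. -/
abbrev compl' (U : X.Opens) (hU : IsClopen (U : Set X)) : X.Opens := ⟨(U : Set X)ᶜ, hU.1.isOpen_compl⟩

theorem inf_compl' (U : X.Opens) (hU : IsClopen (U : Set X)) : U ⊓ compl' U hU = ⊥ := by
  ext x
  exact ⟨fun h => h.2 h.1, fun h => h.elim⟩

theorem sup_compl' (U : X.Opens) (hU : IsClopen (U : Set X)) : U ⊔ compl' U hU = ⊤ := by
  ext x
  exact ⟨fun _ => trivial, fun _ => em (x ∈ U)⟩

theorem inl_mono {U V : X.Opens} (h : U ⊓ V = ⊥) (hc : U ⊔ V = ⊤) (M : X.Modules) :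
    Mono (biprod.inl ≫ (sumIso h hc M).inv : (PU U).obj M ⟶ M) := inferInstance

theorem inr_mono {U V : X.Opens} (h : U ⊓ V = ⊥) (hc : U ⊔ V = ⊤) (M : X.Modules) :
    Mono (biprod.inr ≫ (sumIso h hc M).inv : (PU V).obj M ⟶ M) := inferInstance

include hdim hL in
/-- The slopes of the parts of a semistable module. -/
theorem parts_eq {E : X.Modules} (hs : ShStab.IsSemistable k X L E 1) (U : X.Opens)
    (hU : IsClopen (U : Set X)) :
    chi k ((PU U).obj E) * al k L E = chi k E * al k L ((PU U).obj E) := by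
  have h := inf_compl' U hU
  have hc := sup_compl' U hU
  obtain ⟨h1, h2⟩ := sum_chi_al (k := k) hdim hL h hc hs.1
  have i1 := ss_ineq hdim hL hs (biprod.inl ≫ (sumIso h hc E).inv) (isCoh_PU' k hU.1 hs.1)
  have i2 := ss_ineq hdim hL hs (biprod.inr ≫ (sumIso h hc E).inv)
    (isCoh_PU' k (U.2.isClosed_compl) hs.1)
  rw [h1, h2] at i1 i2 ⊢
  linarith

include hdim hL in
/-- The parts of a semistable module are semistable. -/
theorem parts_ss {E : X.Modules} (hs : ShStab.IsSemistable k X L E 1) (U : X.Opens)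
    (hU : IsClopen (U : Set X)) (h0 : ¬ IsZero ((PU U).obj E)) :
    ShStab.IsSemistable k X L ((PU U).obj E) 1 := by
  have h := inf_compl' U hU
  have hc := sup_compl' U hU
  refine ss_of_ineq hdim hL (isCoh_PU' k hU.1 hs.1) h0
    (fun F ι hι hF hF0 => hs.2.2.1 F (ι ≫ biprod.inl ≫ (sumIso h hc E).inv) inferInstance hF hF0)
    fun F ι hι hF hF0 => ?_
  have i1 := ss_ineq hdim hL hs (ι ≫ biprod.inl ≫ (sumIso h hc E).inv) hF
  have e := parts_eq hdim hL hs U hU
  have hp : 0 < al k L E := al_pos hdim hL hs.2.2.1 (𝟙 E) hs.1 hs.2.1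
  have hUp : 0 ≤ al k L ((PU U).obj E) := (al_pos hdim hL hs.2.2.1
    (biprod.inl ≫ (sumIso h hc E).inv) (isCoh_PU' k hU.1 hs.1) h0).le
  refine le_of_mul_le_mul_left ?_ hp
  calc al k L E * (al k L ((PU U).obj E) * chi k F)
      = al k L ((PU U).obj E) * (al k L E * chi k F) := by ring
    _ ≤ al k L ((PU U).obj E) * (al k L F * chi k E) := mul_le_mul_of_nonneg_left i1 hUp
    _ = al k L E * (al k L F * chi k ((PU U).obj E)) := by linear_combination (-al k L F) * e

variable [NoetherianSpace X]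

/-- A component meeting the support. -/
theorem exists_component {M : X.Modules} (hM : ¬ IsZero M) :
    ∃ U : X.Opens, IsClopen (U : Set X) ∧ _root_.IsConnected (U : Set X) ∧
      ∃ x ∈ CohB1.support M, x ∈ U := by
  obtain ⟨x, hx⟩ := Set.nonempty_iff_ne_empty.2 fun h => hM (QC70.isZero_of_support_eq_empty h)
  exact ⟨⟨connectedComponent x, (isClopen_component x).2⟩, isClopen_component x, isConnected_connectedComponent,
    x, hx, mem_connectedComponent⟩

omit [NoetherianSpace X] in
include k in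
theorem not_isZero_PU {M : X.Modules} (hM : Coh.IsCoh M) (U : X.Opens) (hU : IsClopen (U : Set X))
    {x : X} (hx : x ∈ CohB1.support M) (hxU : x ∈ U) : ¬ IsZero ((PU U).obj M) := by
  intro h0
  have h := inf_compl' U hU
  have hc := sup_compl' U hU
  have hsub := HP96.support_X₂ (S := ShortComplex.mk (biprod.inl ≫ (sumIso h hc M).inv)
    ((sumIso h hc M).hom ≫ biprod.snd) (by simp)) (shortExact_sum h hc M)
  rw [show CohB1.support M = CohB1.support ((PU U).obj M) ∪ CohB1.support ((PU (compl' U hU)).obj M)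
    from hsub, HP96.support_eq_empty_of_isZero h0, Set.empty_union] at hx
  exact support_PU_subset (U.2.isClosed_compl) hM hx hxU

include hdim hL in
/-- The criterion. -/
theorem ss_of_parts {E : X.Modules} (hE : Coh.IsCoh E) (h0 : ¬ IsZero E)
    (h : ∀ U : X.Opens, IsClopen (U : Set X) → _root_.IsConnected (U : Set X) →
      ¬ IsZero ((PU U).obj E) → ShStab.IsSemistable k X L ((PU U).obj E) 1 ∧
        chi k ((PU U).obj E) * al k L E = chi k E * al k L ((PU U).obj E)) :
    ShStab.IsSemistable k X L E 1 := by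
  have hpu : ShStab.IsPure X E 1 := by
    intro F ι hι hF hF0
    obtain ⟨U, hU, hUc, x, hx, hxU⟩ := exists_component hF0
    have hFU := not_isZero_PU (k := k) hF U hU hx hxU
    have hEU : ¬ IsZero ((PU U).obj E) := fun hz => hFU (hz.of_mono ((PU U).map ι))
    have hd := (h U hU hUc hEU).1.2.2.1 _ ((PU U).map ι) inferInstance (isCoh_PU' k hU.1 hF) hFU
    refine le_antisymm (dim_supp_le hdim F) (hd.symm.le.trans ?_)
    exact TopDim50.dim_mono (QC70.mem_support_of_mono
      (biprod.inl ≫ (sumIso (inf_compl' U hU) (sup_compl' U hU) F).inv))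
  refine ss_of_ineq hdim hL hE h0 hpu fun F₀ ι₀ hι₀ hF₀ _ => ?_
  suffices key : ∀ (S : Closeds X) (F : X.Modules) (ι : F ⟶ E), Mono ι → Coh.IsCoh F →
      CohB1.support F ⊆ S → al k L E * chi k F ≤ al k L F * chi k E by
    exact key ⊤ F₀ ι₀ hι₀ hF₀ (Set.subset_univ _)
  intro S
  induction S using WellFoundedLT.induction with
  | _ S ih =>
  intro F ι hι hF hS
  by_cases hF0 : IsZero F
  · obtain ⟨h1, h2⟩ := chi_al_zero (k := k) hdim hL hF0
    rw [h1, h2, mul_zero, zero_mul]
  obtain ⟨U, hU, hUc, x, hx, hxU⟩ := exists_component hF0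
  have hd := inf_compl' U hU
  have hs := sup_compl' U hU
  let T : Closeds X := ⟨(S : Set X) ∩ (U : Set X)ᶜ, S.isClosed.inter U.2.isClosed_compl⟩
  have hlt : T < S := lt_of_le_not_ge (fun y hy => hy.1) fun hge => (hge (hS hx)).2 hxU
  obtain ⟨e1, e2⟩ := sum_chi_al (k := k) hdim hL hd hs hF
  have i2 := ih T hlt ((PU (compl' U hU)).obj F) (biprod.inr ≫ (sumIso hd hs F).inv ≫ ι) inferInstance
    (isCoh_PU' k U.2.isClosed_compl hF) (Set.subset_inter
      ((QC70.mem_support_of_mono (biprod.inr ≫ (sumIso hd hs F).inv)).trans hS)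
      (support_PU_subset U.2.isClosed_compl hF))
  have hFU := not_isZero_PU (k := k) hF U hU hx hxU
  have hEU : ¬ IsZero ((PU U).obj E) := fun hz => hFU (hz.of_mono ((PU U).map ι))
  obtain ⟨hss, heq⟩ := h U hU hUc hEU
  have i1 := ss_ineq hdim hL hss ((PU U).map ι) (isCoh_PU' k hU.1 hF)
  have hp : 0 < al k L ((PU U).obj E) := al_pos (k := k) hdim hL hss.2.2.1 (𝟙 _) hss.1 hss.2.1
  have hEp : 0 ≤ al k L E := by
    have := al_pos (k := k) hdim hL hpu (𝟙 E) hE h0
    exact this.le
  have i1' : al k L E * chi k ((PU U).obj F) ≤ al k L ((PU U).obj F) * chi k E := by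
    refine le_of_mul_le_mul_left ?_ hp
    calc al k L ((PU U).obj E) * (al k L E * chi k ((PU U).obj F))
        = al k L E * (al k L ((PU U).obj E) * chi k ((PU U).obj F)) := by ring
      _ ≤ al k L E * (al k L ((PU U).obj F) * chi k ((PU U).obj E)) := mul_le_mul_of_nonneg_left i1 hEp
      _ = al k L ((PU U).obj E) * (al k L ((PU U).obj F) * chi k E) := by
        linear_combination (al k L ((PU U).obj F)) * heq
  rw [e1, e2]
  linarith

end Groth.Agent.VB30.Clopen
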