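import Groth.Agent.VB30.ClopenLine

/-! The tensor property forces proportional Euler characteristics. -/

set_option autoImplicit false
set_option linter.style.haveILetI false
set_option linter.unusedSectionVars false
set_option backward.isDefEq.respectTransparency.types false

noncomputable section

universe u

open CategoryTheory CategoryTheory.Limits AlgebraicGeometry TopologicalSpace

namespace Groth.Agent.VB30.Clopen

attribute [local instance] ovr

variable {k : Type u} [Field k] {X : Scheme.{u}} [X.Over (Spec (CommRingCat.of k))]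
  [IsProper (X ↘ Spec (CommRingCat.of k))] [Smooth (X ↘ Spec (CommRingCat.of k))] [NoetherianSpace X]
  (hdim : topologicalKrullDim X ≤ 1) {L : X.Modules} (hL : CohB1.IsAmple L)
  (hpure : ∀ y : X, ¬ IsOpen ({y} : Set X))

include hdim hL hpure in
set_option maxHeartbeats 1600000 in
/-- Submodules of the part of an invertible module on a component. -/
theorem line_sub {U : X.Opens} (hU : IsClopen (U : Set X)) (hUc : _root_.IsConnected (U : Set X))
    {M : X.Modules} (hM : PicF.IsInvertible M) (h0 : chi k ((PU U).obj M) = 0) {F : X.Modules}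
    (ι : F ⟶ (PU U).obj M) [Mono ι] (hF : Coh.IsCoh F) (hF0 : ¬ IsZero F) :
    al k L F = ell k L U ∧ chi k F ≤ 0 := by
  have := isIntegral_comp (k := k) hU hUc
  have := isProper_ovr (k := k) hU
  have hcur := cur_comp (k := k) hdim hpure hU hUc
  have hMU := EGA73.isInvertible_restrict hM U.ι
  obtain ⟨hMlf, hMrk⟩ := lf_of_isInvertible hMU
  have hMdg : dg k (M.restrict U.ι) = - chi k (Coh.structureModule (U : Scheme.{u})) := by
    have e := euler_push_clopen (k := k) hU (Crv77.isCoh_of_isInvertible hMU)
    rw [← deg_eq_dg_of_isInvertible hMU, Curv2.deg, ← e]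
    simp only [chi] at h0 ⊢
    rw [show Curv2.euler k X ((Scheme.Modules.pushforward U.ι).obj (M.restrict U.ι)) = 0 from h0]
    push_cast
    ring
  have hc : IsZero ((PU (compl' U hU)).obj F) := by
    refine IsZero.of_mono ((PU (compl' U hU)).map ι) ?_
    have hz : IsZero (((Scheme.Modules.pushforward U.ι).obj (M.restrict U.ι)).restrict (compl' U hU).ι) :=
      isZero_restrict_push (inf_compl' U hU) (M.restrict U.ι)
    exact Functor.map_isZero (Scheme.Modules.pushforward (compl' U hU).ι) hz
  obtain ⟨e1, e2⟩ := sum_chi_al (k := k) hdim hL (inf_compl' U hU) (sup_compl' U hU) hF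
  obtain ⟨z1, z2⟩ := chi_al_zero (k := k) hdim hL hc
  rw [z1, add_zero] at e1
  rw [z2, add_zero] at e2
  set G := F.restrict U.ι
  have hG : Coh.IsCoh G := Amp73.isCoh_restrict hF U
  let j : G ⟶ M.restrict U.ι := (Scheme.Modules.restrictFunctor U.ι).map ι ≫
    (asIso (Scheme.Modules.restrictAdjunction U.ι).counit).hom.app (M.restrict U.ι)
  have : Mono ((Scheme.Modules.restrictFunctor U.ι).map ι) := by
    have : (Scheme.Modules.restrictFunctor U.ι).IsRightAdjoint := inferInstanceAs
      (SheafOfModules.pushforward.{u} _).IsRightAdjoint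
    exact (Scheme.Modules.restrictFunctor U.ι).map_mono _
  have : Mono j := mono_comp _ _
  have hGlf := hcur.isFinLocFree_of_mono j hG hMlf
  have hGrk : rk G = 1 := by
    have := (Crv77.isCoh_of_isInvertible hMU).2
    have h1 := rk_le_of_mono j
    rw [hMrk] at h1
    refine le_antisymm h1 (Nat.one_le_iff_ne_zero.2 fun h => hF0 ?_)
    have hz : IsZero ((PU U).obj F) :=
      Functor.map_isZero (Scheme.Modules.pushforward U.ι) (hcur.isZero_of_rk_eq_zero hGlf h)
    exact IsZero.of_iso (biprod_isZero_iff _ _ |>.2 ⟨hz, hc⟩) (sumIso (inf_compl' U hU) (sup_compl' U hU) F)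
  obtain ⟨hle, -⟩ := hcur.dg_le_of_mono j hG (Crv77.isCoh_of_isInvertible hMU) (hGrk.trans hMrk.symm)
  have hG1 : FlatMod.IsFinLocFreeOfRank 1 G := hGrk ▸ isFinLocFreeOfRank_rk hGlf
  refine ⟨?_, ?_⟩
  · rw [e2, al_part (k := k) hU hUc hdim hL.1 hG1, Nat.cast_one, one_mul]
  · rw [e1, show chi k ((PU U).obj F) = _ from euler_push_clopen hU hG]
    rw [hMdg, dg, hGrk, Curv2.deg] at hle
    simp only [chi, Nat.cast_one, one_mul] at hle ⊢
    linarith

include hdim hL hpure in
/-- An invertible module with vanishing Euler characteristic on every component is semistable. -/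
theorem ss_line {M : X.Modules} (hM : PicF.IsInvertible M)
    (h0 : ∀ U : X.Opens, IsClopen (U : Set X) → _root_.IsConnected (U : Set X) → chi k ((PU U).obj M) = 0)
    (hne : ¬ IsZero M) : ShStab.IsSemistable k X L M 1 := by
  have hMc := Crv77.isCoh_of_isInvertible hM
  have hM0 : chi k M = 0 := by
    have := linear_of_parts (k := k) hdim hL 1 0 hMc fun U hU hUc => by rw [h0 U hU hUc, mul_zero, zero_mul]
    simpa using this
  refine ss_of_parts hdim hL hMc hne fun U hU hUc hUne => ⟨?_, by rw [h0 U hU hUc, hM0, zero_mul, zero_mul]⟩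
  have := isIntegral_comp (k := k) hU hUc
  have hl := (ell_pos (k := k) hdim hL hpure hU hUc).1
  have hMU := EGA73.isInvertible_restrict hM U.ι
  have key : ∀ (F : X.Modules) (ι : F ⟶ (PU U).obj M), Mono ι → Coh.IsCoh F → ¬ IsZero F →
      al k L F = ell k L U ∧ chi k F ≤ 0 := fun F ι _ hF hF0 =>
    line_sub (k := k) hdim hL hpure hU hUc hM (h0 U hU hUc) ι hF hF0
  refine ss_of_ineq hdim hL (isCoh_PU' k hU.1 hMc) hUne (fun F ι hι hF hF0 => ?_) fun F ι hι hF hF0 => ?_
  · refine (dim_supp_le hdim F).antisymm (not_lt.1 fun hlt => ?_)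
    have h1 := HP96.alpha_hp_eq_zero k hL.1 hF (d := 1) hlt
    rw [alpha_eq hdim hL hF, (key F ι hι hF hF0).1] at h1
    exact hl.ne' (by exact_mod_cast h1)
  · obtain ⟨ha, hc⟩ := key F ι hι hF hF0
    have hM1 : FlatMod.IsFinLocFreeOfRank 1 (M.restrict U.ι) := Mero90.isFinLocFreeOfRank_of_isInvertible hMU
    rw [h0 U hU hUc, mul_zero, al_part (k := k) hU hUc hdim hL.1 hM1, Nat.cast_one, one_mul]
    exact mul_nonpos_of_nonneg_of_nonpos hl.le hc

variable [IsAlgClosed k]

include hdim hL hpure in
theorem proportional (h1 : topologicalKrullDim X = 1)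
    (hP : ∀ E F : X.Modules, FlatMod.IsFinLocFree E → FlatMod.IsFinLocFree F →
      (∀ y : X, ¬ Subsingleton (E.presheaf.stalk y)) → (∀ y : X, ¬ Subsingleton (F.presheaf.stalk y)) →
      ShStab.IsSemistable k X L E 1 → ShStab.IsSemistable k X L F 1 →
      ShStab.IsSemistable k X L (CohB1.tensorMod E F) 1)
    {U : X.Opens} (hU : IsClopen (U : Set X)) (hUc : _root_.IsConnected (U : Set X)) :
    cst k U * (chi k L - chi k (Coh.structureModule X)) = chi k (Coh.structureModule X) * ell k L U := by
  have hstalk : ∀ {M : X.Modules}, PicF.IsInvertible M → ∀ y : X, ¬ Subsingleton (M.presheaf.stalk y) := by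
    intro M hM y hs
    obtain ⟨e⟩ := VarMods75.nonempty_stalk_equiv (Mero90.isFinLocFreeOfRank_of_isInvertible hM) y
    exact one_ne_zero (congr_fun (e.symm.injective (hs.elim (e.symm fun _ => 1) (e.symm 0))) 0)
  obtain ⟨M, hM, hM0⟩ := exists_line (k := k) hdim hL hpure
  have hMlf : FlatMod.IsFinLocFree M := VarMods75.isFinLocFree (Mero90.isFinLocFreeOfRank_of_isInvertible hM)
  obtain ⟨x₀, -⟩ := hUc.nonempty
  have hne : ¬ IsZero M := fun hz => by
    have := HP96.support_eq_empty_of_isZero hz
    exact (Set.eq_empty_iff_forall_notMem.1 this x₀) (hstalk hM x₀)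
  have hss := ss_line (k := k) hdim hL hpure hM hM0 hne
  have hT := hP M M hMlf hMlf (hstalk hM) (hstalk hM) hss hss
  set T := CohB1.tensorMod M M
  have hTi := EGA73.isInvertible_tensorMod hM hM
  have hTlf : FlatMod.IsFinLocFree T := VarMods75.isFinLocFree (Mero90.isFinLocFreeOfRank_of_isInvertible hTi)
  have parts : ∀ V : X.Opens, IsClopen (V : Set X) → _root_.IsConnected (V : Set X) →
      - (al k L T) * cst k V = chi k T * ell k L V := by
    intro V hV hVc
    have := isIntegral_comp (k := k) hV hVc
    have hr := Mero90.isFinLocFreeOfRank_of_isInvertible (EGA73.isInvertible_restrict hM V.ι)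
    have e := parts_eq (k := k) hdim hL hT V hV
    rw [chi_tens (k := k) hV hVc hdim hr hr, al_tens (k := k) hV hVc hdim hL.1 hr hr, hM0 V hV hVc] at e
    push_cast at e
    linear_combination e
  have hO1 := EGA73.isInvertible_structureModule (X := X)
  have halO : al k L (Coh.structureModule X) = chi k L - chi k (Coh.structureModule X) := by
    rw [al, Crv77.euler_congr (EGA73.tensUnitLeft L)]
  have glob := linear_of_parts (k := k) hdim hL (- al k L T) (chi k T)
    (Crv77.isCoh_of_isInvertible hO1) fun V hV hVc => by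
      have := isIntegral_comp (k := k) hV hVc
      rw [al_part (k := k) hV hVc hdim hL.1
        (Mero90.isFinLocFreeOfRank_of_isInvertible (EGA73.isInvertible_restrict hO1 V.ι)), Nat.cast_one, one_mul]
      exact parts V hV hVc
  rw [halO] at glob
  have hTp : al k L T ≠ 0 := (al_pos_of_full hdim hL h1 hTlf (hstalk hTi)).ne'
  refine mul_left_cancel₀ (neg_ne_zero.2 hTp) ?_
  linear_combination (chi k L - chi k (Coh.structureModule X)) * parts U hU hUc - ell k L U * glob

end Groth.Agent.VB30.Clopen
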