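import Groth.Agent.VB30.ClopenCurve

/-! Slopes of tensor products on a disconnected curve. -/

set_option autoImplicit false
set_option linter.style.haveILetI false
set_option linter.unusedSectionVars false
set_option backward.isDefEq.respectTransparency.types false

noncomputable section

universe u

open CategoryTheory CategoryTheory.Limits AlgebraicGeometry TopologicalSpace

namespace Groth.Agent.VB30.Clopen

variable {X : Scheme.{u}}

theorem isIso_PU_map_inr {U V : X.Opens} (hU : IsClopen (U : Set X)) (h : U ⊓ V = ⊥) (M : X.Modules) :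
    IsIso ((PU V).map (biprod.inr ≫ (sumIso (inf_compl' U hU) (sup_compl' U hU) M).inv)) := by
  set F := Scheme.Modules.restrictFunctor V.ι
  have h1 : IsZero (F.obj ((PU U).obj M)) := isZero_restrict_push h _
  have hp : IsIso (F.map (biprod.inr : (PU (compl' U hU)).obj M ⟶ (PU U).obj M ⊞ _)) := by
    refine ⟨F.map biprod.snd, by rw [← F.map_comp, biprod.inr_snd, F.map_id], ?_⟩
    rw [← F.map_comp, ← F.map_id]
    have := congrArg F.map (biprod.total (X := (PU U).obj M) (Y := (PU (compl' U hU)).obj M))
    rw [F.map_add, F.map_comp biprod.fst, h1.eq_of_tgt (F.map biprod.fst) 0, zero_comp, zero_add] at this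
    exact this
  show IsIso ((Scheme.Modules.pushforward V.ι).map (F.map _))
  rw [F.map_comp]
  infer_instance

variable {k : Type u} [Field k] [X.Over (Spec (CommRingCat.of k))]
  [IsProper (X ↘ Spec (CommRingCat.of k))] (hdim : topologicalKrullDim X ≤ 1) {L : X.Modules}
  (hL : CohB1.IsAmple L) [NoetherianSpace X]

include hdim hL in
/-- A linear relation holding on every component holds on the whole. -/
theorem linear_of_parts (a b : ℤ) {M : X.Modules} (hM : Coh.IsCoh M)
    (h : ∀ U : X.Opens, IsClopen (U : Set X) → _root_.IsConnected (U : Set X) →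
      a * chi k ((PU U).obj M) = b * al k L ((PU U).obj M)) :
    a * chi k M = b * al k L M := by
  suffices key : ∀ (S : Closeds X) (M : X.Modules), Coh.IsCoh M → CohB1.support M ⊆ S →
      (∀ U : X.Opens, IsClopen (U : Set X) → _root_.IsConnected (U : Set X) →
        a * chi k ((PU U).obj M) = b * al k L ((PU U).obj M)) → a * chi k M = b * al k L M by
    exact key ⊤ M hM (Set.subset_univ _) h
  intro S
  induction S using WellFoundedLT.induction with
  | _ S ih =>
  intro M hM hS h
  by_cases hM0 : IsZero M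
  · obtain ⟨h1, h2⟩ := chi_al_zero (k := k) hdim hL hM0
    rw [h1, h2, mul_zero, mul_zero]
  obtain ⟨U, hU, hUc, x, hx, hxU⟩ := exists_component hM0
  have hd := inf_compl' U hU
  have hs := sup_compl' U hU
  let T : Closeds X := ⟨(S : Set X) ∩ (U : Set X)ᶜ, S.isClosed.inter U.2.isClosed_compl⟩
  have hlt : T < S := lt_of_le_not_ge (fun y hy => hy.1) fun hge => (hge (hS hx)).2 hxU
  obtain ⟨e1, e2⟩ := sum_chi_al (k := k) hdim hL hd hs hM
  have hMc : Coh.IsCoh ((PU (compl' U hU)).obj M) := isCoh_PU' k U.2.isClosed_compl hM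
  have i2 := ih T hlt ((PU (compl' U hU)).obj M) hMc (Set.subset_inter
      ((QC70.mem_support_of_mono (biprod.inr ≫ (sumIso hd hs M).inv)).trans hS)
      (support_PU_subset (U := compl' U hU) U.2.isClosed_compl hM)) fun V hV hVc => by
    by_cases hdj : U ⊓ V = ⊥
    · have := isIso_PU_map_inr hU hdj M
      let e := asIso ((PU V).map (biprod.inr ≫ (sumIso hd hs M).inv))
      have hVM := h V hV hVc
      rw [chi, al, Crv77.euler_congr e, Crv77.euler_congr (EGA73.tensIso e (Iso.refl L))]
      exact hVM
    · have hne : ((U : Set X) ∩ V).Nonempty := by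
        by_contra hc
        exact hdj (SetLike.coe_injective (Set.not_nonempty_iff_eq_empty.1 hc))
      have hsub : (V : Set X) ⊆ U := hVc.isPreconnected.subset_isClopen hU (by rwa [Set.inter_comm])
      have hz : IsZero ((PU V).obj ((PU (compl' U hU)).obj M)) := by
        refine Functor.map_isZero (Scheme.Modules.pushforward V.ι) (isZero_restrict_push ?_ _)
        ext y
        exact ⟨fun hy => hy.1 (hsub hy.2), fun hy => hy.elim⟩
      obtain ⟨h1, h2⟩ := chi_al_zero (k := k) hdim hL hz
      rw [h1, h2, mul_zero, mul_zero]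
  have i1 := h U hU hUc
  rw [e1, e2]
  linarith

variable [Smooth (X ↘ Spec (CommRingCat.of k))]

omit [NoetherianSpace X] in
include k in
theorem exists_rank {E : X.Modules} (hE : FlatMod.IsFinLocFree E) (U : X.Opens) (hU : IsClopen (U : Set X))
    (hUc : _root_.IsConnected (U : Set X)) : ∃ n : ℕ, FlatMod.IsFinLocFreeOfRank n (E.restrict U.ι) :=
  have := isIntegral_comp (k := k) hU hUc
  ⟨_, isFinLocFreeOfRank_rk (lf_restrict U hE)⟩

omit [NoetherianSpace X] in
include k in
theorem not_isZero_part {E : X.Modules} (hE : FlatMod.IsFinLocFree E)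
    (hE0 : ∀ y : X, ¬ Subsingleton (E.presheaf.stalk y)) (U : X.Opens) (hU : IsClopen (U : Set X))
    (hne : (U : Set X).Nonempty) : ¬ IsZero ((PU U).obj E) := by
  obtain ⟨x, hx⟩ := hne
  exact not_isZero_PU (k := k) (isCoh_of_isFinLocFree hE) U hU (hE0 x) hx

include hdim hL in
/-- On every component of a semistable locally free module. -/
theorem ss_component {E : X.Modules} (hE : FlatMod.IsFinLocFree E)
    (hE0 : ∀ y : X, ¬ Subsingleton (E.presheaf.stalk y)) (hs : ShStab.IsSemistable k X L E 1)
    (U : X.Opens) (hU : IsClopen (U : Set X)) (hUc : _root_.IsConnected (U : Set X)) :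
    ∃ n : ℕ, 0 < n ∧ 0 < ell k L U ∧ FlatMod.IsFinLocFreeOfRank n (E.restrict U.ι) ∧
      al k L E * chi k ((PU U).obj E) = chi k E * ((n : ℤ) * ell k L U) := by
  obtain ⟨n, hn⟩ := exists_rank (k := k) hE U hU hUc
  have h0 := not_isZero_part (k := k) hE hE0 U hU hUc.nonempty
  have hss := parts_ss hdim hL hs U hU h0
  have hp := al_pos (k := k) hdim hL hss.2.2.1 (𝟙 _) hss.1 h0
  have hal := al_part (k := k) hU hUc hdim hL.1 hn
  rw [hal] at hp
  have hn0 : 0 < n := Nat.pos_of_ne_zero fun h => by simp [h] at hp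
  refine ⟨n, hn0, (pos_iff_pos_of_mul_pos hp).1 (by exact_mod_cast hn0), hn, ?_⟩
  rw [← hal, mul_comm, parts_eq hdim hL hs U hU, mul_comm]

include hdim hL in
theorem al_pos_of_full (h1 : topologicalKrullDim X = 1) {M : X.Modules} (hM : FlatMod.IsFinLocFree M)
    (h0 : ∀ y : X, ¬ Subsingleton (M.presheaf.stalk y)) : 0 < al k L M := by
  have hc := isCoh_of_isFinLocFree hM
  have hsupp : CohB1.support M = Set.univ := Set.eq_univ_of_forall fun y => h0 y
  have hd : topologicalKrullDim (CohB1.support M) = ((1 : ℕ) : WithBot ℕ∞) := by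
    rw [hsupp, IsHomeomorph.topologicalKrullDim_eq _ (Homeomorph.Set.univ X).isHomeomorph]
    exact_mod_cast h1
  have := (HP96.alpha_pos_iff k hL hc (dim_supp_le hdim M)).2 hd
  rw [alpha_eq hdim hL hc] at this
  exact_mod_cast this

include hdim hL in
/-- The slope of a tensor product. -/
theorem slope_tensor (h1 : topologicalKrullDim X = 1) {E F : X.Modules}
    (hB : ∀ U : X.Opens, IsClopen (U : Set X) → _root_.IsConnected (U : Set X) →
      cst k U * (chi k L - chi k (Coh.structureModule X)) = chi k (Coh.structureModule X) * ell k L U)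
    (hE : FlatMod.IsFinLocFree E) (hF : FlatMod.IsFinLocFree F)
    (hE0 : ∀ y : X, ¬ Subsingleton (E.presheaf.stalk y)) (hF0 : ∀ y : X, ¬ Subsingleton (F.presheaf.stalk y))
    (hEs : ShStab.IsSemistable k X L E 1) (hFs : ShStab.IsSemistable k X L F 1) :
    ((chi k (CohB1.tensorMod E F) : ℤ) : ℚ) / (al k L (CohB1.tensorMod E F) : ℚ) =
      (chi k E : ℚ) / (al k L E : ℚ) + (chi k F : ℚ) / (al k L F : ℚ) -
        (chi k (Coh.structureModule X) : ℚ) / ((chi k L - chi k (Coh.structureModule X) : ℤ) : ℚ) := by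
  set T := CohB1.tensorMod E F
  set w : ℤ := chi k L - chi k (Coh.structureModule X)
  set o : ℤ := chi k (Coh.structureModule X)
  have hTc : Coh.IsCoh T := Crv77.isCoh_tensorMod (isCoh_of_isFinLocFree hE) (isCoh_of_isFinLocFree hF)
  have hEp := al_pos_of_full (k := k) hdim hL h1 hE hE0
  have hFp := al_pos_of_full (k := k) hdim hL h1 hF hF0
  have hwp : 0 < w := by
    have hO : al k L (Coh.structureModule X) = w := by
      rw [al, Crv77.euler_congr (EGA73.tensUnitLeft L)]
    rw [← hO]
    have hO1 := Mero90.isFinLocFreeOfRank_of_isInvertible (EGA73.isInvertible_structureModule (X := X))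
    refine al_pos_of_full hdim hL h1 (VarMods75.isFinLocFree hO1) fun y hs => ?_
    obtain ⟨e⟩ := VarMods75.nonempty_stalk_equiv hO1 y
    have hh := e.symm.injective (hs.elim (e.symm fun _ => 1) (e.symm 0))
    exact one_ne_zero (congr_fun hh 0)
  have key := linear_of_parts (k := k) hdim hL (al k L E * al k L F * w)
    (chi k E * al k L F * w + chi k F * al k L E * w - o * al k L E * al k L F) hTc fun U hU hUc => by
      obtain ⟨n, -, -, hn, en⟩ := ss_component hdim hL hE hE0 hEs U hU hUc
      obtain ⟨m, -, -, hm, em⟩ := ss_component hdim hL hF hF0 hFs U hU hUc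
      have eO : cst k U * w = o * ell k L U := hB U hU hUc
      rw [chi_tens (k := k) hU hUc hdim hn hm, al_tens (k := k) hU hUc hdim hL.1 hn hm]
      linear_combination ((n : ℤ) * al k L E * w) * em + ((m : ℤ) * al k L F * w) * en -
        ((n : ℤ) * m * al k L E * al k L F) * eO
  have hTp : 0 < al k L T := by
    obtain ⟨U, hU, hUc, x, -, hxU⟩ := exists_component hEs.2.1
    obtain ⟨n, hn0, hl, hn, -⟩ := ss_component hdim hL hE hE0 hEs U hU hUc
    obtain ⟨m, hm0, -, hm, -⟩ := ss_component hdim hL hF hF0 hFs U hU hUc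
    obtain ⟨-, e⟩ := sum_chi_al (k := k) hdim hL (inf_compl' U hU) (sup_compl' U hU) hTc
    have hc := isCoh_PU' k (U := compl' U hU) U.2.isClosed_compl hTc
    have h2 := HP96.alpha_nonneg k hL hc (dim_supp_le hdim _)
    rw [alpha_eq hdim hL hc] at h2
    have h3 : (0 : ℤ) < al k L ((PU U).obj T) := by
      rw [al_tens (k := k) hU hUc hdim hL.1 hn hm]
      positivity
    have h4 : (0 : ℤ) ≤ al k L ((PU (compl' U hU)).obj T) := by exact_mod_cast h2
    linarith
  generalize al k L T = aT at *
  generalize al k L E = aE at *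
  generalize al k L F = aF at *
  generalize chi k T = cT at *
  generalize chi k E = cE at *
  generalize chi k F = cF at *
  have e1 : (aE : ℚ) ≠ 0 := by exact_mod_cast hEp.ne'
  have e2 : (aF : ℚ) ≠ 0 := by exact_mod_cast hFp.ne'
  have e3 : (aT : ℚ) ≠ 0 := by exact_mod_cast hTp.ne'
  have e4 : (w : ℚ) ≠ 0 := by exact_mod_cast hwp.ne'
  have keyq := congrArg (fun z : ℤ => (z : ℚ)) key
  push_cast at keyq
  rw [div_add_div _ _ e1 e2, div_sub_div _ _ (mul_ne_zero e1 e2) e4,
    div_eq_div_iff e3 (mul_ne_zero (mul_ne_zero e1 e2) e4)]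
  linear_combination keyq

end Groth.Agent.VB30.Clopen
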