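import Groth.Agent.VB30.Gen
import Groth.Agent.VB30.Apply
import Groth.Agent.Crv77.PointDeg

/-! Bundles whose line quotients have large degree. -/

set_option autoImplicit false
set_option linter.style.haveILetI false
set_option linter.unusedSectionVars false
set_option backward.isDefEq.respectTransparency.types false

noncomputable section

universe u

open CategoryTheory CategoryTheory.Limits AlgebraicGeometry TopologicalSpace Opposite

namespace Groth.Agent.VB30

variable {k : Type u} [Field k] {X : Scheme.{u}} [X.Over (Spec (CommRingCat.of k))] [IsIntegral X]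

variable (k) in
/-- Every submodule of corank one has degree at most `deg E - b`. -/
def QBound (b : ℤ) (E : X.Modules) : Prop :=
  ∀ (G : X.Modules) (i : G ⟶ E), Mono i → FlatMod.IsFinLocFree G → rk G + 1 = rk E → dg k G ≤ dg k E - b

namespace Cur

variable (h : Cur k X)
include h

theorem qBound_of_quot {E : X.Modules} (hE : FlatMod.IsFinLocFree E) {b : ℤ}
    (hq : ∀ (Q : X.Modules) (p : E ⟶ Q), Epi p → FlatMod.IsFinLocFree Q → rk Q = 1 → b ≤ dg k Q) :
    QBound k b E := by
  intro G i hi hG hr
  obtain ⟨G', i', a, hi', -, -, lG', lQ, rG', dG'⟩ := h.exists_saturation i (isCoh_of_isFinLocFree hG) hE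
  obtain ⟨e1, e2⟩ := h.rk_cokernel i' (isCoh_of_isFinLocFree lG') (isCoh_of_isFinLocFree hE)
  have := hq (cokernel i') (cokernel.π i') inferInstance lQ (by omega)
  omega

theorem qBound_twist {E L : X.Modules} (hE : FlatMod.IsFinLocFree E) (hL : PicF.IsInvertible L) {b : ℤ}
    (hb : QBound k b E) : QBound k (b + dg k L) (CohB1.tensorMod E L) := by
  intro G j hj hG hr
  obtain ⟨-, rT, dT⟩ := h.tensor_invertible hE hL
  obtain ⟨G₀, j₀, hj₀, lG₀, rG₀, dG₀⟩ := h.sub_untwist hL j hj hG
  have := hb G₀ j₀ hj₀ lG₀ (by omega)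
  have hr' : (rk E : ℤ) = rk G + 1 := by omega
  rw [dT, hr']
  linarith

end Cur

variable (hS : CrvPic30.Setup k X)
include hS

/-- `H¹` vanishes and, over an algebraically closed field, sections generate. -/
theorem h1_of_qBound {E E' : X.Modules} (_hE : FlatMod.IsFinLocFree E) (j : E' ⟶ E) [Mono j]
    (hE' : FlatMod.IsFinLocFree E') (hr : rk E' = rk E) {b : ℤ} (hq : QBound k b E)
    (hb : 2 * (Curv2.genus k X : ℤ) - 2 + (dg k E - dg k E') < b) : Subsingleton (Coh.HH X E' 1) := by
  have h := cur_of_setup hS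
  by_contra hne
  obtain ⟨ω, hω, h1, hdω⟩ := exists_omega hS
  obtain ⟨φ, hφ⟩ := exists_hom_omega hS hE' hω h1 hdω hne
  obtain ⟨lω, rω⟩ := lf_of_isInvertible hω
  obtain ⟨K, I, i, p, q, hi, hp, hq', -, -, lK, lI, hrk, hdk, -, hz⟩ := h.exists_ker_im φ hE' lω
  have := (isCoh_of_isFinLocFree lω).2
  have hI : rk I = 1 := by
    have := rk_le_of_mono q
    have : rk I ≠ 0 := fun e => hφ (hz e)
    omega
  have b' := (h.dg_le_of_mono q (isCoh_of_isFinLocFree lI) (isCoh_of_isFinLocFree lω) (by omega)).1
  have := hq K (i ≫ j) (mono_comp _ _) lK (by omega)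
  omega

/-- Global generation. -/
theorem gg_of_qBound [IsAlgClosed k] {E : X.Modules} (hE : FlatMod.IsFinLocFree E) {b : ℤ}
    (hq : QBound k b E) (hb : 2 * (Curv2.genus k X : ℤ) - 1 < b) : Curv2.IsGloballyGenerated E := by
  have h := cur_of_setup hS
  have := h.proper
  have := h.isNoetherian
  refine isGloballyGenerated_of_span hE fun P hP => ?_
  exact span_germ_eq_top hS hE (fun E' j hj lE' rE' dE' => h1_of_qBound hS hE j lE' rE' hq (by omega)) hP
    (Crv77.finrank_residueField_eq_one (k := k) hP)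

end Groth.Agent.VB30
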