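import Groth.Agent.VB30.ClopenLine
import Groth.Agent.VB30.CurveBound

/-! Bounded families of bundles on a disconnected curve. -/

set_option autoImplicit false
set_option linter.style.haveILetI false
set_option linter.unusedSectionVars false
set_option backward.isDefEq.respectTransparency.types false

noncomputable section

universe u

open CategoryTheory CategoryTheory.Limits AlgebraicGeometry TopologicalSpace Opposite

namespace Groth.Agent.VB30.Clopen

attribute [local instance] ovr

section Top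

variable {X : Scheme.{u}} [NoetherianSpace X]

theorem finite_components : {U : X.Opens | IsClopen (U : Set X) ∧ _root_.IsConnected (U : Set X)}.Finite := by
  have hfin := NoetherianSpace.finite_irreducibleComponents (α := X)
  refine Set.Finite.of_finite_image (f := fun U : X.Opens => {C ∈ irreducibleComponents X | C ⊆ (U : Set X)})
    (hfin.finite_subsets.subset ?_) fun U hU V hV e => ?_
  · rintro _ ⟨U, -, rfl⟩
    exact fun C hC => hC.1
  · obtain ⟨x, hx⟩ := hU.2.nonempty
    have hc : irreducibleComponent x ⊆ (U : Set X) :=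
      (isIrreducible_irreducibleComponent (x := x)).isConnected.isPreconnected.subset_isClopen hU.1
        ⟨x, mem_irreducibleComponent, hx⟩
    have hC : irreducibleComponent x ∈ {C ∈ irreducibleComponents X | C ⊆ (V : Set X)} :=
      (Set.ext_iff.1 e _).1 ⟨irreducibleComponent_mem_irreducibleComponents x, hc⟩
    have hxV : x ∈ (V : Set X) := hC.2 mem_irreducibleComponent
    exact SetLike.coe_injective (Set.Subset.antisymm (hU.2.isPreconnected.subset_isClopen hV.1 ⟨x, hx, hxV⟩)
      (hV.2.isPreconnected.subset_isClopen hU.1 ⟨x, hxV, hx⟩))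

end Top

variable {k : Type u} [Field k] {X : Scheme.{u}} [X.Over (Spec (CommRingCat.of k))]
  [IsProper (X ↘ Spec (CommRingCat.of k))] [NoetherianSpace X]

include k in
/-- Induction over the components. -/
theorem parts_induct (P : X.Modules → Prop) (hzero : ∀ M, IsZero M → P M)
    (hiso : ∀ M N : X.Modules, (M ≅ N) → P M → P N)
    (hsum : ∀ (U : X.Opens) (hU : IsClopen (U : Set X)) (M : X.Modules), Coh.IsCoh M →
      P ((PU U).obj M) → P ((PU (compl' U hU)).obj M) → P M)
    {M : X.Modules} (hM : Coh.IsCoh M)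
    (h : ∀ U : X.Opens, IsClopen (U : Set X) → _root_.IsConnected (U : Set X) → P ((PU U).obj M)) : P M := by
  suffices key : ∀ (S : Closeds X) (M : X.Modules), Coh.IsCoh M → CohB1.support M ⊆ S →
      (∀ U : X.Opens, IsClopen (U : Set X) → _root_.IsConnected (U : Set X) → P ((PU U).obj M)) → P M by
    exact key ⊤ M hM (Set.subset_univ _) h
  intro S
  induction S using WellFoundedLT.induction with
  | _ S ih =>
  intro M hM hS h
  by_cases hM0 : IsZero M
  · exact hzero M hM0
  obtain ⟨U, hU, hUc, x, hx, hxU⟩ := exists_component hM0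
  have hd := inf_compl' U hU
  have hs := sup_compl' U hU
  let T : Closeds X := ⟨(S : Set X) ∩ (U : Set X)ᶜ, S.isClosed.inter U.2.isClosed_compl⟩
  have hlt : T < S := lt_of_le_not_ge (fun y hy => hy.1) fun hge => (hge (hS hx)).2 hxU
  have hMc : Coh.IsCoh ((PU (compl' U hU)).obj M) := isCoh_PU' k U.2.isClosed_compl hM
  refine hsum U hU M hM (h U hU hUc) (ih T hlt _ hMc (Set.subset_inter
      ((QC70.mem_support_of_mono (biprod.inr ≫ (sumIso hd hs M).inv)).trans hS)
      (support_PU_subset (U := compl' U hU) U.2.isClosed_compl hM)) fun V hV hVc => ?_)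
  by_cases hdj : U ⊓ V = ⊥
  · have := isIso_PU_map_inr hU hdj M
    exact hiso _ _ (asIso ((PU V).map (biprod.inr ≫ (sumIso hd hs M).inv))).symm (h V hV hVc)
  · have hne : ((U : Set X) ∩ V).Nonempty := by
      by_contra hc
      exact hdj (SetLike.coe_injective (Set.not_nonempty_iff_eq_empty.1 hc))
    have hsub : (V : Set X) ⊆ U := hVc.isPreconnected.subset_isClopen hU (by rwa [Set.inter_comm])
    refine hzero _ (Functor.map_isZero (Scheme.Modules.pushforward V.ι) (isZero_restrict_push ?_ _))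
    ext y
    exact ⟨fun hy => hy.1 (hsub hy.2), fun hy => hy.elim⟩

omit [NoetherianSpace X] in
theorem lf_PU {U : X.Opens} (hU : IsClopen (U : Set X)) {N : (U : Scheme.{u}).Modules}
    (hN : FlatMod.IsFinLocFree N) : FlatMod.IsFinLocFree ((Scheme.Modules.pushforward U.ι).obj N) := by
  intro x
  by_cases hx : x ∈ U
  · obtain ⟨W, n, hxW, ⟨e⟩⟩ := hN ⟨x, hx⟩
    let j := U.ι
    refine ⟨j ''ᵁ W, n, ⟨⟨x, hx⟩, hxW, rfl⟩, ⟨?_⟩⟩
    have he : (j.isoImage W).inv ≫ W.ι ≫ j = (j ''ᵁ W).ι := by
      rw [Iso.inv_comp_eq, Scheme.Hom.isoImage_hom_ι]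
    exact (Scheme.Modules.restrictFunctorCongr he.symm).app _ ≪≫
      (Scheme.Modules.restrictFunctorComp _ (W.ι ≫ j)).app _ ≪≫
      (Scheme.Modules.restrictFunctor (j.isoImage W).inv).mapIso
        ((Scheme.Modules.restrictFunctorComp W.ι j).app _ ≪≫
          (Scheme.Modules.restrictFunctor W.ι).mapIso
            ((asIso (Scheme.Modules.restrictAdjunction U.ι).counit).app N) ≪≫ e) ≪≫
      (Scheme.Modules.restrictFunctorIsoPullback _).app _ ≪≫ FrB.pullbackFreeIso _ n
  · refine ⟨compl' U hU, 0, hx, ⟨(isZero_restrict_push (inf_compl' U hU) N).iso ?_⟩⟩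
    rw [IsZero.iff_id_eq_zero]
    exact Sigma.hom_ext _ _ fun i => i.elim0

omit [NoetherianSpace X] in
theorem epi_proj {U : X.Opens} (hU : IsClopen (U : Set X)) (M : X.Modules) :
    Epi ((sumIso (inf_compl' U hU) (sup_compl' U hU) M).hom ≫ biprod.fst) := inferInstance

include k in
theorem sub_h1_PU {U : X.Opens} (hU : IsClopen (U : Set X)) {N : (U : Scheme.{u}).Modules} (hN : Coh.IsCoh N)
    (h : Subsingleton (Coh.HH (U : Scheme.{u}) N 1)) :
    Subsingleton (Coh.HH X ((Scheme.Modules.pushforward U.ι).obj N) 1) := by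
  have := isClosedImmersion_ι hU.1
  have := Crv77.isNoetherian_of_proper (k := k) (X := X)
  have := hN.1
  obtain ⟨e⟩ := Var76.nonempty_hhLin_push (A := k) U.ι rfl N (QC70.isCoh_pushforward U.ι N hN).1 1
  exact e.toEquiv.subsingleton

include k in
theorem sub_h1_of_parts {M : X.Modules} (hM : Coh.IsCoh M)
    (h : ∀ U : X.Opens, IsClopen (U : Set X) → _root_.IsConnected (U : Set X) →
      Subsingleton (Coh.HH X ((PU U).obj M) 1)) : Subsingleton (Coh.HH X M 1) := by
  refine parts_induct (k := k) (fun M => Subsingleton (Coh.HH X M 1)) (fun M hz => ⟨fun a b => ?_⟩)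
    (fun M N e hs => ((Crv77.hEquiv k e 1).toEquiv.symm).subsingleton) (fun U hU M _ h1 h2 => ?_) hM h
  · have hh : IsZero (Coh.toAb M) := Functor.map_isZero (Crv77.toAbF X) hz
    have key : ∀ x : Coh.HH X M 1, x = 0 := fun x => by
      refine (Abelian.Ext.comp_mk₀_id x).symm.trans ?_
      rw [(IsZero.iff_id_eq_zero _).1 hh, Abelian.Ext.mk₀_zero, Abelian.Ext.comp_zero]
    rw [key a, key b]
  · refine subsingleton_of_forall_eq 0 fun x => ?_
    obtain ⟨y, rfl⟩ := (Crv77.exact_f_g k (shortExact_sum (inf_compl' U hU) (sup_compl' U hU) M) 1 x).1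
      (h2.elim _ _)
    rw [Subsingleton.elim y 0, map_zero]

theorem eq_zero_of_restrict {Z : Scheme.{u}} {M T : Z.Modules} (q : M ⟶ T)
    (h : ∀ x : Z, ∃ U : Z.Opens, x ∈ U ∧ (Scheme.Modules.restrictFunctor U.ι).map q = 0) : q = 0 := by
  have hz : ∀ x : Z, ∀ e, QC70.stalkMapM q x e = 0 := fun x e => by
    obtain ⟨U, hx, hq0⟩ := h x
    obtain ⟨W, hW, s, rfl⟩ := QC70.germM_exist e
    have hxW : x ∈ W ⊓ U := ⟨hW, hx⟩
    have hWU : U.ι ''ᵁ (U.ι ⁻¹ᵁ (W ⊓ U)) = W ⊓ U := by
      rw [Scheme.Hom.image_preimage_eq_opensRange_inf, Scheme.Opens.opensRange_ι]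
      exact inf_eq_right.2 inf_le_right
    have h0 := congrArg (fun φ => φ.app (U.ι ⁻¹ᵁ (W ⊓ U)) (QC70.res M (hWU.le.trans inf_le_left) s)) hq0
    rw [← QC70.germM_res (inf_le_left : W ⊓ U ≤ W) hxW s, QC70.stalkMapM_germ,
      ← QC70.germM_res hWU.le (hWU.ge hxW)]
    refine Eq.trans (congrArg _ ?_) (QC70.germM_zero _)
    change q.app _ (QC70.res M (hWU.le.trans inf_le_left) s) = 0 at h0
    rw [← QC70.app_res, QC70.res_res]
    exact h0
  refine Scheme.Modules.hom_ext _ _ fun W => ?_
  ext s
  refine QC70.section_ext T _ 0 fun y hy => ?_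
  have h0 := hz y (QC70.germM M W y hy s)
  rw [QC70.stalkMapM_germ] at h0
  obtain ⟨W', hW', hyW', he⟩ := QC70.germM_eq_zero h0
  exact ⟨W', hW', hyW', by rw [he, QC70.res_zero]⟩

omit [NoetherianSpace X] in
theorem epi_push_map {U : X.Opens} (hU : IsClopen (U : Set X)) {A B : (U : Scheme.{u}).Modules} (p : A ⟶ B) [Epi p] :
    Epi ((Scheme.Modules.pushforward U.ι).map p) := by
  refine Preadditive.epi_of_cancel_zero _ fun {T} g hg => eq_zero_of_restrict g fun x => ?_
  by_cases hx : x ∈ U
  · refine ⟨U, hx, ?_⟩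
    let c := asIso (Scheme.Modules.restrictAdjunction U.ι).counit
    have h1 := congrArg (Scheme.Modules.restrictFunctor U.ι).map hg
    rw [Functor.map_comp, Functor.map_zero] at h1
    have h2 : (Scheme.Modules.restrictFunctor U.ι).map ((Scheme.Modules.pushforward U.ι).map p) =
        c.hom.app A ≫ p ≫ c.inv.app B := by
      have := c.hom.naturality p
      simp only [Functor.comp_map, Functor.id_map] at this
      rw [← Category.assoc, ← this, Category.assoc, Iso.hom_inv_id_app]
      exact (Category.comp_id _).symm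
    rw [h2, Category.assoc, Category.assoc] at h1
    rw [← cancel_epi (c.inv.app B), ← cancel_epi p, ← cancel_epi (c.hom.app A), h1]
    simp
  · exact ⟨compl' U hU, hx, (isZero_restrict_push (inf_compl' U hU) B).eq_of_src _ _⟩

omit [IsProper (X ↘ Spec (CommRingCat.of k))] [NoetherianSpace X] [X.Over (Spec (CommRingCat.of k))] in
theorem gg_of_cover {M : X.Modules}
    (h : ∀ x : X, ∃ U : X.Opens, IsClopen (U : Set X) ∧ x ∈ U ∧ Curv2.IsGloballyGenerated (M.restrict U.ι)) :
    Curv2.IsGloballyGenerated M := by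
  refine (GGDesc24.isGloballyGenerated_iff M).2 fun T q hq => ?_
  have hz : ∀ x : X, ∃ U : X.Opens, x ∈ U ∧ (Scheme.Modules.restrictFunctor U.ι).map q = 0 := fun x => by
    obtain ⟨U, hU, hx, hg⟩ := h x
    have hq0 : (Scheme.Modules.restrictFunctor U.ι).map q = 0 := by
      refine (GGDesc24.isGloballyGenerated_iff _).1 hg _ _ fun t => ?_
      have he : Function.Surjective fun s : Γ(M, ⊤) => QC70.res M (le_top : U.ι ''ᵁ ⊤ ≤ ⊤) s := fun t => by
        let σ := biprod.inl ≫ (sumIso (inf_compl' U hU) (sup_compl' U hU) M).inv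
        refine ⟨σ.app ⊤ t, ?_⟩
        have hσ : σ ≫ (unitU U).app M = 𝟙 _ := by
          rw [show (unitU U).app M = toSum U (compl' U hU) M ≫ biprod.fst from (biprod.lift_fst _ _).symm,
            Category.assoc, show (sumIso (inf_compl' U hU) (sup_compl' U hU) M).inv ≫ toSum U (compl' U hU) M ≫
              biprod.fst = biprod.fst from
              (sumIso (inf_compl' U hU) (sup_compl' U hU) M).inv_hom_id_assoc _, biprod.inl_fst]
        have := congrArg (fun φ : (PU U).obj M ⟶ (PU U).obj M => φ.app ⊤ t) hσ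
        exact this
      obtain ⟨s, rfl⟩ := he t
      change q.app (U.ι ''ᵁ ⊤) (QC70.res M le_top s) = 0
      rw [QC70.app_res, hq, QC70.res_zero]
    exact ⟨U, hx, hq0⟩
  exact eq_zero_of_restrict q hz

end Groth.Agent.VB30.Clopen
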