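import Groth.Agent.VB30.ClopenCrit
import Groth.Agent.VB30.Setup
import Groth.Agent.VarMods75.Additive
import Groth.Agent.ValVan29.PushTwist
import Groth.Agent.Strict99.Basic
import Groth.Agent.Kvb46.Local

/-! Riemann-Roch on the components of a smooth proper curve. -/

set_option autoImplicit false
set_option linter.style.haveILetI false
set_option linter.unusedSectionVars false
set_option backward.isDefEq.respectTransparency.types false

noncomputable section

universe u

open CategoryTheory CategoryTheory.Limits AlgebraicGeometry TopologicalSpace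

namespace Groth.Agent.VB30.Clopen

theorem euler_tensor (k : Type u) [Field k] {X : Scheme.{u}} [X.Over (Spec (CommRingCat.of k))]
    [IsProper (X ↘ Spec (CommRingCat.of k))] (hdim : topologicalKrullDim X ≤ 1) {n m : ℕ} {E V : X.Modules}
    (hE : FlatMod.IsFinLocFreeOfRank n E) (hV : FlatMod.IsFinLocFreeOfRank m V) :
    chi k (CohB1.tensorMod E V) =
      n * chi k V + m * chi k E - n * m * chi k (Coh.structureModule X) := by
  classical
  obtain ⟨T, c, -, hf⟩ := VarMods75.exists_euler_tensor_formula k hdim hV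
  have h1 := hf E (VarMods75.isCoh hE)
  have h2 := hf _ (Crv77.isCoh_structureModule (X := X))
  rw [Crv77.euler_congr (k := k) (EGA73.tensUnitLeft V)] at h2
  have hsum : ∑ η ∈ T, Snapper75.len E η * c η =
      (n : ℚ) * ∑ η ∈ T, Snapper75.len (Coh.structureModule X) η * c η := by
    rw [Finset.mul_sum]
    exact Finset.sum_congr rfl fun η _ => by rw [VarMods75.len_finLocFree hE η, mul_assoc]
  rw [hsum, ← h2] at h1
  refine Int.cast_injective (α := ℚ) ?_
  push_cast
  linarith

theorem twist_tensor (k : Type u) [Field k] {X : Scheme.{u}} [X.Over (Spec (CommRingCat.of k))]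
    [IsProper (X ↘ Spec (CommRingCat.of k))] (hdim : topologicalKrullDim X ≤ 1) {n m : ℕ} {E F V : X.Modules}
    (hE : FlatMod.IsFinLocFreeOfRank n E) (hF : FlatMod.IsFinLocFreeOfRank m F)
    (hV : FlatMod.IsFinLocFreeOfRank 1 V) :
    chi k (CohB1.tensorMod (CohB1.tensorMod E F) V) - chi k (CohB1.tensorMod E F) =
      n * m * (chi k V - chi k (Coh.structureModule X)) := by
  classical
  obtain ⟨T, c, -, hf⟩ := VarMods75.exists_euler_tensor_formula k hdim hV
  have hcE := VarMods75.isCoh hE
  have h1 := hf _ (Crv77.isCoh_tensorMod hcE (VarMods75.isCoh hF))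
  have h2 := hf _ (Crv77.isCoh_structureModule (X := X))
  rw [Crv77.euler_congr (k := k) (EGA73.tensUnitLeft V)] at h2
  have hlen : ∀ η : X, Snapper75.len (CohB1.tensorMod E F) η =
      (n : ℚ) * m * Snapper75.len (Coh.structureModule X) η := fun η => by
    have := hcE.1
    have e := VarMods75.len_finLocFree hE η
    simp only [Snapper75.len] at e ⊢
    rw [VarMods75.length_stalk_tensor hF E η, ENat.toNat_mul, ENat.toNat_natCast]
    push_cast
    rw [e]
    ring
  have hsum : ∑ η ∈ T, Snapper75.len (CohB1.tensorMod E F) η * c η =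
      (n : ℚ) * m * ∑ η ∈ T, Snapper75.len (Coh.structureModule X) η * c η := by
    rw [Finset.mul_sum]
    exact Finset.sum_congr rfl fun η _ => by rw [hlen η, mul_assoc]
  rw [hsum, ← h2] at h1
  refine Int.cast_injective (α := ℚ) ?_
  push_cast
  simp only [Nat.cast_one, one_mul] at h1
  linarith

/-- The structure over `k` of an open subscheme. -/
abbrev ovr (k : Type u) [Field k] {X : Scheme.{u}} [X.Over (Spec (CommRingCat.of k))] (U : X.Opens) :
    (U : Scheme.{u}).Over (Spec (CommRingCat.of k)) :=
  ⟨U.ι ≫ (X ↘ Spec (CommRingCat.of k))⟩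

attribute [local instance] ovr

variable {k : Type u} [Field k] {X : Scheme.{u}} [X.Over (Spec (CommRingCat.of k))]
  [IsProper (X ↘ Spec (CommRingCat.of k))] {U : X.Opens} (hU : IsClopen (U : Set X))

include hU in
theorem isProper_ovr : IsProper ((U : Scheme.{u}) ↘ Spec (CommRingCat.of k)) := by
  have := isClosedImmersion_ι hU.1
  show IsProper (U.ι ≫ (X ↘ Spec (CommRingCat.of k)))
  infer_instance

include hU in
theorem euler_push_clopen {N : (U : Scheme.{u}).Modules} (hN : Coh.IsCoh N) :
    Curv2.euler k X ((Scheme.Modules.pushforward U.ι).obj N) = Curv2.euler k U N :=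
  have := isClosedImmersion_ι hU.1
  Curves2.Ample.euler_push k U.ι rfl N hN

/-- Twisting the part on `U` by an invertible module. -/
def twistPU {L : X.Modules} (hL : PicF.IsInvertible L) (N : (U : Scheme.{u}).Modules) :
    CohB1.tensorMod ((Scheme.Modules.pushforward U.ι).obj N) L ≅
      (Scheme.Modules.pushforward U.ι).obj (CohB1.tensorMod N (L.restrict U.ι)) :=
  ValVan29.projIso U.ι N L hL ≪≫ (Scheme.Modules.pushforward U.ι).mapIso
    (EGA73.tensIso (Iso.refl N) ((Scheme.Modules.restrictFunctorIsoPullback U.ι).symm.app L))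

/-- The part on `U` of a tensor product. -/
def tensPU (E F : X.Modules) :
    (PU U).obj (CohB1.tensorMod E F) ≅
      (Scheme.Modules.pushforward U.ι).obj (CohB1.tensorMod (E.restrict U.ι) (F.restrict U.ι)) :=
  (Scheme.Modules.pushforward U.ι).mapIso (EGA73.tensorRestrictIso U.ι E F).symm

theorem lf_restrict (U : X.Opens) {M : X.Modules} (h : FlatMod.IsFinLocFree M) :
    FlatMod.IsFinLocFree (M.restrict U.ι) :=
  Kvb46.isFinLocFree_iso ((Scheme.Modules.restrictFunctorIsoPullback U.ι).symm.app M)
    (Strict99.isFinLocFree_pullback U.ι h)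

variable [Smooth (X ↘ Spec (CommRingCat.of k))] (hUc : _root_.IsConnected (U : Set X))

include k hU hUc in
theorem isIntegral_comp : IsIntegral (U : Scheme.{u}) := by
  have := isProper_ovr (k := k) hU
  have : Smooth ((U : Scheme.{u}) ↘ Spec (CommRingCat.of k)) := by
    show Smooth (U.ι ≫ (X ↘ Spec (CommRingCat.of k)))
    infer_instance
  have : ConnectedSpace (U : Scheme.{u}) := isConnected_iff_connectedSpace.1 hUc
  have : IsLocallyNoetherian (U : Scheme.{u}) :=
    LocallyOfFiniteType.isLocallyNoetherian ((U : Scheme.{u}) ↘ Spec (CommRingCat.of k))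
  exact SchBasics.isIntegral_iff_connectedSpace_and_isDomain.mpr
    ⟨inferInstance, fun x => (Curves2.isIntegrallyClosed_stalk_of_smooth
      ((U : Scheme.{u}) ↘ Spec (CommRingCat.of k)) x).1⟩

/-- `χ(O_U)`. -/
abbrev cst (k : Type u) [Field k] {X : Scheme.{u}} [X.Over (Spec (CommRingCat.of k))] (U : X.Opens) : ℤ :=
  chi k ((PU U).obj (Coh.structureModule X))

/-- `deg(L|U)`. -/
abbrev ell (k : Type u) [Field k] {X : Scheme.{u}} [X.Over (Spec (CommRingCat.of k))] (L : X.Modules)
    (U : X.Opens) : ℤ :=
  chi k ((PU U).obj L) - cst k U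

variable (hdim : topologicalKrullDim X ≤ 1) {L : X.Modules} (hL : PicF.IsInvertible L)

include hU hdim hUc in
theorem chi_tens {n m : ℕ} {E F : X.Modules} (hE : FlatMod.IsFinLocFreeOfRank n (E.restrict U.ι))
    (hF : FlatMod.IsFinLocFreeOfRank m (F.restrict U.ι)) :
    chi k ((PU U).obj (CohB1.tensorMod E F)) =
      n * chi k ((PU U).obj F) + m * chi k ((PU U).obj E) - n * m * cst k U := by
  have := isProper_ovr (k := k) hU
  have hdU : topologicalKrullDim (U : Scheme.{u}) ≤ 1 := (topologicalKrullDim_subspace_le X _).trans hdim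
  have hcE := VarMods75.isCoh hE
  have hcF := VarMods75.isCoh hF
  have e0 : cst k U = chi k (Coh.structureModule (U : Scheme.{u})) := by
    refine (euler_push_clopen hU (Amp73.isCoh_restrict Crv77.isCoh_structureModule U)).trans ?_
    exact Crv77.euler_congr (Scheme.Modules.restrictUnitIso U.ι)
  rw [e0, show chi k ((PU U).obj E) = _ from euler_push_clopen hU hcE,
    show chi k ((PU U).obj F) = _ from euler_push_clopen hU hcF,
    show chi k ((PU U).obj (CohB1.tensorMod E F)) = _ from (Crv77.euler_congr (tensPU E F)).trans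
      (euler_push_clopen hU (Crv77.isCoh_tensorMod hcE hcF))]
  exact euler_tensor k hdU hE hF

include hU hdim hUc hL in
theorem al_part {n : ℕ} {E : X.Modules} (hE : FlatMod.IsFinLocFreeOfRank n (E.restrict U.ι)) :
    al k L ((PU U).obj E) = n * ell k L U := by
  have := isIntegral_comp (k := k) hU hUc
  have hL1 : FlatMod.IsFinLocFreeOfRank 1 (L.restrict U.ι) :=
    Mero90.isFinLocFreeOfRank_of_isInvertible (EGA73.isInvertible_restrict hL U.ι)
  have h := chi_tens (k := k) hU hUc hdim hE hL1
  have e : Curv2.euler k X (CohB1.tensorMod ((PU U).obj E) L) = chi k ((PU U).obj (CohB1.tensorMod E L)) :=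
    Crv77.euler_congr (twistPU hL (E.restrict U.ι) ≪≫ (tensPU E L).symm)
  rw [al, e, h]
  push_cast
  simp only [ell]
  ring

include hU hdim hUc hL in
theorem al_tens {n m : ℕ} {E F : X.Modules} (hE : FlatMod.IsFinLocFreeOfRank n (E.restrict U.ι))
    (hF : FlatMod.IsFinLocFreeOfRank m (F.restrict U.ι)) :
    al k L ((PU U).obj (CohB1.tensorMod E F)) = n * m * ell k L U := by
  have := isProper_ovr (k := k) hU
  have := isIntegral_comp (k := k) hU hUc
  have hdU : topologicalKrullDim (U : Scheme.{u}) ≤ 1 := (topologicalKrullDim_subspace_le X _).trans hdim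
  have hLi := EGA73.isInvertible_restrict hL U.ι
  have hL1 : FlatMod.IsFinLocFreeOfRank 1 (L.restrict U.ι) := Mero90.isFinLocFreeOfRank_of_isInvertible hLi
  have hcM := Crv77.isCoh_tensorMod (VarMods75.isCoh hE) (VarMods75.isCoh hF)
  have e0 : cst k U = chi k (Coh.structureModule (U : Scheme.{u})) := by
    refine (euler_push_clopen hU (Amp73.isCoh_restrict Crv77.isCoh_structureModule U)).trans ?_
    exact Crv77.euler_congr (Scheme.Modules.restrictUnitIso U.ι)
  have eL : chi k ((PU U).obj L) = chi k (L.restrict U.ι) := euler_push_clopen hU (VarMods75.isCoh hL1)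
  rw [al, Crv77.euler_congr (EGA73.tensIso (tensPU E F) (Iso.refl L) ≪≫ twistPU hL _),
    euler_push_clopen hU (Crv77.isCoh_tensorMod hcM (VarMods75.isCoh hL1)), Crv77.euler_congr (tensPU E F),
    euler_push_clopen hU hcM, ell, eL, e0]
  exact twist_tensor k hdU hE hF hL1

end Groth.Agent.VB30.Clopen
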