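import Groth.Agent.VB30.ClopenTensor
import Groth.Agent.VB30.TwistSS
import Groth.Agent.VarCurve.AmpleDeg

/-! Line bundles with vanishing Euler characteristic on every component. -/

set_option autoImplicit false
set_option linter.style.haveILetI false
set_option linter.unusedSectionVars false
set_option backward.isDefEq.respectTransparency.types false

noncomputable section

universe u

open CategoryTheory CategoryTheory.Limits AlgebraicGeometry TopologicalSpace

namespace Groth.Agent.VB30.Clopen

attribute [local instance] ovr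

variable {k : Type u} [Field k] {X : Scheme.{u}} [X.Over (Spec (CommRingCat.of k))]
  [IsProper (X ↘ Spec (CommRingCat.of k))] [Smooth (X ↘ Spec (CommRingCat.of k))]
  (hdim : topologicalKrullDim X ≤ 1) {L : X.Modules} (hL : CohB1.IsAmple L)
  (hpure : ∀ y : X, ¬ IsOpen ({y} : Set X))

include k hdim hpure in
theorem dim_comp {U : X.Opens} (hU : IsClopen (U : Set X)) (hUc : _root_.IsConnected (U : Set X)) :
    topologicalKrullDim (U : Scheme.{u}) = 1 := by
  have := isIntegral_comp (k := k) hU hUc
  refine le_antisymm ((topologicalKrullDim_subspace_le X _).trans hdim) ?_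
  by_contra hlt
  rw [not_le] at hlt
  have h0 := Props58.le_zero_of_lt_one hlt
  have hs : Subsingleton (U : Scheme.{u}) := ⟨fun a b =>
    (Props58.eq_of_specializes h0 (genericPoint_specializes a)).symm.trans
      (Props58.eq_of_specializes h0 (genericPoint_specializes b))⟩
  obtain ⟨x, hx⟩ := hUc.nonempty
  refine hpure x ?_
  have e : ({x} : Set X) = U := by
    ext y
    exact ⟨fun h => h ▸ hx, fun hy => congrArg Subtype.val
      (@Subsingleton.elim _ hs (⟨y, hy⟩ : U) (⟨x, hx⟩ : U))⟩
  rw [e]
  exact U.2

include hdim hpure in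
theorem cur_comp {U : X.Opens} (hU : IsClopen (U : Set X)) (hUc : _root_.IsConnected (U : Set X)) :
    haveI := isIntegral_comp (k := k) hU hUc
    Cur k (U : Scheme.{u}) := by
  have := isIntegral_comp (k := k) hU hUc
  have := isProper_ovr (k := k) hU
  have : Smooth ((U : Scheme.{u}) ↘ Spec (CommRingCat.of k)) := by
    show Smooth (U.ι ≫ (X ↘ Spec (CommRingCat.of k)))
    infer_instance
  exact cur_of_smooth k (U : Scheme.{u}) (dim_comp (k := k) hdim hpure hU hUc)

theorem cst_eq {U : X.Opens} (hU : IsClopen (U : Set X)) :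
    cst k U = chi k (Coh.structureModule (U : Scheme.{u})) :=
  (euler_push_clopen hU (Amp73.isCoh_restrict Crv77.isCoh_structureModule U)).trans
    (Crv77.euler_congr (Scheme.Modules.restrictUnitIso U.ι))

include hdim hL hpure in
theorem ell_pos {U : X.Opens} (hU : IsClopen (U : Set X)) (hUc : _root_.IsConnected (U : Set X)) :
    0 < ell k L U ∧ ell k L U = Curv2.deg k (U : Scheme.{u}) (L.restrict U.ι) 1 := by
  have := isIntegral_comp (k := k) hU hUc
  have := isProper_ovr (k := k) hU
  have : CompactSpace (U : Scheme.{u}) := isCompact_iff_compactSpace.1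
    (by have := Crv77.isNoetherian_of_proper (k := k) (X := X); exact NoetherianSpace.isCompact _)
  have e : ell k L U = Curv2.deg k (U : Scheme.{u}) (L.restrict U.ι) 1 := by
    rw [ell, cst_eq hU, Curv2.deg, Nat.cast_one, one_mul,
      show chi k ((PU U).obj L) = _ from euler_push_clopen hU (Amp73.isCoh_restrict
        (Crv77.isCoh_of_isInvertible hL.1) U)]
  refine ⟨?_, e⟩
  rw [e]
  exact VarCurve.deg_pos_of_isAmple k (dim_comp (k := k) hdim hpure hU hUc) (Amp73.isAmple_restrict hL U.ι)

variable [IsAlgClosed k]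

include hdim hL hpure in
theorem exists_line_comp {U : X.Opens} (hU : IsClopen (U : Set X)) (hUc : _root_.IsConnected (U : Set X)) :
    ∃ N : (U : Scheme.{u}).Modules, PicF.IsInvertible N ∧ Curv2.euler k (U : Scheme.{u}) N = 0 := by
  have := isIntegral_comp (k := k) hU hUc
  have := isProper_ovr (k := k) hU
  have : Smooth ((U : Scheme.{u}) ↘ Spec (CommRingCat.of k)) := by
    show Smooth (U.ι ≫ (X ↘ Spec (CommRingCat.of k)))
    infer_instance
  have h := cur_comp (k := k) hdim hpure hU hUc
  obtain ⟨p, hp, -⟩ := h.exists_closed_notMem (Z := ∅) Set.finite_empty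
  obtain ⟨hI, hId⟩ := h.ptIdeal_inv hp
  obtain ⟨hl, hle⟩ := ell_pos (k := k) hdim hL hpure hU hUc
  have hLi := EGA73.isInvertible_restrict hL.1 U.ι
  set D : ℤ := - chi k (Coh.structureModule (U : Scheme.{u}))
  set m : ℕ := ((D.toNat : ℤ) * ell k L U - D).toNat
  have hm : (m : ℤ) = (D.toNat : ℤ) * ell k L U - D := by
    refine Int.toNat_of_nonneg ?_
    nlinarith [Int.self_le_toNat D, Int.natCast_nonneg D.toNat]
  have hA := EGA73.isInvertible_tensorPow hLi D.toNat
  have hB := EGA73.isInvertible_tensorPow hI m
  refine ⟨_, EGA73.isInvertible_tensorMod hA hB, ?_⟩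
  have e := h.dg_invertible_tensor hA hB
  rw [h.dg_tensorPow hLi, h.dg_tensorPow hI, hId, ← deg_eq_dg_of_isInvertible hLi, ← hle,
    ← deg_eq_dg_of_isInvertible (EGA73.isInvertible_tensorMod hA hB), Curv2.deg, Nat.cast_one, one_mul] at e
  simp only [D, chi] at hm e ⊢
  linarith

variable [NoetherianSpace X]

include hdim hL hpure in
theorem exists_line : ∃ M : X.Modules, PicF.IsInvertible M ∧
    ∀ U : X.Opens, IsClopen (U : Set X) → _root_.IsConnected (U : Set X) → chi k ((PU U).obj M) = 0 := by
  suffices key : ∀ S : Closeds X, IsClopen (S : Set X) → ∃ M : X.Modules, PicF.IsInvertible M ∧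
      ∀ U : X.Opens, IsClopen (U : Set X) → _root_.IsConnected (U : Set X) → (U : Set X) ⊆ S →
        chi k ((PU U).obj M) = 0 by
    obtain ⟨M, hM, h⟩ := key ⊤ isClopen_univ
    exact ⟨M, hM, fun U hU hUc => h U hU hUc (Set.subset_univ _)⟩
  intro S
  induction S using WellFoundedLT.induction with
  | _ S ih =>
  intro hSc
  by_cases hne : (S : Set X).Nonempty
  · obtain ⟨x, hx⟩ := hne
    let U : X.Opens := ⟨connectedComponent x, (isClopen_component x).2⟩
    have hU : IsClopen (U : Set X) := isClopen_component x
    have hUc : _root_.IsConnected (U : Set X) := isConnected_connectedComponent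
    let T : Closeds X := ⟨(S : Set X) ∩ (U : Set X)ᶜ, S.isClosed.inter U.2.isClosed_compl⟩
    have hlt : T < S := lt_of_le_not_ge (fun y hy => hy.1) fun hge => (hge hx).2 mem_connectedComponent
    obtain ⟨M', hM', h'⟩ := ih T hlt (hSc.inter hU.compl)
    obtain ⟨N, hN, hN0⟩ := exists_line_comp (k := k) hdim hL hpure hU hUc
    set M : X.Modules := (Scheme.Modules.pushforward U.ι).obj N ⊞ (PU (compl' U hU)).obj M'
    have hres : ∀ V : X.Opens, V ≤ compl' U hU →
        Nonempty (M.restrict V.ι ≅ M'.restrict V.ι) := fun V hV => by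
      have hdj : U ⊓ V = ⊥ := le_bot_iff.1 ((inf_le_inf_left U hV).trans (inf_compl' U hU).le)
      set F := Scheme.Modules.restrictFunctor V.ι
      have h1 : IsZero (F.obj ((Scheme.Modules.pushforward U.ι).obj N)) := isZero_restrict_push hdj N
      have hp : IsIso (F.map (biprod.snd : M ⟶ _)) := by
        refine ⟨F.map biprod.inr, ?_, by rw [← F.map_comp, biprod.inr_snd, F.map_id]⟩
        rw [← F.map_comp, ← F.map_id]
        have := congrArg F.map (biprod.total (X := (Scheme.Modules.pushforward U.ι).obj N)
          (Y := (PU (compl' U hU)).obj M'))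
        rw [F.map_add, F.map_comp biprod.fst, h1.eq_of_tgt (F.map biprod.fst) 0, zero_comp, zero_add] at this
        exact this
      have hu : IsIso (F.map ((unitU (compl' U hU)).app M')) := by
        refine isIso_of_restrict_cover _ fun z => ?_
        let ι' : (V : Scheme.{u}) ⟶ (compl' U hU : X.Opens) := X.homOfLE hV
        refine ⟨_, 𝟙 _, inferInstance, ⟨z, rfl⟩, ?_⟩
        have h2 := isIso_restrict_unit (compl' U hU) M'
        have h3 : IsIso ((Scheme.Modules.restrictFunctor ι').map
            ((Scheme.Modules.restrictFunctor (compl' U hU).ι).map ((unitU (compl' U hU)).app M'))) :=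
          inferInstance
        have e : ι' ≫ (compl' U hU).ι = 𝟙 _ ≫ V.ι := by simp [ι']
        have h4 := (NatIso.isIso_map_iff ((Scheme.Modules.restrictFunctorComp ι' (compl' U hU).ι).symm ≪≫
          Scheme.Modules.restrictFunctorCongr e ≪≫ Scheme.Modules.restrictFunctorComp (𝟙 _) V.ι)
          ((unitU (compl' U hU)).app M')).1 h3
        exact h4
      exact ⟨asIso (F.map (biprod.snd : M ⟶ _)) ≪≫ (asIso (F.map ((unitU (compl' U hU)).app M'))).symm⟩
    have hfst : Nonempty (M.restrict U.ι ≅ N) := by
      set F := Scheme.Modules.restrictFunctor U.ι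
      have h1 : IsZero (F.obj ((PU (compl' U hU)).obj M')) :=
        isZero_restrict_push (by rw [inf_comm]; exact inf_compl' U hU) _
      have hp : IsIso (F.map (biprod.fst : M ⟶ _)) := by
        refine ⟨F.map biprod.inl, ?_, by rw [← F.map_comp, biprod.inl_fst, F.map_id]⟩
        rw [← F.map_comp, ← F.map_id]
        have := congrArg F.map (biprod.total (X := (Scheme.Modules.pushforward U.ι).obj N)
          (Y := (PU (compl' U hU)).obj M'))
        rw [F.map_add, F.map_comp biprod.snd, h1.eq_of_tgt (F.map biprod.snd) 0, zero_comp, add_zero] at this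
        exact this
      exact ⟨asIso (F.map (biprod.fst : M ⟶ _)) ≪≫ (asIso ((Scheme.Modules.restrictAdjunction U.ι).counit)).app N⟩
    obtain ⟨eU⟩ := hfst
    refine ⟨M, Amp73.isInvertible_of_cover fun y => ?_, fun V hV hVc hsub => ?_⟩
    · rcases em (y ∈ U) with hy | hy
      · exact ⟨_, U.ι, inferInstance, by rw [Scheme.Opens.range_ι]; exact hy,
          EGA73.isInvertible_of_iso eU.symm hN⟩
      · obtain ⟨e'⟩ := hres (compl' U hU) le_rfl
        exact ⟨_, (compl' U hU).ι, inferInstance, by rw [Scheme.Opens.range_ι]; exact hy,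
          EGA73.isInvertible_of_iso e'.symm (EGA73.isInvertible_restrict hM' _)⟩
    · by_cases hd : ((V : Set X) ∩ U).Nonempty
      · have h1 : (V : Set X) ⊆ U := hVc.isPreconnected.subset_isClopen hU hd
        have h2 : (U : Set X) ⊆ V :=
          hUc.isPreconnected.subset_isClopen hV (by rwa [Set.inter_comm])
        obtain rfl : U = V := SetLike.coe_injective (Set.Subset.antisymm h2 h1)
        rw [chi, Crv77.euler_congr (show (PU U).obj M ≅ (Scheme.Modules.pushforward U.ι).obj N from
            (Scheme.Modules.pushforward U.ι).mapIso eU),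
          euler_push_clopen hU (Crv77.isCoh_of_isInvertible hN)]
        exact hN0
      · have hle : V ≤ compl' U hU := fun y hy hyU => hd ⟨y, hy, hyU⟩
        obtain ⟨e'⟩ := hres V hle
        rw [chi, Crv77.euler_congr (show (PU V).obj M ≅ (PU V).obj M' from
          (Scheme.Modules.pushforward V.ι).mapIso e')]
        exact h' V hV hVc fun y hy => ⟨hsub hy, hle hy⟩
  · refine ⟨Coh.structureModule X, EGA73.isInvertible_structureModule, fun U _ hUc hsub => ?_⟩
    obtain ⟨y, hy⟩ := hUc.nonempty
    exact absurd ⟨y, hsub hy⟩ hne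

end Groth.Agent.VB30.Clopen
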