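import Groth.Agent.VB30.Clopen
import Groth.Agent.HP96.Stab
import Groth.Agent.HP96.Sub

/-! Semistability of dimension one on a possibly disconnected curve. -/

set_option autoImplicit false
set_option linter.style.haveILetI false
set_option linter.unusedSectionVars false
set_option backward.isDefEq.respectTransparency.types false

noncomputable section

universe u

open CategoryTheory CategoryTheory.Limits AlgebraicGeometry TopologicalSpace Polynomial

namespace Groth.Agent.VB30.Clopen

theorem isClopen_component {T : Type*} [TopologicalSpace T] [NoetherianSpace T] (x : T) :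
    IsClopen (connectedComponent x) := by
  refine ⟨isClosed_connectedComponent, ?_⟩
  rw [← isClosed_compl_iff]
  have e : (connectedComponent x)ᶜ =
      ⋃ C ∈ {C ∈ irreducibleComponents T | Disjoint C (connectedComponent x)}, C := by
    ext y
    simp only [Set.mem_compl_iff, Set.mem_iUnion, Set.mem_ofPred_eq, exists_prop]
    refine ⟨fun hy => ⟨irreducibleComponent y, ⟨irreducibleComponent_mem_irreducibleComponents y,
      Set.disjoint_left.2 fun z hz hzx => hy ?_⟩, mem_irreducibleComponent⟩, ?_⟩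
    · have h1 := (isIrreducible_irreducibleComponent (x := y)).isConnected.isPreconnected.subset_connectedComponent hz
      rw [← connectedComponent_eq hzx] at h1
      exact h1 mem_irreducibleComponent
    · rintro ⟨C, ⟨-, hd⟩, hy⟩
      exact Set.disjoint_left.1 hd hy
  rw [e]
  exact (NoetherianSpace.finite_irreducibleComponents.subset fun C h => h.1).isClosed_biUnion
    fun C hC => isClosed_of_mem_irreducibleComponents C hC.1

variable (k : Type u) [Field k] {X : Scheme.{u}} [X.Over (Spec (CommRingCat.of k))]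

/-- `α(M) = χ(M ⊗ L) - χ(M)`. -/
abbrev al (L M : X.Modules) : ℤ := Curv2.euler k X (CohB1.tensorMod M L) - Curv2.euler k X M

/-- `χ(M)`. -/
abbrev chi (M : X.Modules) : ℤ := Curv2.euler k X M

variable [IsProper (X ↘ Spec (CommRingCat.of k))]

variable {k} (hdim : topologicalKrullDim X ≤ 1) {L : X.Modules} (hL : CohB1.IsAmple L)

include hdim in
theorem dim_supp_le (M : X.Modules) : topologicalKrullDim (CohB1.support M) ≤ (1 : ℕ) :=
  (topologicalKrullDim_subspace_le X _).trans (le_of_le_of_eq hdim (by norm_num))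

include hL in
theorem hp_eval_zero {M : X.Modules} (hM : Coh.IsCoh M) :
    (HP96.hp k L M).eval 0 = (chi k M : ℚ) := by
  have h := HP96.isHilbPoly_hp k hL.1 hM 0
  rw [Nat.cast_zero] at h
  rw [← h]
  exact congrArg (fun z : ℤ => (z : ℚ)) (Crv77.euler_congr (EGA73.tensUnitRight M))

include hL in
theorem hp_eval_one {M : X.Modules} (hM : Coh.IsCoh M) :
    (HP96.hp k L M).eval 1 = (Curv2.euler k X (CohB1.tensorMod M L) : ℚ) := by
  have h := HP96.isHilbPoly_hp k hL.1 hM 1
  rw [Nat.cast_one] at h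
  rw [← h]
  exact congrArg (fun z : ℤ => (z : ℚ))
    (Crv77.euler_congr (EGA73.tensIso (Iso.refl M) (EGA73.tensUnitLeft L)))

include hdim hL in
theorem hp_eq {M : X.Modules} (hM : Coh.IsCoh M) :
    HP96.hp k L M = C (chi k M : ℚ) + C (al k L M : ℚ) * Polynomial.X := by
  have hdeg := HP96.natDegree_hp_le k hL.1 hM (d := 1) (dim_supp_le hdim M)
  have e := eq_X_add_C_of_natDegree_le_one hdeg
  have h0 := hp_eval_zero (k := k) hL hM
  have h1 := hp_eval_one (k := k) hL hM
  rw [e] at h0 h1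
  simp at h0 h1
  rw [e, add_comm]
  push_cast
  rw [← h1, ← h0]
  simp

include hdim hL in
theorem alpha_eq {M : X.Modules} (hM : Coh.IsCoh M) :
    StabCat.alpha 1 (HP96.hp k L M) = (al k L M : ℚ) := by
  rw [hp_eq hdim hL hM, StabCat.alpha, coeff_add, coeff_C_mul, coeff_X_one, coeff_C_of_ne_zero one_ne_zero]
  simp

include hdim hL in
theorem redLE_hp_iff {M N : X.Modules} (hM : Coh.IsCoh M) (hN : Coh.IsCoh N) :
    StabCat.RedLE 1 (HP96.hp k L M) (HP96.hp k L N) ↔ al k L N * chi k M ≤ al k L M * chi k N := by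
  rw [HP96.redLE_iff]
  have : HP96.cross 1 (HP96.hp k L M) (HP96.hp k L N) =
      C (((al k L M * chi k N - al k L N * chi k M : ℤ)) : ℚ) := by
    rw [HP96.cross, alpha_eq hdim hL hM, alpha_eq hdim hL hN, hp_eq hdim hL hM, hp_eq hdim hL hN,
      smul_eq_C_mul, smul_eq_C_mul]
    push_cast
    simp only [map_sub, map_mul]
    ring
  rw [this, HP96.evNonneg_iff, leadingCoeff_C, Int.cast_nonneg_iff, sub_nonneg]

include hdim hL in
theorem chi_al_add {S : ShortComplex X.Modules} (hS : S.ShortExact)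
    (h₁ : Coh.IsCoh S.X₁) (h₂ : Coh.IsCoh S.X₂) (h₃ : Coh.IsCoh S.X₃) :
    chi k S.X₂ = chi k S.X₁ + chi k S.X₃ ∧ al k L S.X₂ = al k L S.X₁ + al k L S.X₃ := by
  have h := HP96.hp_add k hL.1 hS h₁ h₂ h₃
  have h0 := congrArg (Polynomial.eval (0 : ℚ)) h
  have hα := congrArg (StabCat.alpha 1) h
  rw [Polynomial.eval_add, hp_eval_zero hL h₁, hp_eval_zero hL h₂, hp_eval_zero hL h₃] at h0
  rw [HP96.alpha_add, alpha_eq hdim hL h₁, alpha_eq hdim hL h₂, alpha_eq hdim hL h₃] at hα
  exact ⟨by exact_mod_cast h0, by exact_mod_cast hα⟩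

include hdim hL in
theorem chi_al_zero {M : X.Modules} (hM : IsZero M) : chi k M = 0 ∧ al k L M = 0 := by
  have hc : Coh.IsCoh M := QC70.isCoh_of_isZero hM
  have h0 := hp_eval_zero (k := k) hL hc
  have ha := alpha_eq (k := k) hdim hL hc
  rw [HP96.hp_eq_zero_of_isZero k hL.1 hM] at h0 ha
  rw [Polynomial.eval_zero] at h0
  rw [HP96.alpha_zero] at ha
  exact ⟨by exact_mod_cast h0.symm, by exact_mod_cast ha.symm⟩

include hdim hL in
theorem ss_ineq {E F : X.Modules} (h : ShStab.IsSemistable k X L E 1) (ι : F ⟶ E) [Mono ι]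
    (hF : Coh.IsCoh F) : al k L E * chi k F ≤ al k L F * chi k E := by
  by_cases hF0 : IsZero F
  · obtain ⟨h1, h2⟩ := chi_al_zero (k := k) hdim hL hF0
    rw [h1, h2, mul_zero, zero_mul]
  · exact (redLE_hp_iff hdim hL hF h.1).1 (HP96.ss_sub_le hL h ι hF hF0)

include hdim hL in
theorem al_pos {E F : X.Modules} (hpu : ShStab.IsPure X E 1) (ι : F ⟶ E) [Mono ι]
    (hF : Coh.IsCoh F) (hF0 : ¬ IsZero F) : 0 < al k L F := by
  have := HP96.alpha_sub_pos (k := k) hL hpu ι hF hF0
  rw [alpha_eq hdim hL hF] at this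
  exact_mod_cast this

include hdim hL in
theorem ss_of_ineq {E : X.Modules} (hE : Coh.IsCoh E) (h0 : ¬ IsZero E) (hpu : ShStab.IsPure X E 1)
    (h : ∀ (F : X.Modules) (ι : F ⟶ E), Mono ι → Coh.IsCoh F → ¬ IsZero F →
      al k L E * chi k F ≤ al k L F * chi k E) : ShStab.IsSemistable k X L E 1 :=
  ⟨hE, h0, hpu, fun F ι hι hF hF0 _ P Q hP hQ => by
    rw [HP96.eq_hp k hP, HP96.eq_hp k hQ]
    exact (redLE_hp_iff hdim hL hF hE).2 (h F ι hι hF hF0)⟩

variable {U V : X.Opens}

variable (k) in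
include k in
theorem isCoh_PU' (hU : IsClosed (U : Set X)) {M : X.Modules} (hM : Coh.IsCoh M) :
    Coh.IsCoh ((PU U).obj M) := by
  have := Crv77.isNoetherian_of_proper (k := k) (X := X)
  exact isCoh_PU hU hM

include hdim hL in
theorem sum_chi_al (h : U ⊓ V = ⊥) (hc : U ⊔ V = ⊤) {M : X.Modules} (hM : Coh.IsCoh M) :
    chi k M = chi k ((PU U).obj M) + chi k ((PU V).obj M) ∧
      al k L M = al k L ((PU U).obj M) + al k L ((PU V).obj M) := by
  have hU : IsClosed (U : Set X) := isClosed_of_compl h hc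
  have hV : IsClosed (V : Set X) := isClosed_of_compl (inf_comm U V ▸ h) (sup_comm U V ▸ hc)
  exact chi_al_add hdim hL
    (S := ShortComplex.mk (biprod.inl ≫ (sumIso h hc M).inv) ((sumIso h hc M).hom ≫ biprod.snd) (by simp))
    (shortExact_sum h hc M) (isCoh_PU' k hU hM) hM (isCoh_PU' k hV hM)

end Groth.Agent.VB30.Clopen
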