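import Groth.Agent.Div89.HomSheaf
import Groth.Agent.QC70.ExtCoh
import Groth.Agent.VB30.Apply

/-! Duals of tensor products and of finite sums; tensor products of bundles. -/

set_option autoImplicit false
set_option linter.style.haveILetI false
set_option linter.unusedSectionVars false
set_option backward.isDefEq.respectTransparency.types false

noncomputable section

universe u

open CategoryTheory CategoryTheory.Limits AlgebraicGeometry TopologicalSpace Opposite
open Groth.Agent.QC70 Groth.Agent.Props58.LocFree

namespace Groth.Agent.VB30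

variable {X : Scheme.{u}}

/-- The two sheaves of local morphisms agree. -/
def homShIso (F G : X.Modules) : RefHull.homSh F G ≅ homMod F G where
  hom := HomOn.toHom
    { app := fun W _ =>
        { toFun := fun g => (Div89.homOnOfSec g).toSec
          map_add' := fun a b => by
            refine (HomOn.ext' fun V hV s => ?_ : Div89.homOnOfSec (a + b) = Div89.homOnOfSec a + Div89.homOnOfSec b)
            refine TopCat.Presheaf.section_ext (⟨G.presheaf, G.isSheaf⟩ : TopCat.Sheaf Ab X) _ _ _ fun y hy => ?_
            show germM G V y hy _ = germM G V y hy ((Div89.homOnOfSec a).app V hV s + (Div89.homOnOfSec b).app V hV s)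
            rw [germM_add, Div89.homOnOfSec_germ, Div89.homOnOfSec_germ, Div89.homOnOfSec_germ]
            rfl
          map_smul' := fun r a => by
            refine (HomOn.ext' fun V hV s => ?_ : Div89.homOnOfSec (r • a) = r • Div89.homOnOfSec a)
            refine TopCat.Presheaf.section_ext (⟨G.presheaf, G.isSheaf⟩ : TopCat.Sheaf Ab X) _ _ _ fun y hy => ?_
            show germM G V y hy _ = germM G V y hy (resO X hV r • (Div89.homOnOfSec a).app V hV s)
            rw [germM_smul, Div89.homOnOfSec_germ, Div89.homOnOfSec_germ, germ_resO]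
            rfl }
      app_res := fun _ h g => by
        refine (HomOn.ext' fun V hV s => ?_ :
          Div89.homOnOfSec (res (RefHull.homSh F G) h g) = (Div89.homOnOfSec g).mono h)
        refine TopCat.Presheaf.section_ext (⟨G.presheaf, G.isSheaf⟩ : TopCat.Sheaf Ab X) _ _ _ fun y hy => ?_
        show germM G V y hy _ = germM G V y hy ((Div89.homOnOfSec g).app V (hV.trans h) s)
        rw [Div89.homOnOfSec_germ, Div89.homOnOfSec_germ]
        rfl }
  inv := HomOn.toHom
    { app := fun W _ =>
        { toFun := fun φ => Div89.secOfHomOn (ofSec φ)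
          map_add' := fun a b => Div89.sec_ext _ _ fun x hx => LinearMap.ext fun e => by
            obtain ⟨V, hxV, s, rfl⟩ := germM_exist e
            rw [← germM_res (inf_le_left : V ⊓ W ≤ V) (show x ∈ V ⊓ W from ⟨hxV, hx⟩) s,
              Div89.secOfHomOn_apply]
            refine (Div89.homOnStalk_germ (ofSec (a + b)) inf_le_right x ⟨hxV, hx⟩ _).trans ?_
            show _ = Div89.homOnStalk (ofSec a) x hx _ + Div89.homOnStalk (ofSec b) x hx _
            rw [Div89.homOnStalk_germ _ inf_le_right x ⟨hxV, hx⟩, Div89.homOnStalk_germ _ inf_le_right x ⟨hxV, hx⟩,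
              ← germM_add]
            rfl
          map_smul' := fun r a => Div89.sec_ext _ _ fun x hx => LinearMap.ext fun e => by
            obtain ⟨V, hxV, s, rfl⟩ := germM_exist e
            rw [← germM_res (inf_le_left : V ⊓ W ≤ V) (show x ∈ V ⊓ W from ⟨hxV, hx⟩) s,
              Div89.secOfHomOn_apply]
            refine (Div89.homOnStalk_germ (ofSec (r • a)) inf_le_right x ⟨hxV, hx⟩ _).trans ?_
            show _ = X.presheaf.germ W x hx r • Div89.homOnStalk (ofSec a) x hx _
            rw [Div89.homOnStalk_germ _ inf_le_right x ⟨hxV, hx⟩, ← germ_resO (inf_le_right : V ⊓ W ≤ W) ⟨hxV, hx⟩,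
              ← germM_smul]
            rfl }
      app_res := fun {W W'} _ h φ => Div89.sec_ext _ _ fun x hx => LinearMap.ext fun e => by
        obtain ⟨V, hxV, s, rfl⟩ := germM_exist e
        rw [← germM_res (inf_le_left : V ⊓ W' ≤ V) (show x ∈ V ⊓ W' from ⟨hxV, hx⟩) s]
        show Div89.homOnStalk (ofSec (res (homMod F G) h φ)) x hx _ = Div89.homOnStalk (ofSec φ) x (h hx) _
        rw [Div89.homOnStalk_germ _ inf_le_right x ⟨hxV, hx⟩,
          Div89.homOnStalk_germ (ofSec φ) (inf_le_right.trans h) x ⟨hxV, hx⟩]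
        rfl }
  hom_inv_id := Scheme.Modules.hom_ext _ _ fun W => by
    ext g
    exact Div89.secOfHomOn_homOnOfSec g
  inv_hom_id := Scheme.Modules.hom_ext _ _ fun W => by
    ext φ
    exact congrArg HomOn.toSec (Div89.homOnOfSec_secOfHomOn (ofSec φ))

/-- The dual is the sheaf of local linear forms. -/
def dualIso (F : X.Modules) : RefHull.dual F ≅ dualMod F := homShIso F _

/-- Isomorphic modules have isomorphic duals. -/
theorem nonempty_dualMod_congr {A B : X.Modules} (e : A ≅ B) : Nonempty (dualMod A ≅ dualMod B) :=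
  ⟨(homModIso e (unitMod X)).symm⟩

/-- The dual of a tensor product with a bundle. -/
theorem nonempty_dualMod_tensor {A : X.Modules} (hA : FlatMod.IsFinLocFree A) (B : X.Modules) :
    Nonempty (dualMod (CohB1.tensorMod A B) ≅ CohB1.tensorMod (dualMod B) (dualMod A)) := by
  obtain ⟨e⟩ := nonempty_tensor_dual_iso hA (dualMod B)
  exact ⟨(homTensorIso A B).app (unitMod X) ≪≫ e.symm⟩

/-- The dual of a finite sum. -/
theorem nonempty_dualMod_biproduct {n : ℕ} (f : Fin n → X.Modules) :
    Nonempty (dualMod (⨁ f) ≅ ⨁ fun i => dualMod (f i)) := by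
  classical
  let d : ∀ {A B : X.Modules} (_ : A ⟶ B), dualMod B ⟶ dualMod A := fun β => (homComap β).app (unitMod X)
  have hc : ∀ {A B C : X.Modules} (a : A ⟶ B) (b : B ⟶ C), d (a ≫ b) = d b ≫ d a := fun a b =>
    Scheme.Modules.hom_ext _ _ fun W => by ext φ; exact HomOn.ext' fun V hV s => rfl
  have hi : ∀ (A : X.Modules), d (𝟙 A) = 𝟙 _ := fun A =>
    Scheme.Modules.hom_ext _ _ fun W => by ext φ; exact HomOn.ext' fun V hV s => rfl
  have ha : ∀ {A B : X.Modules} (a b : A ⟶ B), d (a + b) = d a + d b := fun a b =>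
    Scheme.Modules.hom_ext _ _ fun W => by
      ext φ
      exact HomOn.ext' fun V hV s => ((ofSec φ).app V hV).map_add _ _
  have hz : ∀ (A B : X.Modules), d (0 : A ⟶ B) = 0 := fun A B => by
    have := ha (0 : A ⟶ B) 0
    rw [add_zero] at this
    exact left_eq_add.mp this
  refine ⟨{ hom := biproduct.lift fun i => d (biproduct.ι f i)
            inv := biproduct.desc fun i => d (biproduct.π f i)
            hom_inv_id := ?_
            inv_hom_id := ?_ }⟩
  · rw [biproduct.lift_desc]
    simp only [← hc]
    refine Eq.trans (map_sum (AddMonoidHom.mk' (fun a => d a) ha : ((⨁ f) ⟶ ⨁ f) →+ _) _ _).symm ?_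
    rw [biproduct.total]
    exact hi _
  · refine biproduct.hom_ext' _ _ fun i => biproduct.hom_ext _ _ fun j => ?_
    rw [biproduct.ι_desc_assoc, Category.comp_id, Category.assoc, biproduct.lift_π, ← hc]
    by_cases hij : i = j
    · subst hij; rw [biproduct.ι_π_self, hi, biproduct.ι_π_self]
    · rw [biproduct.ι_π_ne f (Ne.symm hij), hz, biproduct.ι_π_ne _ hij]

variable {k : Type u} [Field k] [X.Over (Spec (CommRingCat.of k))] [IsIntegral X]

namespace Cur

variable (h : Cur k X)
include h

/-- The dual of a bundle. -/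
theorem dualMod_lf {E : X.Modules} (hE : FlatMod.IsFinLocFree E) :
    FlatMod.IsFinLocFree (dualMod E) ∧ rk (dualMod E) = rk E ∧ dg k (dualMod E) = - dg k E := by
  have hO := EGA73.isInvertible_structureModule (X := X)
  obtain ⟨l, r, d⟩ := h.homMod_invertible hE hO
  rw [h.dg_structureModule, mul_zero, zero_sub] at d
  exact ⟨l, r, d⟩

/-- Reflexivity of bundles. -/
theorem nonempty_bidual {E : X.Modules} (hE : FlatMod.IsFinLocFree E) : Nonempty (dualMod (dualMod E) ≅ E) := by
  obtain ⟨e⟩ := h.iso_bidual hE (EGA73.isInvertible_structureModule (X := X))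
  exact ⟨e.symm⟩

/-- The tensor product of two bundles. -/
theorem tensor_lf {A B : X.Modules} (hA : FlatMod.IsFinLocFree A) (hB : FlatMod.IsFinLocFree B) :
    FlatMod.IsFinLocFree (CohB1.tensorMod A B) ∧ rk (CohB1.tensorMod A B) = rk A * rk B ∧
      dg k (CohB1.tensorMod A B) = rk B * dg k A + rk A * dg k B := by
  have := h.isNoetherian
  obtain ⟨lD, rD, dD⟩ := h.dualMod_lf hB
  obtain ⟨e⟩ := nonempty_tensor_dual_iso lD A
  obtain ⟨j⟩ := h.nonempty_bidual hB
  obtain ⟨l, r, d⟩ := h.homMod_lf lD hA
  let c : CohB1.tensorMod A B ≅ homMod (dualMod B) A := EGA73.tensIso (Iso.refl A) j.symm ≪≫ e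
  refine ⟨h.isFinLocFree_of_isTF (QC70.isCoh_of_iso c.symm (isCoh_of_isFinLocFree l))
    ((isTF_of_isFinLocFree l).of_mono c.hom), ?_, ?_⟩
  · rw [rk_congr c, r, rD, mul_comm]
  · rw [dg_congr c, d, rD, dD]; ring

end Cur

end Groth.Agent.VB30

end
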