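import Groth.Agent.VB30.Dual

/-! Serre duality for bundles on a curve with a canonical divisor. -/

set_option autoImplicit false
set_option linter.style.haveILetI false
set_option linter.unusedSectionVars false
set_option backward.isDefEq.respectTransparency.types false

noncomputable section

universe u

open CategoryTheory CategoryTheory.Limits AlgebraicGeometry TopologicalSpace Opposite FunFld
open Groth.Agent.QC70 Groth.Agent.Props58.LocFree

namespace Groth.Agent.VB30

variable {k : Type u} [Field k] {X : Scheme.{u}} [X.Over (Spec (CommRingCat.of k))] [IsIntegral X]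

/-- Evaluation at a global section. -/
def evSec {E : X.Modules} (N : X.Modules) (s : Γ(E, ⊤)) : homMod E N ⟶ N :=
  HomOn.toHom
    { app := fun W _ =>
        { toFun := fun φ => (ofSec φ).app W le_rfl (res E le_top s)
          map_add' := fun _ _ => rfl
          map_smul' := fun a φ => by
            change resO X le_rfl a • (ofSec φ).app W le_rfl (res E le_top s) = _
            rw [resO_self]
            rfl }
      app_res := fun {W W'} hW h φ => by
        change (ofSec φ).app W' h (res E le_top s) = res N h ((ofSec φ).app W le_rfl (res E le_top s))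
        rw [← (ofSec φ).app_res le_rfl h, res_res] }

theorem evSec_app {E N : X.Modules} (s : Γ(E, ⊤)) {W : X.Opens} (φ : Γ(homMod E N, W)) :
    (evSec N s).app W φ = (ofSec φ).app W le_rfl (res E le_top s) := rfl

theorem evSec_add {E N : X.Modules} (s t : Γ(E, ⊤)) : evSec N (s + t) = evSec N s + evSec N t :=
  Scheme.Modules.hom_ext _ _ fun W => by
    ext φ
    exact (congrArg ((ofSec φ).app W le_rfl) (map_add (E.presheaf.map (homOfLE le_top).op).hom s t)).trans
      (map_add _ _ _)

theorem evSec_zero {E N : X.Modules} : evSec N (0 : Γ(E, ⊤)) = 0 := by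
  have := evSec_add (N := N) (0 : Γ(E, ⊤)) 0
  rwa [add_zero, left_eq_add] at this

theorem evSec_sec_smul {E N : X.Modules} (c : k) (x : Coh.HH X E 0) :
    evSec N (Crv77.sec E (c • x)) = evSec N (Crv77.sec E x) ≫ scal N c :=
  Scheme.Modules.hom_ext _ _ fun W => by
    ext φ
    show (ofSec φ).app W le_rfl (res E le_top (Crv77.sec E (c • x))) = _
    rw [Crv77.sec_smul, res_smul, LinearMap.map_smul]
    rfl

theorem evSec_eq_zero {E N : X.Modules} (hE : FlatMod.IsFinLocFree E) (hN : PicF.IsInvertible N)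
    (s : Γ(E, ⊤)) (h : evSec N s = 0) : s = 0 := by
  classical
  refine section_ext E s 0 fun x _ => ?_
  obtain ⟨U, n, b, hxU, hb⟩ := isFinLocFree_iff.mp hE x
  obtain ⟨V, hxV, e, he⟩ := Mero90.exists_frame' hN x
  let W : X.Opens := U ⊓ V
  refine ⟨W, le_top, ⟨hxU, hxV⟩, ?_⟩
  rw [res_zero]
  have hbW := hb.restrict (inf_le_left : W ≤ U)
  obtain ⟨a, ha⟩ := hbW.exists_comb le_rfl (res E le_top s)
  refine ha.symm.trans (Finset.sum_eq_zero fun i _ => ?_)
  let φ : HomOn E N W := HomOn.ofBasis hbW fun j => if j = i then res N (inf_le_right : W ≤ V) e else 0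
  have h0 : (evSec N s).app W φ.toSec = 0 := by rw [h]; rfl
  rw [evSec_app, ← ha] at h0
  have h1 := (HomOn.ofBasis_app_comb hbW (fun j => if j = i then res N (inf_le_right : W ≤ V) e else 0)
    le_rfl a).symm.trans h0
  rw [Finset.sum_eq_single i (fun j _ hj => by rw [if_neg hj, res_zero, smul_zero])
    (fun hi => absurd (Finset.mem_univ i) hi), if_pos rfl, res_self] at h1
  have h2 : a i = 0 := (he W inf_le_right).1 (h1.trans (zero_smul Γ(X, W) _).symm)
  rw [h2, zero_smul]

namespace Cur

variable (h : Cur k X)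
include h

/-- The other half of duality. -/
theorem finrank_h0_le {E ω : X.Modules} (hE : FlatMod.IsFinLocFree E) (hω : PicF.IsInvertible ω)
    (h1 : Module.finrank k (Coh.HH X ω 1) = 1) :
    Module.finrank k (Coh.HH X E 0) ≤ Module.finrank k (Coh.HH X (homMod E ω) 1) := by
  have l' := (h.homMod_invertible hE hω).1
  have := h.curveCoh.finite _ (isCoh_of_isFinLocFree l') 1
  have : Module.Free k (Coh.HH X ω 1) := Module.Free.of_divisionRing k _
  have : Nontrivial (Coh.HH X ω 1) := Module.nontrivial_of_finrank_eq_succ h1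
  have : Module.Finite k (Coh.HH X ω 1) := Module.finite_of_finrank_eq_succ h1
  have : Module.Free k (Coh.HH X (homMod E ω) 1) := Module.Free.of_divisionRing k _
  let ι : Coh.HH X ω 1 ≃ₗ[k] k := LinearEquiv.ofFinrankEq _ _ (h1.trans (Module.finrank_self k).symm)
  let T : Coh.HH X E 0 →ₗ[k] Module.Dual k (Coh.HH X (homMod E ω) 1) :=
    { toFun := fun x => ι.toLinearMap.comp (Crv77.hmap k (evSec ω (Crv77.sec E x)) 1)
      map_add' := fun x y => LinearMap.ext fun z => by
        simp [map_add, evSec_add, hmap_add]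
      map_smul' := fun c x => LinearMap.ext fun z => by
        simp only [LinearMap.comp_apply, LinearMap.smul_apply, RingHom.id_apply, LinearEquiv.coe_coe]
        rw [evSec_sec_smul, hmap_scal, map_smul] }
  have hT : Function.Injective T := (injective_iff_map_eq_zero _).2 fun x hx => by
    by_contra hne
    have hφ : evSec ω (Crv77.sec E x) ≠ 0 := fun hz =>
      hne ((Crv77.sec E).injective ((evSec_eq_zero hE hω _ hz).trans (map_zero _).symm))
    obtain ⟨y, hy⟩ := exists_ne (0 : Coh.HH X ω 1)
    obtain ⟨z, rfl⟩ := h.h1_surjective l' hω _ hφ y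
    exact hy (ι.injective ((LinearMap.congr_fun hx z).trans (map_zero ι).symm))
  calc Module.finrank k (Coh.HH X E 0) ≤ Module.finrank k (Module.Dual k (Coh.HH X (homMod E ω) 1)) :=
        LinearMap.finrank_le_finrank_of_injective hT
    _ = _ := Subspace.dual_finrank_eq

theorem h0_sub_h1 {M : X.Modules} (hM : Coh.IsCoh M) :
    (Module.finrank k (Coh.HH X M 0) : ℤ) - Module.finrank k (Coh.HH X M 1) =
      dg k M + rk M * Curv2.euler k X (Coh.structureModule X) := by
  rw [dg, Curv2.deg, h.curveCoh.euler_eq hM]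
  simp only [Crv77.h]
  ring

end Cur

section Setup

attribute [local instance] CrvPic30.ffAlg

variable (hS : CrvPic30.Setup k X)
include hS

theorem cur_of_setup : Cur k X := ⟨hS.proper, hS.dim, hS.stalks⟩

theorem euler_structureModule :
    Curv2.euler k X (Coh.structureModule X) = 1 - (Curv2.genus k X : ℤ) := by
  rw [(cur_of_setup hS).curveCoh.euler_eq Crv77.isCoh_structureModule]
  simp only [Crv77.h, Curv2.genus, hS.finrank_h0_structureModule, Nat.cast_one]

/-- A line bundle with the numerical properties of the dualizing sheaf. -/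
theorem exists_omega :
    ∃ ω : X.Modules, PicF.IsInvertible ω ∧ Module.finrank k (Coh.HH X ω 1) = 1 ∧
      dg k ω = 2 * (Curv2.genus k X : ℤ) - 2 := by
  obtain ⟨K₀, hK⟩ := FF30.exists_isCanonical hS.ff
  have hi := hS.isInvertible_O K₀
  refine ⟨hS.O K₀, hi, ?_, ?_⟩
  · rw [hS.riemann_roch hK, sub_self, FF30.ell_zero hS.ff]
  · rw [← deg_eq_dg_of_isInvertible hi, hS.deg_O, FF30.deg_canonical hS.ff hK, hS.genus_eq]

/-- Serre duality, dimensions. -/
theorem finrank_h1_eq {E ω : X.Modules} (hE : FlatMod.IsFinLocFree E) (hω : PicF.IsInvertible ω)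
    (h1 : Module.finrank k (Coh.HH X ω 1) = 1) (hd : dg k ω = 2 * (Curv2.genus k X : ℤ) - 2) :
    Module.finrank k (Coh.HH X E 1) = Module.finrank k (Coh.HH X (homMod E ω) 0) := by
  have h := cur_of_setup hS
  obtain ⟨l', r', d'⟩ := h.homMod_invertible hE hω
  have a := h.finrank_hom_le hE hω h1
  have b := h.finrank_h0_le hE hω h1
  have c := h.h0_sub_h1 (isCoh_of_isFinLocFree hE)
  have d := h.h0_sub_h1 (isCoh_of_isFinLocFree l')
  rw [d', r', hd] at d
  rw [euler_structureModule hS] at c d
  have : (rk E : ℤ) * (2 * (Curv2.genus k X : ℤ) - 2) + (rk E : ℤ) * (1 - (Curv2.genus k X : ℤ)) * 2 = 0 := by ring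
  linarith

/-- Nonvanishing of `H¹` gives a morphism to the dualizing sheaf. -/
theorem exists_hom_omega {E ω : X.Modules} (hE : FlatMod.IsFinLocFree E) (hω : PicF.IsInvertible ω)
    (h1 : Module.finrank k (Coh.HH X ω 1) = 1) (hd : dg k ω = 2 * (Curv2.genus k X : ℤ) - 2)
    (hne : ¬ Subsingleton (Coh.HH X E 1)) : ∃ φ : E ⟶ ω, φ ≠ 0 := by
  have h := cur_of_setup hS
  have := h.curveCoh.finite _ (isCoh_of_isFinLocFree hE) 1
  have : Module.Free k (Coh.HH X E 1) := Module.Free.of_divisionRing k _
  have hpos : 0 < Module.finrank k (Coh.HH X (homMod E ω) 0) := by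
    rw [← finrank_h1_eq hS hE hω h1 hd]
    exact Nat.pos_of_ne_zero fun e => hne (Module.finrank_zero_iff.1 e)
  have : Nontrivial (Coh.HH X (homMod E ω) 0) := Module.nontrivial_of_finrank_pos (R := k) hpos
  obtain ⟨x, hx⟩ := exists_ne (0 : Coh.HH X (homMod E ω) 0)
  refine ⟨homOf x, fun hz => hx (homOf_injective (hz.trans ?_))⟩
  have := homOf_add (0 : Coh.HH X (homMod E ω) 0) 0
  rw [add_zero] at this
  exact (left_eq_add.1 this).symm

theorem h1_subsingleton_of_ss {E : X.Modules} (hE : FlatMod.IsFinLocFree E) (hs : SS k E)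
    (hd : (rk E : ℤ) * (2 * (Curv2.genus k X : ℤ) - 2) < dg k E) : Subsingleton (Coh.HH X E 1) := by
  have h := cur_of_setup hS
  obtain ⟨ω, hω, h1, hdω⟩ := exists_omega hS
  by_contra hne
  obtain ⟨φ, hφ⟩ := exists_hom_omega hS hE hω h1 hdω hne
  obtain ⟨lω, rω⟩ := lf_of_isInvertible hω
  refine hφ (h.hom_eq_zero hE lω hs (fun G i hi h0 hG => ?_) φ)
  have := (isCoh_of_isFinLocFree lω).2
  have hr : rk G = 1 := by
    have := rk_le_of_mono i
    omega
  have := (h.dg_le_of_mono i (isCoh_of_isFinLocFree hG) (isCoh_of_isFinLocFree lω) (hr.trans rω.symm)).1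
  rw [hr, hdω] at *
  push_cast
  nlinarith

end Setup

end Groth.Agent.VB30
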