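import Groth.Agent.VB30.Lines

/-! Stable bundles of coprime rank and degree in genus one, by iterated extensions. -/

set_option autoImplicit false
set_option linter.style.haveILetI false
set_option linter.unusedSectionVars false
set_option backward.isDefEq.respectTransparency.types false

noncomputable section

universe u

open CategoryTheory CategoryTheory.Limits AlgebraicGeometry TopologicalSpace Opposite
open Groth.Agent.QC70 Groth.Agent.Props58.LocFree

namespace Groth.Agent.VB30

variable {k : Type u} [Field k] {X : Scheme.{u}} [X.Over (Spec (CommRingCat.of k))] [IsIntegral X]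

namespace Cur

variable (h : Cur k X)
include h

/-- A non-split extension from a non-zero first cohomology of the sheaf of homomorphisms. -/
theorem exists_nonsplit {A B C : X.Modules} (hA : FlatMod.IsFinLocFree A) (hB : FlatMod.IsFinLocFree B)
    (hC : FlatMod.IsFinLocFree C) (a : A ⟶ B) [Mono a] (hv : Subsingleton (Coh.HH X (homMod C B) 1))
    (hne : Nontrivial (Coh.HH X (homMod C A) 1)) :
    ∃ (E : X.Modules) (i : A ⟶ E) (q : E ⟶ C) (w : i ≫ q = 0), (ShortComplex.mk i q w).ShortExact ∧
      FlatMod.IsFinLocFree E ∧ ¬ IsSplitEpi q := by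
  have := h.isNoetherian
  let π := cokernel.π a
  obtain ⟨w, hT⟩ := shortExact_homFunctor hC (shortExact_cokernel a)
  obtain ⟨c, hc⟩ := exists_ne (0 : Coh.HH X (homMod C A) 1)
  obtain ⟨z, hz⟩ := (Crv77.exact_δ_f k hT 0 c).1 (@Subsingleton.elim _ hv _ _)
  let φ : C ⟶ cokernel a := homOf z
  let i : A ⟶ pullback π φ := pullback.lift a 0 (by rw [cokernel.condition, zero_comp])
  have hia : i ≫ pullback.fst π φ = a := pullback.lift_fst _ _ _
  have hiq : i ≫ pullback.snd π φ = 0 := pullback.lift_snd _ _ _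
  have : Mono i := mono_of_mono_fac hia
  have hS : (ShortComplex.mk i (pullback.snd π φ) hiq).ShortExact :=
    { exact := ShortComplex.exact_of_f_is_kernel _ (KernelFork.IsLimit.ofι' i hiq fun {Z} u hu => by
        have h0 : (u ≫ pullback.fst π φ) ≫ π = 0 := by
          rw [Category.assoc, pullback.condition, ← Category.assoc, hu, zero_comp]
        refine ⟨(exists_fac a (u ≫ pullback.fst π φ) h0).choose, ?_⟩
        refine pullback.hom_ext ?_ ?_
        · rw [Category.assoc, hia]; exact (exists_fac a (u ≫ pullback.fst π φ) h0).choose_spec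
        · rw [Category.assoc, hiq, comp_zero, hu]) }
  let m : pullback π φ ⟶ B ⊞ C := biprod.lift (pullback.fst π φ) (pullback.snd π φ)
  have : Mono m := ⟨fun u v huv => pullback.hom_ext
    (by simpa [m] using congrArg (· ≫ biprod.fst) huv) (by simpa [m] using congrArg (· ≫ biprod.snd) huv)⟩
  have lBC : FlatMod.IsFinLocFree (B ⊞ C) := DCoh43.isFinLocFree_biprod hB hC
  let g : B ⊞ C ⟶ cokernel a := biprod.fst ≫ π - biprod.snd ≫ φ
  have hkc : Coh.IsCoh (kernel g) := h.isCoh_kernel g (isCoh_of_isFinLocFree lBC)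
    (h.isCoh_cokernel a (isCoh_of_isFinLocFree hA) (isCoh_of_isFinLocFree hB))
  have hk : (kernel.ι g ≫ biprod.fst) ≫ π = (kernel.ι g ≫ biprod.snd) ≫ φ := by
    have := kernel.condition g
    simp only [g, Preadditive.comp_sub, sub_eq_zero] at this
    simpa only [Category.assoc] using this
  let eK : kernel g ≅ pullback π φ :=
    { hom := pullback.lift _ _ hk
      inv := kernel.lift g m (by simp [g, m, pullback.condition])
      hom_inv_id := by
        rw [← cancel_mono (kernel.ι g), Category.assoc, kernel.lift_ι, Category.id_comp]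
        refine biprod.hom_ext _ _ ?_ ?_
        · rw [Category.assoc, biprod.lift_fst]; exact pullback.lift_fst _ _ _
        · rw [Category.assoc, biprod.lift_snd]; exact pullback.lift_snd _ _ _
      inv_hom_id := pullback.hom_ext
        ((Category.assoc _ _ _).trans (by
          rw [pullback.lift_fst, ← Category.assoc, kernel.lift_ι, Category.id_comp]; exact biprod.lift_fst _ _))
        ((Category.assoc _ _ _).trans (by
          rw [pullback.lift_snd, ← Category.assoc, kernel.lift_ι, Category.id_comp]; exact biprod.lift_snd _ _)) }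
  refine ⟨_, i, _, hiq, hS, h.isFinLocFree_of_mono m (QC70.isCoh_of_iso eK hkc) lBC,
    fun hs => hc ?_⟩
  · have hid : section_ (pullback.snd π φ) ≫ pullback.snd π φ = 𝟙 C := IsSplitEpi.id (pullback.snd π φ)
    obtain ⟨y, hy⟩ : ∃ y : Coh.HH X (homMod C B) 0, homOf y = section_ (pullback.snd π φ) ≫ pullback.fst π φ := homOf_surjective _
    have e : Crv77.hmap k (homMap C π) 0 y = z := homOf_injective <| by
      rw [homOf_hmap, hy, Category.assoc, pullback.condition, ← Category.assoc, hid, Category.id_comp]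
    rw [← hz, ← e]
    exact (Crv77.exact_g_δ k hT 0 _).2 ⟨y, rfl⟩

end Cur

namespace Cur

variable (h : Cur k X)
include h

set_option maxHeartbeats 1000000 in
/-- A non-split extension of stable bundles of adjacent slopes is stable. -/
theorem st_of_adjacent {S : ShortComplex X.Modules} (hS : S.ShortExact) (h₁ : FlatMod.IsFinLocFree S.X₁)
    (h₂ : FlatMod.IsFinLocFree S.X₂) (h₃ : FlatMod.IsFinLocFree S.X₃) (hb₁ : 0 < rk S.X₁) (hb₃ : 0 < rk S.X₃)
    (hs₁ : St k S.X₁) (hs₃ : St k S.X₃)
    (hadj : dg k S.X₃ * rk S.X₁ - dg k S.X₁ * rk S.X₃ = 1) (hns : ¬ IsSplitEpi S.g) : St k S.X₂ := by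
  have := hS.mono_f
  intro G i hi h0 hlt hG
  have hr := h.rk_add hS (isCoh_of_isFinLocFree h₂)
  have hd := h.dg_add hS (isCoh_of_isFinLocFree h₁) (isCoh_of_isFinLocFree h₂)
  obtain ⟨K, I, ι, p, j, hι, hp, hj, hz, hpj, lK, lI, r, d, hm, -⟩ := h.exists_ker_im (i ≫ S.g) hG h₃
  have : S.X₃.IsFiniteType := (isCoh_of_isFinLocFree h₃).2
  have : S.X₁.IsFiniteType := (isCoh_of_isFinLocFree h₁).2
  have htI : rk I ≤ rk S.X₃ := rk_le_of_mono j
  obtain ⟨κ, hκ⟩ := (⟨hS.fIsKernel.lift (KernelFork.ofι (ι ≫ i) (by rw [Category.assoc, hz])),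
    hS.fIsKernel.fac _ WalkingParallelPair.zero⟩ : ∃ κ : K ⟶ S.X₁, κ ≫ S.f = ι ≫ i)
  have : Mono (ι ≫ i) := mono_comp _ _
  have : Mono κ := mono_of_mono_fac hκ
  have htK : rk K ≤ rk S.X₁ := rk_le_of_mono κ
  have b₁ : (1 : ℤ) ≤ rk S.X₁ := by exact_mod_cast hb₁
  have b₃ : (1 : ℤ) ≤ rk S.X₃ := by exact_mod_cast hb₃
  -- the kernel part
  have hK : dg k K * rk S.X₁ ≤ dg k S.X₁ * rk K := by
    rcases Nat.eq_zero_or_pos (rk K) with z | z
    · rw [h.dg_of_rk_zero lK z, z]; simp
    · exact h.ss_of_st h₁ hs₁ K κ ‹_› z lK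
  by_cases hfull : rk I = rk S.X₃ ∧ dg k I = dg k S.X₃
  · -- the image is everything
    have hji := h.isIso_of_rk_eq j (isCoh_of_isFinLocFree lI) (isCoh_of_isFinLocFree h₃) hfull.1 hfull.2.ge
    rcases Nat.eq_zero_or_pos (rk K) with z | z
    · have : Mono (i ≫ S.g) := hm z
      have : Epi (i ≫ S.g) := by rw [← hpj]; exact epi_comp _ _
      have : IsIso (i ≫ S.g) := isIso_of_mono_of_epi _
      exact absurd (IsSplitEpi.mk' ⟨inv (i ≫ S.g) ≫ i, by rw [Category.assoc, IsIso.inv_hom_id]⟩) hns
    · have hK' := hs₁ K κ ‹_› z (by omega) lK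
      rw [r, d, hfull.1, hfull.2, hr, hd]
      push_cast
      have hk : (1 : ℤ) ≤ rk K := by exact_mod_cast z
      by_contra hge
      have hge' := mul_le_mul_of_nonneg_left (not_lt.1 hge) (show (0 : ℤ) ≤ rk S.X₁ by omega)
      have hK'' := mul_le_mul_of_nonneg_left (show dg k K * rk S.X₁ ≤ dg k S.X₁ * rk K - 1 by omega)
        (show (0 : ℤ) ≤ (rk S.X₁ : ℤ) + rk S.X₃ by omega)
      nlinarith
  · -- a proper image has slope at most that of the sub
    have hI : dg k I * rk S.X₁ ≤ dg k S.X₁ * rk I := by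
      rcases Nat.eq_zero_or_pos (rk I) with z | z
      · rw [h.dg_of_rk_zero lI z, z]; simp
      have hI3 : dg k I * rk S.X₃ < dg k S.X₃ * rk I := by
        rcases Nat.lt_or_ge (rk I) (rk S.X₃) with hl | hl
        · exact hs₃ I j hj z hl lI
        · have he : rk I = rk S.X₃ := le_antisymm htI hl
          have hle := (h.dg_le_of_mono j (isCoh_of_isFinLocFree lI) (isCoh_of_isFinLocFree h₃) he).1
          have : dg k I < dg k S.X₃ := lt_of_le_of_ne hle fun e => hfull ⟨he, e⟩
          rw [he]
          exact mul_lt_mul_of_pos_right this (by omega)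
      by_contra hgt
      -- a slope strictly between adjacent slopes has a large denominator
      have h5 := mul_le_mul_of_nonneg_left (show dg k S.X₁ * rk I + 1 ≤ dg k I * rk S.X₁ by omega)
        (show (0 : ℤ) ≤ rk S.X₃ by omega)
      have h6 := mul_le_mul_of_nonneg_left (show dg k I * rk S.X₃ + 1 ≤ dg k S.X₃ * rk I by omega)
        (show (0 : ℤ) ≤ rk S.X₁ by omega)
      have hI' : (rk I : ℤ) ≤ rk S.X₃ := by exact_mod_cast htI
      nlinarith
    have hsum : dg k G * rk S.X₁ ≤ dg k S.X₁ * rk G := by rw [r, d]; push_cast; linarith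
    rw [hr, hd]
    push_cast
    have hg : (1 : ℤ) ≤ rk G := by exact_mod_cast h0
    by_contra hge
    have hge' := mul_le_mul_of_nonneg_left (not_lt.1 hge) (show (0 : ℤ) ≤ rk S.X₁ by omega)
    have h7 := mul_le_mul_of_nonneg_left hsum (show (0 : ℤ) ≤ (rk S.X₁ : ℤ) + rk S.X₃ by omega)
    nlinarith

end Cur

section Setup

variable (hS : CrvPic30.Setup k X)
include hS

theorem euler_eq_zero_of_genus_one (hg : Curv2.genus k X = 1) : Curv2.euler k X (Coh.structureModule X) = 0 := by
  rw [euler_structureModule hS, hg]; simp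

set_option maxHeartbeats 1000000 in
/-- Stable bundles of coprime rank and degree exist in genus one. -/
theorem exists_stable [IsAlgClosed k] (hg : Curv2.genus k X = 1) :
    ∀ (r : ℕ) (d : ℤ), 0 < r → Int.gcd d r = 1 →
      ∃ F : X.Modules, FlatMod.IsFinLocFree F ∧ rk F = r ∧ dg k F = d ∧ St k F := by
  have h := cur_of_setup hS
  have hχ := euler_eq_zero_of_genus_one hS hg
  intro r
  induction r using Nat.strong_induction_on with
  | _ r ih =>
    intro d hr hgcd
    by_cases h1 : r = 1
    · obtain ⟨L, hL, hd⟩ := h.exists_line_deg d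
      exact ⟨L, (lf_of_isInvertible hL).1, by rw [(lf_of_isInvertible hL).2, h1], hd, h.st_line (lf_of_isInvertible hL).2⟩
    -- the adjacent slopes
    obtain ⟨x, y, hxy⟩ : IsCoprime d (r : ℤ) := Int.isCoprime_iff_gcd_eq_one.2 hgcd
    have hr0 : (0 : ℤ) < r := by exact_mod_cast hr
    let b := x % (r : ℤ)
    let a := -(y + d * (x / (r : ℤ)))
    have hb : d * b - a * r = 1 := by
      simp only [a, b]
      rw [Int.emod_def]
      linarith
    have hb0 : 0 ≤ b := Int.emod_nonneg _ hr0.ne'
    have hbr : b < r := Int.emod_lt_of_pos _ hr0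
    have hb1 : b ≠ 0 := fun e => by
      rw [e, mul_zero, zero_sub, neg_eq_iff_eq_neg, Int.mul_eq_neg_one_iff_eq_one_or_neg_one] at hb
      omega
    obtain ⟨n, hn⟩ := Int.eq_ofNat_of_zero_le hb0
    have hadj : (d - a) * n - a * ((r : ℤ) - n) = 1 := by rw [← hn]; linarith
    have hg1 : Int.gcd a n = 1 := Int.isCoprime_iff_gcd_eq_one.1 ⟨-(r : ℤ), d, by rw [← hn]; linarith⟩
    have hg2 : Int.gcd (d - a) (((r - n : ℕ) : ℤ)) = 1 := Int.isCoprime_iff_gcd_eq_one.1
      ⟨n, -a, by rw [Nat.cast_sub (by omega)]; linarith⟩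
    obtain ⟨A, lA, rA, dA, sA⟩ := ih n (by omega) a (by omega) hg1
    obtain ⟨C, lC, rC, dC, sC⟩ := ih (r - n) (by omega) (d - a) (by omega) hg2
    -- an embedding of the sub killing the extension group
    obtain ⟨L, hL, hdL⟩ := h.exists_line_deg 2
    have hLc := isCoh_of_isFinLocFree (lf_of_isInvertible hL).1
    have hpos : Module.finrank k (Coh.HH X L 0) ≠ 0 := by
      have := h.h0_sub_h1 hLc
      rw [hχ, hdL] at this
      omega
    have := Module.nontrivial_of_finrank_pos (R := k) (Nat.pos_of_ne_zero hpos)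
    obtain ⟨z, hz⟩ := exists_ne (0 : Coh.HH X L 0)
    have hs0 : Crv77.toHom z ≠ 0 := fun e => hz <| (Crv77.sec L).injective (by
      rw [map_zero, ← Crv77.toHom_app_one z, e]; rfl)
    obtain ⟨lO, rO⟩ := lf_of_isInvertible (X := X) EGA73.isInvertible_structureModule
    have : Mono (Crv77.toHom z) := (h.rk_image_eq_zero_or _ lO (lf_of_isInvertible hL).1 rO).resolve_left hs0
    obtain ⟨f, g, w, hT⟩ := Cur.shortExact_tensor_left lA (shortExact_cokernel (Crv77.toHom z))
    have : Mono f := hT.mono_f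
    let a' : A ⟶ CohB1.tensorMod A L := (EGA73.tensUnitRight A).inv ≫ f
    have : Mono a' := mono_comp _ _
    obtain ⟨lB, rB, dB⟩ := h.tensor_invertible lA hL
    have hv : Subsingleton (Coh.HH X (homMod C (CohB1.tensorMod A L)) 1) :=
      h1_hom_subsingleton_genus_one hS hg lB lC fun φ =>
        h.hom_eq_zero_of_slope lB lC (h.ss_twist lA hL (h.ss_of_st lA sA)) (h.ss_of_st lC sC) (by
          rw [rB, dB, rA, dA, hdL, rC, dC, Nat.cast_sub (by omega)]
          have : (1 : ℤ) ≤ n := by omega
          have : (1 : ℤ) ≤ (r : ℤ) - n := by omega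
          nlinarith) φ
    obtain ⟨lH, rH, dH⟩ := h.homMod_lf lC lA
    have hne : Nontrivial (Coh.HH X (homMod C A) 1) := by
      have e := h.h0_sub_h1 (isCoh_of_isFinLocFree lH)
      rw [hχ, dH, dA, dC, rA, rC, Nat.cast_sub (by omega : n ≤ r)] at e
      refine Module.nontrivial_of_finrank_pos (R := k) (Nat.pos_of_ne_zero fun z => ?_)
      rw [z, mul_zero, add_zero, Nat.cast_zero, sub_zero] at e
      linarith [Int.natCast_nonneg (Module.finrank k (Coh.HH X (homMod C A) 0))]
    obtain ⟨X₂, i₂, q₂, w₂, hSS, l2, hns⟩ := h.exists_nonsplit lA lB lC a' hv hne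
    refine ⟨X₂, l2, ?_, ?_, h.st_of_adjacent hSS lA l2 lC (show 0 < rk A by omega) (show 0 < rk C by omega) sA sC ?_ hns⟩
    · have := h.rk_add hSS (isCoh_of_isFinLocFree l2)
      dsimp only at this
      omega
    · have := h.dg_add hSS (isCoh_of_isFinLocFree lA) (isCoh_of_isFinLocFree l2)
      dsimp only at this
      omega
    · dsimp only
      rw [dA, dC, rA, rC, Nat.cast_sub (by omega)]
      exact hadj

end Setup

end Groth.Agent.VB30
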