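import Groth.Agent.VB30.FiltChain
import Groth.Agent.VB30.Det2
import Groth.Agent.Amp73.GlobGen
import Groth.Agent.EGA73.Invertible
import Groth.Agent.Frob53.IterExt
import Groth.Agent.CartMod7.Affine

/-! Filtered bundles on affine schemes with trivial pieces and trivial determinant. -/

set_option autoImplicit false
set_option backward.isDefEq.respectTransparency.types false
set_option linter.style.haveILetI false
set_option linter.unusedSectionVars false

noncomputable section

universe u

open CategoryTheory CategoryTheory.Limits AlgebraicGeometry TopologicalSpace Opposite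
open Groth.Agent.QC70 Groth.Agent.Props58.LocFree Groth.Agent.Cyc90

namespace Groth.Agent.VB30.FiltFree

variable {T : Scheme.{u}}

theorem isExtPow_zero' {M : T.Modules} (h : Dev.HasFilt M []) :
    ExtPow.IsExtPow 0 M (Coh.structureModule T) := by
  haveI := isQuasicoherent_of_isFinLocFree h.isFinLocFree
  haveI := isQuasicoherent_of_isFinLocFree
    (Dev.HasFilt.isFinLocFree_of_isInvertible (EGA73.isInvertible_structureModule (X := T)))
  choose U s hx hs using h.exists_stalkBasis
  refine Om3.isExtPow_of_frames (fun x : T => U x) (fun x => ⟨x, hx x⟩) s hs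
    (fun x => ((1 : Γ(T, U x)) : Γ(Coh.structureModule T, U x))) (fun x => Amp73.isFrame_one (X := T) (U x))
    fun i j => ⟨1, ?_, ?_⟩
  · rw [one_smul]
    exact congrArg _ (funext fun k : Fin 0 => k.elim0)
  · rw [one_smul]
    exact (map_one (T.presheaf.map (homOfLE (inf_le_right : U i ⊓ U j ≤ U j)).op).hom).trans
      (map_one (T.presheaf.map (homOfLE (inf_le_left : U i ⊓ U j ≤ U i)).op).hom).symm

/-- A filtration with trivial pieces on an affine scheme is trivial. -/
theorem nonempty_free [IsAffine T] {M : T.Modules} {ls : List T.Modules} (h : Dev.HasFilt M ls)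
    (htriv : ∀ L ∈ ls, Nonempty (L ≅ Coh.structureModule T)) :
    Nonempty (M ≅ FlatMod.freeMod T ls.length) := by
  induction h with
  | @zero M h0 =>
    refine ⟨h0.iso ((IsZero.iff_id_eq_zero _).2 ?_)⟩
    exact Sigma.hom_ext _ _ fun i => i.elim0
  | @step M' M L ls a b w hs hL h' ih =>
    obtain ⟨e₁⟩ := ih fun L' hL' => htriv L' (List.mem_cons_of_mem _ hL')
    obtain ⟨e₃⟩ := htriv L (List.mem_cons_self ..)
    haveI := isQuasicoherent_of_isFinLocFree (Dev.HasFilt.step a b w hs hL h').isFinLocFree
    haveI : (Coh.structureModule T).IsQuasicoherent := isQuasicoherent_of_isFinLocFree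
      (Dev.HasFilt.isFinLocFree_of_isInvertible EGA73.isInvertible_structureModule)
    haveI : Epi b := hs.epi_g
    obtain ⟨v, hv⟩ := CartMod7.app_surjective_of_epi (b ≫ e₃.hom) (isAffineOpen_top T)
      (toUnit (1 : Γ(T, ⊤)))
    have hσ : unitHom v ≫ b ≫ e₃.hom = 𝟙 _ := by
      rw [unitHom_comp, hv]
      refine Scheme.Modules.hom_ext _ _ fun V => ?_
      ext a
      show (show Γ(T, V) from a) * T.presheaf.map (homOfLE le_top).op (1 : Γ(T, ⊤)) = a
      exact (congrArg ((show Γ(T, V) from a) * ·) (map_one (T.presheaf.map (homOfLE le_top).op).hom)).trans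
        (mul_one (show Γ(T, V) from a))
    let sp := ShortComplex.Splitting.ofExactOfSection (ShortComplex.mk a b w) hs.exact
      (e₃.hom ≫ unitHom v) (by
        rw [← cancel_mono e₃.hom]
        simp only [Category.assoc, Category.id_comp]
        rw [hσ, Category.comp_id]) hs.mono_f
    exact Frob53.iso_free_of_splitting sp e₁ e₃

/-- A filtration with trivial pieces has trivial determinant. -/
theorem nonempty_det {M : T.Modules} {ls : List T.Modules} (h : Dev.HasFilt M ls) :
    (∀ L ∈ ls, Nonempty (L ≅ Coh.structureModule T)) →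
    ∀ D : T.Modules, ExtPow.IsExtPow ls.length M D → Nonempty (D ≅ Coh.structureModule T) := by
  induction h with
  | @zero M h0 =>
    intro _ D hD
    have hf : Dev.HasFilt M [] := .zero h0
    haveI := isQuasicoherent_of_isFinLocFree hf.isFinLocFree
    obtain ⟨e⟩ := Om3.nonempty_iso_of_isExtPow (isExtPow_zero' hf) hD
    exact ⟨e.symm⟩
  | @step M' M L ls a b w hs hL h' ih =>
    intro htriv D hD
    haveI := isQuasicoherent_of_isFinLocFree h'.isFinLocFree
    haveI := isQuasicoherent_of_isFinLocFree (Dev.HasFilt.step a b w hs hL h').isFinLocFree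
    haveI := isQuasicoherent_of_isFinLocFree (Dev.HasFilt.isFinLocFree_of_isInvertible hL)
    obtain ⟨D', hD'⟩ := FBase64.ExtPowExists.exists_isExtPow (E := M') (p := ls.length)
    obtain ⟨e'⟩ := ih (fun L' hL' => htriv L' (List.mem_cons_of_mem _ hL')) D' hD'
    obtain ⟨e₃⟩ := htriv L (List.mem_cons_self ..)
    obtain ⟨e⟩ := Om3.DetSeq.nonempty_det_iso (f := a) (g := b) w hs h'.isFinLocFreeOfRank
      (Mero90.isFinLocFreeOfRank_of_isInvertible hL) hD'
      (show ExtPow.IsExtPow (1 + ls.length) M D by rw [add_comm]; exact hD) (isExtPow_one_self' hL)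
    exact ⟨e ≪≫ EGA73.tensIso e₃ e' ≪≫ EGA73.tensUnitRight _⟩

/-- On an affine scheme: one line bundle and trivial ones, trivial determinant. -/
theorem nonempty_free_of_det [IsAffine T] {M L : T.Modules} {ls : List T.Modules}
    (h : Dev.HasFilt M (L :: ls)) (htriv : ∀ L' ∈ ls, Nonempty (L' ≅ Coh.structureModule T))
    {D : T.Modules} (hD : ExtPow.IsExtPow (ls.length + 1) M D) (eD : D ≅ Coh.structureModule T) :
    Nonempty (M ≅ FlatMod.freeMod T (ls.length + 1)) := by
  have hLO : Nonempty (L ≅ Coh.structureModule T) := by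
    cases h with
    | @step M' _ _ _ a b w hs hL h' =>
      haveI := isQuasicoherent_of_isFinLocFree h'.isFinLocFree
      haveI := isQuasicoherent_of_isFinLocFree (Dev.HasFilt.step a b w hs hL h').isFinLocFree
      haveI := isQuasicoherent_of_isFinLocFree (Dev.HasFilt.isFinLocFree_of_isInvertible hL)
      obtain ⟨D', hD'⟩ := FBase64.ExtPowExists.exists_isExtPow (E := M') (p := ls.length)
      obtain ⟨e'⟩ := nonempty_det h' htriv D' hD'
      obtain ⟨e⟩ := Om3.DetSeq.nonempty_det_iso (f := a) (g := b) w hs h'.isFinLocFreeOfRank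
        (Mero90.isFinLocFreeOfRank_of_isInvertible hL) hD'
        (show ExtPow.IsExtPow (1 + ls.length) M D by rw [add_comm]; exact hD) (isExtPow_one_self' hL)
      exact ⟨(EGA73.tensUnitRight L).symm ≪≫ EGA73.tensIso (Iso.refl L) e'.symm ≪≫ e.symm ≪≫ eD⟩
  refine nonempty_free h fun L' hL' => ?_
  rcases List.mem_cons.1 hL' with rfl | h'
  · exact hLO
  · exact htriv L' h'

end Groth.Agent.VB30.FiltFree
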