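import Mathlib.FieldTheory.Galois.Basic
import Mathlib.RingTheory.TensorProduct.Maps
import Mathlib.RingTheory.Ideal.Quotient.Operations
import Mathlib.RingTheory.Flat.Basic
import Mathlib.RingTheory.LittleWedderburn
import Mathlib.FieldTheory.Finite.GaloisField
import Mathlib.RingTheory.Idempotents
import Mathlib.RingTheory.AdjoinRoot

/-! A finite local algebra over a finite field which acquires idempotents after an extension of the
field, and whose blocks after a Galois extension have no zero products. -/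

set_option autoImplicit false
set_option linter.style.haveILetI false
set_option linter.unusedSectionVars false

noncomputable section

universe u v

open TensorProduct Polynomial

namespace Groth.Agent.VB30.GalAlg

section Pi

variable (k K : Type u) [Field k] [Field K] [Algebra k K] [FiniteDimensional k K] [IsGalois k K]

/-- `K ⊗ K` as functions on the Galois group. -/
noncomputable def toPi : K ⊗[k] K →ₐ[K] ((K ≃ₐ[k] K) → K) :=
  Algebra.TensorProduct.lift (Algebra.ofId K ((K ≃ₐ[k] K) → K))
    (AlgHom.pi (R := k) (A := fun _ : K ≃ₐ[k] K => K) fun σ => σ.toAlgHom) (fun _ _ => Commute.all _ _)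

theorem toPi_tmul (a b : K) (σ : K ≃ₐ[k] K) : toPi k K (a ⊗ₜ b) σ = a * σ b := by
  simp [toPi]

theorem toPi_bijective : Function.Bijective (toPi k K) := by
  have hinj : ∀ σ : K ≃ₐ[k] K, Function.Surjective ((Pi.evalAlgHom K (fun _ => K) σ).comp (toPi k K)) :=
    fun σ a => ⟨a ⊗ₜ 1, by simp [toPi_tmul]⟩
  have hsurj : Function.Surjective (toPi k K) := by
    intro v
    let I : (K ≃ₐ[k] K) → Ideal (K ⊗[k] K) := fun σ =>
      RingHom.ker ((Pi.evalAlgHom K (fun _ => K) σ).comp (toPi k K))
    have hmax : ∀ σ, (I σ).IsMaximal := fun σ => RingHom.ker_isMaximal_of_surjective _ (hinj σ)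
    have hI : Pairwise fun σ τ => IsCoprime (I σ) (I τ) := by
      intro σ τ hne
      refine Ideal.isCoprime_iff_sup_eq.mpr ((hmax σ).coprime_of_ne (hmax τ) fun he => hne ?_)
      ext b
      have h : (1 : K) ⊗ₜ[k] b - σ b ⊗ₜ[k] (1 : K) ∈ I σ := by
        simp [I, RingHom.mem_ker, toPi_tmul]
      rw [he] at h
      have h' : toPi k K ((1 : K) ⊗ₜ[k] b - σ b ⊗ₜ[k] (1 : K)) τ = 0 := h
      rw [map_sub, Pi.sub_apply, toPi_tmul, toPi_tmul, map_one, one_mul, mul_one, sub_eq_zero] at h'
      exact h'.symm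
    choose w hw using fun σ => hinj σ (v σ)
    obtain ⟨x, hx⟩ := Ideal.pi_mkQ_surjective (R := K ⊗[k] K) hI
      (fun σ => Ideal.Quotient.mk (I σ) (w σ))
    refine ⟨x, funext fun σ => ?_⟩
    have h := congr_fun hx σ
    have h2 : x - w σ ∈ I σ := Ideal.Quotient.eq.mp h
    have h3 : toPi k K (x - w σ) σ = 0 := h2
    rw [map_sub, Pi.sub_apply, sub_eq_zero] at h3
    exact h3.trans (hw σ)
  refine ⟨?_, hsurj⟩
  have hdim : Module.finrank K (K ⊗[k] K) = Module.finrank K ((K ≃ₐ[k] K) → K) := by
    rw [Module.finrank_baseChange, Module.finrank_fintype_fun_eq_card, ← Nat.card_eq_fintype_card,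
      IsGalois.card_aut_eq_finrank]
  exact (LinearMap.injective_iff_surjective_of_finrank_eq_finrank hdim
    (f := (toPi k K).toLinearMap)).mpr hsurj

end Pi

variable {A : Type u} [Ring A] [Finite A] [Nontrivial A] (hloc : ∀ a : A, IsNilpotent a ∨ IsUnit a)
include hloc

theorem not_isUnit_of_nilp {a : A} (h : IsNilpotent a) : ¬ IsUnit a := fun h' => h.not_isUnit h'

theorem nilp_mul_left (a : A) {j : A} (hj : IsNilpotent j) : IsNilpotent (a * j) := by
  refine (hloc _).resolve_right fun hu => ?_
  obtain ⟨b, hb⟩ := hu.exists_left_inv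
  have hinj : Function.Injective (j * ·) := fun x y e => by
    have := congrArg (b * a * ·) e
    simp only [← mul_assoc] at this
    rwa [mul_assoc b, hb, one_mul, one_mul] at this
  obtain ⟨c, hc⟩ := Finite.surjective_of_injective hinj 1
  change j * c = 1 at hc
  refine hj.not_isUnit ⟨⟨j, c, hc, ?_⟩, rfl⟩
  exact hinj (show j * (c * j) = j * 1 by rw [← mul_assoc, hc, one_mul, mul_one])

theorem nilp_add {a b : A} (ha : IsNilpotent a) (hb : IsNilpotent b) : IsNilpotent (a + b) := by
  refine (hloc _).resolve_right fun hu => ?_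
  obtain ⟨c, hc⟩ := hu.exists_left_inv
  rw [mul_add] at hc
  have h1 : c * b = 1 - c * a := eq_sub_of_add_eq' hc
  exact not_isUnit_of_nilp hloc (nilp_mul_left hloc c hb) (h1 ▸ (nilp_mul_left hloc c ha).isUnit_one_sub)

theorem card_range_lt {p j : A} (hj : IsNilpotent j) (h : p ≠ 0) :
    Nat.card (Set.range ((p * j) * ·)) < Nat.card (Set.range (p * ·)) := by
  have := (Set.toFinite (Set.range (p * ·))).to_subtype
  rw [Nat.card_coe_set_eq, Nat.card_coe_set_eq]
  refine Set.ncard_lt_ncard ⟨?_, fun hsub => h ?_⟩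
  · rintro _ ⟨a, rfl⟩
    exact ⟨j * a, (mul_assoc p j a).symm⟩
  · obtain ⟨a, ha⟩ := hsub ⟨1, mul_one p⟩
    obtain ⟨w, hw⟩ := (hloc (1 - j * a)).resolve_left fun hn => by
      have hja : IsNilpotent (j * a) := by
        refine (hloc _).resolve_right fun hu => ?_
        obtain ⟨b, hb⟩ := hu.exists_right_inv
        obtain ⟨n, hn⟩ := hj
        have : ∀ m, j ^ m = 0 → False := fun m => by
          induction m with
          | zero => simp
          | succ m ih => intro e; exact ih (by rw [← mul_one (j ^ m), ← hb, ← mul_assoc, ← mul_assoc, ← pow_succ, e, zero_mul, zero_mul])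
        exact this n hn
      exact not_isUnit_of_nilp hloc (by simpa using nilp_add hloc hn hja) isUnit_one
    have h0 : p * (1 - j * a) = 0 := by
      rw [mul_sub, mul_one, ← mul_assoc, sub_eq_zero]
      exact ha.symm
    rw [← hw] at h0
    exact w.isUnit.mul_left_eq_zero.1 h0

theorem prod_eq_zero : ∀ (l : List A) (p : A), (∀ j ∈ l, IsNilpotent j) →
    Nat.card (Set.range (p * ·)) ≤ l.length → p * l.prod = 0
  | [], p, _, h => by
    exfalso
    have : Nonempty (Set.range (p * ·)) := ⟨⟨p * 1, 1, rfl⟩⟩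
    have := Nat.card_pos (α := Set.range (p * ·))
    simp only [List.length_nil] at h
    omega
  | j :: l, p, hl, h => by
    rw [List.prod_cons, ← mul_assoc]
    by_cases hp : p = 0
    · simp [hp]
    · have := card_range_lt hloc (hl j (List.mem_cons_self ..)) hp
      exact prod_eq_zero l (p * j) (fun i hi => hl i (List.mem_cons_of_mem _ hi)) (by
        rw [List.length_cons] at h; omega)

theorem prod_nilp_eq_zero (l : List A) (hl : ∀ j ∈ l, IsNilpotent j) (hlen : Nat.card A ≤ l.length) :
    l.prod = 0 := by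
  simpa using prod_eq_zero hloc l 1 hl ((Finite.card_subtype_le _).trans hlen)

/-- A nonzero nilpotent killing all nilpotents from the right. -/
theorem exists_annihilator {n : A} (hn : IsNilpotent n) (h0 : n ≠ 0) :
    ∃ m : A, m ≠ 0 ∧ IsNilpotent m ∧ ∀ j, IsNilpotent j → m * j = 0 := by
  obtain ⟨m, ⟨hm0, hm⟩, hmin⟩ := Set.exists_min_image {a : A | a ≠ 0 ∧ IsNilpotent a}
    (fun a => Nat.card (Set.range (a * ·))) (Set.toFinite _) ⟨n, h0, hn⟩
  refine ⟨m, hm0, hm, fun j hj => by_contra fun hne => ?_⟩
  exact absurd (hmin (m * j) ⟨hne, nilp_mul_left hloc m hj⟩) (not_le.2 (card_range_lt hloc hj hm0))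

variable {k : Type u} [Field k] [Finite k] [Algebra k A]

/-- Either a field of degree at least two embeds, or the algebra is scalars plus nilpotents. -/
theorem exists_root (a : A) (ha : ∀ c : k, ¬ IsNilpotent (a - algebraMap k A c)) :
    ∃ P : k[X], Irreducible P ∧ 2 ≤ P.natDegree ∧ ∃ b : A, aeval b P = 0 := by
  classical
  have : Module.Finite k A := Module.Finite.of_finite
  have hint : IsIntegral k a := Algebra.IsIntegral.isIntegral a
  have hne := minpoly.ne_zero hint
  obtain ⟨P, hP, hPn⟩ : ∃ P ∈ UniqueFactorizationMonoid.normalizedFactors (minpoly k a), IsNilpotent (aeval a P) := by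
    by_contra hc
    push Not at hc
    have key : ∀ t : Multiset k[X], (∀ Q ∈ t, IsUnit (aeval a Q)) → IsUnit (aeval a t.prod) := fun t => by
      induction t using Multiset.induction with
      | empty => simp
      | cons P t ih =>
        intro ht
        rw [Multiset.prod_cons, map_mul]
        exact (ht P (Multiset.mem_cons_self ..)).mul (ih fun Q hQ => ht Q (Multiset.mem_cons_of_mem hQ))
    have hu := key (UniqueFactorizationMonoid.normalizedFactors (minpoly k a))
      fun Q hQ => (hloc _).resolve_left (hc Q hQ)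
    obtain ⟨w, hw⟩ := UniqueFactorizationMonoid.prod_normalizedFactors hne
    have h0 := minpoly.aeval k a
    rw [← hw, map_mul] at h0
    exact not_isUnit_zero (h0 ▸ hu.mul (w.isUnit.map (aeval a)))
  have hirr := UniqueFactorizationMonoid.irreducible_of_normalized_factor P hP
  refine ⟨P, hirr, ?_, ?_⟩
  · by_contra hd
    have hd1 : P.natDegree = 1 := by have := hirr.natDegree_pos; omega
    obtain ⟨c₁, hc₁, c₀, rfl⟩ := Polynomial.natDegree_eq_one.1 hd1
    rw [map_add, map_mul, aeval_C, aeval_X, aeval_C] at hPn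
    refine ha (-(c₁⁻¹ * c₀)) ?_
    have e : a - algebraMap k A (-(c₁⁻¹ * c₀)) = algebraMap k A c₁⁻¹ * (algebraMap k A c₁ * a + algebraMap k A c₀) := by
      rw [mul_add, ← mul_assoc, ← map_mul, inv_mul_cancel₀ hc₁, map_one, one_mul, map_neg, sub_neg_eq_add, map_mul]
    rw [e]
    exact nilp_mul_left hloc _ hPn
  · obtain ⟨M, hM⟩ := hPn
    let _ := Fintype.ofFinite k
    have hq : 2 ≤ Fintype.card k := Fintype.one_lt_card
    refine ⟨a ^ (Fintype.card k ^ M), ?_⟩
    have key : ∀ m : ℕ, aeval (a ^ (Fintype.card k ^ m)) P = (aeval a P) ^ (Fintype.card k ^ m) := by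
      intro m
      induction m with
      | zero => simp
      | succ m ih => rw [pow_succ, pow_mul, pow_mul, ← ih, ← expand_aeval, FiniteField.expand_card, map_pow]
    rw [key M]
    exact pow_eq_zero_of_le (Nat.lt_pow_self hq).le hM

/-- Scalars plus nilpotents stay without idempotents over any field. -/
theorem idem_trivial (hs : ∀ a : A, ∃ c : k, IsNilpotent (a - algebraMap k A c)) (K : Type v) [Field K]
    [Algebra k K] (e : K ⊗[k] A) (he : e * e = e) : e = 0 ∨ e = 1 := by
  let S : Set (K ⊗[k] A) := {z | ∃ j : A, IsNilpotent j ∧ z = 1 ⊗ₜ j}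
  have hdec : ∀ z : K ⊗[k] A, ∃ s : K, z - s ⊗ₜ 1 ∈ Submodule.span K S := by
    intro z
    induction z using TensorProduct.induction_on with
    | zero => exact ⟨0, by simp⟩
    | tmul c a =>
      obtain ⟨r, hr⟩ := hs a
      refine ⟨c * algebraMap k K r, ?_⟩
      have e' : c ⊗ₜ[k] a - (c * algebraMap k K r) ⊗ₜ[k] (1 : A) = c • ((1 : K) ⊗ₜ[k] (a - algebraMap k A r)) := by
        rw [TensorProduct.smul_tmul', smul_eq_mul, mul_one, tmul_sub, ← Algebra.algebraMap_self_apply (algebraMap k K r),
          Algebra.algebraMap_eq_smul_one (R := k) (A := A), tmul_smul, TensorProduct.smul_tmul', Algebra.smul_def]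
        simp [mul_comm]
      rw [e']
      exact Submodule.smul_mem _ _ (Submodule.subset_span ⟨_, hr, rfl⟩)
    | add z z' hz hz' =>
      obtain ⟨s, hs⟩ := hz
      obtain ⟨s', hs'⟩ := hz'
      refine ⟨s + s', ?_⟩
      rw [add_tmul, add_sub_add_comm]
      exact add_mem hs hs'
  obtain ⟨s, hsN⟩ := hdec e
  have hnil : IsNilpotent (e - s ⊗ₜ 1) := by
    refine ⟨Nat.card A, ?_⟩
    have h := Submodule.pow_mem_pow (Submodule.span K S) hsN (Nat.card A)
    rw [Submodule.span_pow] at h
    refine (Submodule.mem_bot K).1 (Submodule.span_le.2 ?_ h)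
    intro z hz
    obtain ⟨f, rfl⟩ := Set.mem_pow.1 hz
    choose j hj hjz using fun i => (f i).2
    have e' : List.ofFn (fun i => (f i : K ⊗[k] A)) = (List.ofFn j).map (Algebra.TensorProduct.includeRight : A →ₐ[k] K ⊗[k] A) := by
      rw [List.map_ofFn]
      exact congrArg List.ofFn (funext hjz)
    rw [e', ← map_list_prod, prod_nilp_eq_zero hloc _ (fun x hx => by
      obtain ⟨i, rfl⟩ := List.mem_ofFn.1 hx; exact hj i) (by simp)]
    simp
  rcases eq_or_ne s 0 with rfl | hs0
  · rw [zero_tmul, sub_zero] at hnil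
    obtain ⟨m, hm⟩ := hnil
    refine Or.inl ?_
    rw [← IsIdempotentElem.pow_succ_eq m (show IsIdempotentElem e from he), pow_succ, hm, zero_mul]
  · refine Or.inr ?_
    have hu : IsUnit e := by
      have h1 : IsUnit (s ⊗ₜ[k] (1 : A)) :=
        ((isUnit_iff_ne_zero.2 hs0).map (Algebra.TensorProduct.includeLeft : K →ₐ[K] K ⊗[k] A))
      have := hnil.isUnit_add_left_of_commute h1 (Commute.sub_left ?_ (Commute.refl _))
      · rwa [add_sub_cancel] at this
      · show Commute e (Algebra.TensorProduct.includeLeft (R := k) (S := K) (A := K) (B := A) s)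
        exact (Algebra.commutes s e).symm
    exact hu.mul_left_cancel (he.trans (mul_one e).symm)

/-- The main statement. -/
theorem main (K' : Type u) [Field K'] [Algebra k K'] {r : ℕ} (hr : r.Prime)
    (hK' : Module.finrank k K' = r)
    (hdvd : ∀ (L : Type u) [Field L] [Algebra k L], (L →ₐ[k] A) → Module.finrank k L ∣ r)
    (hng : ∃ (K : Type u) (_ : Field K) (_ : Algebra k K) (e : K ⊗[k] A), e * e = e ∧ e ≠ 0 ∧ e ≠ 1)
    (hdom : ∀ (e : (K' ≃ₐ[k] K') → K' ⊗[k] A) [Fintype (K' ≃ₐ[k] K')], CompleteOrthogonalIdempotents e →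
      (∀ i, e i ≠ 0) → ∀ i j l x y, e i * x * e j ≠ 0 → e j * y * e l ≠ 0 → e i * x * e j * y * e l ≠ 0) :
    IsField A ∧ Module.finrank k A = r ∧ (∀ x y : K' ⊗[k] A, x * y = y * x) ∧
      ∃ (e : (K' ≃ₐ[k] K') → K' ⊗[k] A) (_ : Fintype (K' ≃ₐ[k] K')),
        CompleteOrthogonalIdempotents e ∧ (∀ i, e i ≠ 0) := by
  classical
  have : Module.Finite k A := Module.Finite.of_finite
  haveI : FiniteDimensional k K' := Module.finite_of_finrank_pos (by rw [hK']; exact hr.pos)
  haveI : Finite K' := Module.finite_of_finite k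
  -- a field of degree `r` in `A`
  obtain ⟨a, ha⟩ : ∃ a : A, ∀ c : k, ¬ IsNilpotent (a - algebraMap k A c) := by
    by_contra hc
    push Not at hc
    obtain ⟨K, _, _, e, he, he0, he1⟩ := hng
    exact (idem_trivial hloc hc K e he).elim he0 he1
  obtain ⟨P, hP, hdeg, b, hb⟩ := exists_root hloc a ha
  haveI : Fact (Irreducible P) := ⟨hP⟩
  let ψ : AdjoinRoot P →ₐ[k] A := Ideal.Quotient.liftₐ _ (aeval b) fun x hx => by
    obtain ⟨Q, rfl⟩ := Ideal.mem_span_singleton'.1 hx
    rw [map_mul, hb, mul_zero]
  have hfin : Module.finrank k (AdjoinRoot P) = P.natDegree := (AdjoinRoot.powerBasis hP.ne_zero).finrank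
  have hdr : P.natDegree = r := ((Nat.dvd_prime hr).1 (hfin ▸ hdvd (AdjoinRoot P) ψ)).resolve_left (by omega)
  haveI : Module.Finite k (AdjoinRoot P) := (AdjoinRoot.powerBasis hP.ne_zero).finite
  haveI : Finite (AdjoinRoot P) := Module.finite_of_finite k
  obtain ⟨ρ⟩ := FiniteField.nonempty_algHom_of_finrank_dvd (F := k) (K := K') (L := AdjoinRoot P)
    (by rw [hK', hfin, hdr])
  let φ : K' →ₐ[k] A := ψ.comp ρ
  have hφ : Function.Injective φ := φ.toRingHom.injective
  -- the idempotents
  let g : K' ⊗[k] K' →ₐ[K'] K' ⊗[k] A := Algebra.TensorProduct.map (AlgHom.id K' K') φ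
  have hg : Function.Injective g := by
    have := Module.Flat.lTensor_preserves_injective_linearMap (M := K') φ.toLinearMap hφ
    exact this
  haveI : IsGalois k K' := inferInstance
  letI : Fintype (K' ≃ₐ[k] K') := Fintype.ofFinite _
  let Φ := (AlgEquiv.ofBijective (toPi k K') (toPi_bijective k K')).symm
  let e : (K' ≃ₐ[k] K') → K' ⊗[k] A := fun i => g (Φ (Pi.single i 1))
  have he : CompleteOrthogonalIdempotents e :=
    ((CompleteOrthogonalIdempotents.single (fun _ : K' ≃ₐ[k] K' => K')).map Φ.toAlgHom.toRingHom).map g.toRingHom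
  have he0 : ∀ i, e i ≠ 0 := fun i h => by
    have h1 : Φ (Pi.single i 1) = 0 := hg (h.trans (map_zero g).symm)
    exact Pi.single_ne_zero_iff.2 one_ne_zero (Φ.injective (h1.trans (map_zero Φ).symm))
  -- semilinear symmetries
  have hsym : ∀ τ i : K' ≃ₐ[k] K',
      Algebra.TensorProduct.map τ.toAlgHom (AlgHom.id k A) (e i) = e (τ * i) := by
    intro τ i
    have h1 : ∀ z : K' ⊗[k] K', Algebra.TensorProduct.map τ.toAlgHom (AlgHom.id k A) (g z) =
        g (Algebra.TensorProduct.map τ.toAlgHom (AlgHom.id k K') z) := fun z => by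
      induction z using TensorProduct.induction_on with
      | zero => simp
      | tmul c c' => simp [g]
      | add z z' hz hz' => simp only [map_add, hz, hz']
    have h2 : ∀ (z : K' ⊗[k] K') (σ : K' ≃ₐ[k] K'),
        toPi k K' (Algebra.TensorProduct.map τ.toAlgHom (AlgHom.id k K') z) σ =
          τ (toPi k K' z (τ⁻¹ * σ)) := fun z σ => by
      induction z using TensorProduct.induction_on with
      | zero => simp
      | tmul c c' =>
        rw [Algebra.TensorProduct.map_tmul, toPi_tmul, toPi_tmul, map_mul]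
        show τ c * σ c' = τ c * (τ * (τ⁻¹ * σ)) c'
        rw [mul_inv_cancel_left]
      | add z z' hz hz' => simp only [map_add, Pi.add_apply, hz, hz']
    rw [h1]
    refine congrArg g ((toPi_bijective k K').1 (funext fun σ => ?_))
    have hΦ : ∀ v, toPi k K' (Φ v) = v := fun v =>
      (AlgEquiv.ofBijective _ (toPi_bijective k K')).apply_symm_apply v
    rw [h2, hΦ, hΦ, Pi.single_apply, Pi.single_apply]
    by_cases hσ : τ⁻¹ * σ = i
    · rw [if_pos hσ, if_pos (by rw [← hσ, mul_inv_cancel_left]), map_one]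
    · rw [if_neg hσ, if_neg (fun h => hσ (by rw [h, inv_mul_cancel_left])), map_zero]
  -- blocks
  let R : (K' ≃ₐ[k] K') → (K' ≃ₐ[k] K') → Prop := fun i j => ∃ x, e i * x * e j ≠ 0
  have Rtrans : ∀ {i j l}, R i j → R j l → R i l := fun {i j l} ⟨x, hx⟩ ⟨y, hy⟩ =>
    ⟨x * e j * y, by simpa only [mul_assoc] using hdom e he he0 i j l x y hx hy⟩
  have Rsmul : ∀ τ {i j}, R i j → R (τ * i) (τ * j) := fun τ {i j} ⟨x, hx⟩ => by
    refine ⟨Algebra.TensorProduct.map τ.toAlgHom (AlgHom.id k A) x, ?_⟩
    rw [← hsym, ← hsym, ← map_mul, ← map_mul]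
    intro h
    refine hx ?_
    have h' := congrArg (Algebra.TensorProduct.map (τ⁻¹).toAlgHom (AlgHom.id k A)) h
    rw [map_zero] at h'
    refine Eq.trans ?_ h'
    induction (e i * x * e j) using TensorProduct.induction_on with
    | zero => simp
    | tmul c a =>
      rw [Algebra.TensorProduct.map_tmul, Algebra.TensorProduct.map_tmul]
      congr 1
      show c = τ⁻¹ (τ c)
      exact (τ.symm_apply_apply c).symm
    | add z z' hz hz' => rw [map_add, map_add, ← hz, ← hz']
  have Rrefl : ∀ i, R i i := fun i => ⟨1, by rw [mul_one, (he.idem i).eq]; exact he0 i⟩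
  have Rsymm : ∀ {i j}, R i j → R j i := fun {i j} h => by
    let τ := j * i⁻¹
    have hτ : ∀ m : ℕ, R j (τ ^ m * j) := fun m => by
      induction m with
      | zero => simpa using Rrefl j
      | succ m ih =>
        refine Rtrans ih ?_
        have := Rsmul (τ ^ m * τ) h
        rwa [show τ ^ m * τ * i = τ ^ m * j by simp [τ, mul_assoc], ← pow_succ] at this
    obtain ⟨N, hN⟩ : ∃ N : ℕ, τ ^ N * j = i := ⟨orderOf τ - 1, by
      have hpos : 0 < orderOf τ := (isOfFinOrder_of_finite τ).orderOf_pos
      have h1 : τ ^ (orderOf τ - 1) * τ = 1 := by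
        rw [← pow_succ, Nat.sub_add_cancel hpos, pow_orderOf_eq_one]
      calc τ ^ (orderOf τ - 1) * j = τ ^ (orderOf τ - 1) * τ * i := by simp [τ, mul_assoc]
        _ = i := by rw [h1, one_mul]⟩
    exact hN ▸ hτ N
  -- no nilpotents
  have hzero : ∀ n : A, IsNilpotent n → n = 0 := fun n hn => by_contra fun h0 => by
    obtain ⟨m, hm0, hm, hann⟩ := exists_annihilator hloc hn h0
    let u : K' ⊗[k] A := Algebra.TensorProduct.includeRight m
    have hu0 : u ≠ 0 := fun h =>
      hm0 (Algebra.TensorProduct.includeRight_injective (algebraMap k K').injective (h.trans (map_zero _).symm))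
    have huu : ∀ z : K' ⊗[k] A, u * z * u = 0 := fun z => by
      induction z using TensorProduct.induction_on with
      | zero => simp
      | tmul c a =>
        simp only [u, Algebra.TensorProduct.includeRight_apply, Algebra.TensorProduct.tmul_mul_tmul]
        rw [mul_assoc m a m, hann _ (nilp_mul_left hloc a hm), tmul_zero]
      | add z z' hz hz' => rw [mul_add, add_mul, hz, hz', add_zero]
    obtain ⟨i, j, hij⟩ : ∃ i j, e i * u * e j ≠ 0 := by
      by_contra hc
      push Not at hc
      refine hu0 ?_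
      rw [← one_mul u, ← mul_one (1 * u), ← he.complete, Finset.sum_mul, Finset.sum_mul]
      refine Finset.sum_eq_zero fun i _ => ?_
      rw [Finset.mul_sum]
      exact Finset.sum_eq_zero fun j _ => hc i j
    obtain ⟨x, hx⟩ := Rsymm ⟨u, hij⟩
    have h1 := hdom e he he0 j i j x u hx hij
    refine hdom e he he0 i j j u (x * e i * u) hij (by simpa only [mul_assoc] using h1) ?_
    have : e i * u * e j * (x * e i * u) * e j = e i * (u * (e j * x * e i) * u) * e j := by
      simp only [mul_assoc]
    rw [this, huu, mul_zero, zero_mul]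
  haveI : NoZeroDivisors A := ⟨fun {x y} hxy => (hloc x).elim (fun hn => Or.inl (hzero x hn))
    fun hu => Or.inr (hu.mul_right_eq_zero.1 hxy)⟩
  haveI : IsDomain A := NoZeroDivisors.to_isDomain A
  have hfield : IsField A := Finite.isDomain_to_isField A
  refine ⟨hfield, ?_, fun x y => ?_, e, inferInstance, he, he0⟩
  · refine Nat.le_antisymm ?_ ?_
    · refine Nat.le_of_dvd hr.pos ?_
      letI := hfield.toField
      exact hdvd A (AlgHom.id k A)
    · exact hK' ▸ LinearMap.finrank_le_finrank_of_injective (f := φ.toLinearMap) hφ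
  · induction x using TensorProduct.induction_on with
    | zero => simp
    | add x x' hx hx' => rw [add_mul, mul_add, hx, hx']
    | tmul c a =>
      induction y using TensorProduct.induction_on with
      | zero => simp
      | add y y' hy hy' => rw [add_mul, mul_add, hy, hy']
      | tmul c' a' => rw [Algebra.TensorProduct.tmul_mul_tmul, Algebra.TensorProduct.tmul_mul_tmul, mul_comm c, hfield.mul_comm a]

end Groth.Agent.VB30.GalAlg
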