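import Groth.Agent.Cyc90.GenSec.Main
import Groth.Agent.Var76.SmoothFibre
import Groth.Agent.TopDim50.Basic
import Groth.Agent.SchBasics.Local
import Groth.Agent.Curves2.SmoothNormal
import Groth.Agent.VB30.ClopenSS

/-! A constant combination of generating sections avoids zero on one fibre of a family of curves,
hence over a neighbourhood. -/

set_option autoImplicit false
set_option backward.isDefEq.respectTransparency.types false
set_option linter.style.haveILetI false
set_option linter.unusedSectionVars false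

noncomputable section

universe u

open CategoryTheory CategoryTheory.Limits AlgebraicGeometry TopologicalSpace Opposite IsLocalRing
open Groth.Agent.QC70 Groth.Agent.Props58.LocFree Groth.Agent.Cyc90.GenSec

namespace Groth.Agent.VB30.GenericSub

variable {X : Scheme.{u}}

/-- The section `s` does not vanish at `x`. -/
def NV (E : X.Modules) (s : Γ(E, ⊤)) (x : X) : Prop :=
  germM E ⊤ x trivial s ∉ maximalIdeal (X.presheaf.stalk x) •
    (⊤ : Submodule (X.presheaf.stalk x) (E.presheaf.stalk x))

theorem not_nv_iff {E : X.Modules} {U : X.Opens} {n : ℕ} {S : Fin n → Γ(E, U)} (hS : StalkBasis S)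
    {x : X} (hx : x ∈ U) {β : Fin n → X.presheaf.stalk x} {s : Γ(E, ⊤)}
    (hβ : germComb S x hx β = germM E ⊤ x trivial s) :
    ¬ NV E s x ↔ ∀ j, β j ∈ maximalIdeal (X.presheaf.stalk x) := by
  rw [NV, not_not]
  let φ := LinearEquiv.ofBijective
    (Fintype.linearCombination (X.presheaf.stalk x) fun i => germM E U x hx (S i)) (by
      convert hS x hx using 1
      exact funext fun c => Fintype.linearCombination_apply _ _ _)
  have he : φ β = germM E ⊤ x trivial s := by
    rw [← hβ]
    exact Fintype.linearCombination_apply _ _ _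
  constructor
  · intro hmem j
    have h := Submodule.mem_map_of_mem (f := φ.symm.toLinearMap) hmem
    rw [Submodule.map_smul'', Submodule.map_top, LinearEquiv.range] at h
    rw [← he] at h
    simp only [LinearEquiv.coe_coe, LinearEquiv.symm_apply_apply] at h
    have h' := Submodule.mem_map_of_mem (f := LinearMap.proj j) h
    rw [Submodule.map_smul''] at h'
    exact (Submodule.smul_le.2 fun a ha b _ => Ideal.mul_mem_right b _ ha) h'
  · intro h
    rw [← he]
    show Fintype.linearCombination _ _ _ ∈ _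
    rw [Fintype.linearCombination_apply]
    exact sum_mem fun i _ => Submodule.smul_mem_smul (h i) trivial

theorem isOpen_nv {r : ℕ} {E : X.Modules} (hE : FlatMod.IsFinLocFreeOfRank r E) (s : Γ(E, ⊤)) :
    IsOpen {x | NV E s x} := by
  refine isOpen_iff_forall_mem_open.2 fun x hx => ?_
  obtain ⟨U, hxU, ⟨e⟩⟩ := hE x
  obtain ⟨S, hS⟩ := exists_stalkBasis_of_iso e
  obtain ⟨a, ha⟩ := hS.exists_comb le_rfl (res E le_top s)
  have hβ : ∀ (y : X) (hy : y ∈ U), germComb S y hy (fun i => X.presheaf.germ U y hy (a i)) =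
      germM E ⊤ y trivial s := fun y hy => by
    rw [← germ_comb S le_rfl a y hy, ha, germM_res]
  obtain ⟨j, hj⟩ : ∃ j, X.presheaf.germ U x hxU (a j) ∉ maximalIdeal (X.presheaf.stalk x) := by
    by_contra hc
    push Not at hc
    exact (not_nv_iff hS hxU (hβ x hxU)).2 hc hx
  rw [mem_maximalIdeal, mem_nonunits_iff, not_not] at hj
  refine ⟨X.basicOpen (a j), fun y hy => ?_, (X.basicOpen (a j)).2, (X.mem_basicOpen _ x hxU).2 hj⟩
  have hyU := X.basicOpen_le _ hy
  by_contra hc
  exact (mem_maximalIdeal _).1 ((not_nv_iff hS hyU (hβ y hyU)).1 hc j) ((X.mem_basicOpen _ y hyU).1 hy)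

/-- A nowhere vanishing section splits off, without noetherian hypotheses. -/
theorem mono_and_rank {r : ℕ} {E : X.Modules} (hE : FlatMod.IsFinLocFreeOfRank (r + 1) E) (s : Γ(E, ⊤))
    (hs : ∀ x, NV E s x) :
    Mono (unitHom s) ∧ FlatMod.IsFinLocFreeOfRank r (cokernel (unitHom s)) := by
  classical
  have hEl : FlatMod.IsFinLocFree E := fun x => by
    obtain ⟨U, hx, h⟩ := hE x; exact ⟨U, r + 1, hx, h⟩
  have hu : ∀ (x : X) (c : X.presheaf.stalk x),
      stalkMapM (unitHom s) x (unitStalkEquiv x c) = c • germM E ⊤ x trivial s := fun x c => by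
    rw [show unitStalkEquiv x c = c • germM (unitMod X) ⊤ x trivial (toUnit 1) from rfl]
    refine ((stalkLinear (unitHom s) x).map_smul c _).trans (congrArg (c • ·) ?_)
    show stalkMapM (unitHom s) x _ = _
    rw [stalkMapM_germ, unitHom_app_one]
  have key : ∀ x : X, ∃ φ : (Fin (r + 1) → X.presheaf.stalk x) ≃ₗ[X.presheaf.stalk x] E.presheaf.stalk x,
      ∃ j, IsUnit (φ.symm (germM E ⊤ x trivial s) j) := fun x => by
    obtain ⟨U, hxU, ⟨e⟩⟩ := hE x
    obtain ⟨S, hS⟩ := exists_stalkBasis_of_iso e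
    let φ := LinearEquiv.ofBijective
      (Fintype.linearCombination (X.presheaf.stalk x) fun i => germM E U x hxU (S i)) (by
        convert hS x hxU using 1
        exact funext fun c => Fintype.linearCombination_apply _ _ _)
    refine ⟨φ, ?_⟩
    by_contra hc
    push Not at hc
    have hβ : germComb S x hxU (φ.symm (germM E ⊤ x trivial s)) = germM E ⊤ x trivial s := by
      refine Eq.trans ?_ (φ.apply_symm_apply _)
      exact (Fintype.linearCombination_apply _ _ _).symm
    exact (not_nv_iff hS hxU hβ).2 (fun i => (mem_maximalIdeal _).2 (hc i)) (hs x)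
  have hmono : Mono (unitHom s) := mono_of_injective_stalkMapM _ fun x a b hab => by
    obtain ⟨c, rfl⟩ := (unitStalkEquiv x).surjective a
    obtain ⟨d, rfl⟩ := (unitStalkEquiv x).surjective b
    rw [hu, hu] at hab
    obtain ⟨φ, j, hj⟩ := key x
    have h := congrFun (congrArg φ.symm hab) j
    rw [map_smul, map_smul, Pi.smul_apply, Pi.smul_apply, smul_eq_mul, smul_eq_mul] at h
    exact congrArg _ (hj.mul_left_injective h)
  have hstalk : ∀ x : X, Nonempty ((Fin r → X.presheaf.stalk x) ≃ₗ[X.presheaf.stalk x]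
      (cokernel (unitHom s)).presheaf.stalk x) := fun x => by
    obtain ⟨φ, j, hj⟩ := key x
    set u := φ.symm (germM E ⊤ x trivial s)
    have hex : ∀ z, stalkMapM (cokernel.π (unitHom s)) x z = 0 ↔ ∃ c, c • germM E ⊤ x trivial s = z := fun z => by
      constructor
      · intro hz
        obtain ⟨d, hd⟩ := stalkMapM_exact (ShortComplex.mk (unitHom s) (cokernel.π _) (cokernel.condition _))
          (ShortComplex.exact_of_g_is_cokernel _ (cokernelIsCokernel _)) x z hz
        obtain ⟨c, rfl⟩ := (unitStalkEquiv x).surjective d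
        exact ⟨c, (hu x c).symm.trans hd⟩
      · rintro ⟨c, rfl⟩
        rw [← hu, ← stalkMapM_comp, cokernel.condition, stalkMapM_zero]
    let ins : (Fin r → X.presheaf.stalk x) →ₗ[X.presheaf.stalk x] E.presheaf.stalk x :=
      φ.toLinearMap ∘ₗ Fintype.linearCombination (X.presheaf.stalk x)
        fun i => (Pi.single (j.succAbove i) 1 : Fin (r + 1) → X.presheaf.stalk x)
    have hins : ∀ w, ins w = φ (j.insertNth 0 w) := fun w => by
      show φ (Fintype.linearCombination _ _ w) = _
      rw [Fintype.linearCombination_apply]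
      refine congrArg φ (funext fun m => ?_)
      rcases Fin.eq_self_or_eq_succAbove j m with rfl | ⟨m, rfl⟩ <;>
        simp [Finset.sum_apply, Pi.single_apply, Fin.ne_succAbove]
    refine ⟨LinearEquiv.ofBijective ((stalkLinear (cokernel.π (unitHom s)) x).comp ins)
      ⟨(injective_iff_map_eq_zero _).2 fun w hw => ?_, fun z => ?_⟩⟩
    · obtain ⟨c, hc⟩ := (hex (ins w)).1 hw
      have h := congrArg φ.symm hc
      rw [map_smul, hins, LinearEquiv.symm_apply_apply] at h
      have hc0 : c = 0 := by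
        have := congrFun h j
        rw [Pi.smul_apply, smul_eq_mul, Fin.insertNth_apply_same] at this
        exact (hj.mul_left_eq_zero).1 this
      funext m
      have := congrFun h (j.succAbove m)
      rw [hc0, zero_smul, Pi.zero_apply, Fin.insertNth_apply_succAbove] at this
      exact this.symm
    · obtain ⟨e, rfl⟩ := surjective_stalkMapM_of_epi (cokernel.π (unitHom s)) x z
      let w := φ.symm e
      let c : X.presheaf.stalk x := w j * ↑hj.unit⁻¹
      refine ⟨fun m => w (j.succAbove m) - c * u (j.succAbove m), ?_⟩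
      refine sub_eq_zero.1 ((map_sub (stalkLinear (cokernel.π (unitHom s)) x) _ e).symm.trans ?_)
      refine (hex _).2 ⟨-c, φ.symm.injective ?_⟩
      rw [map_smul, map_sub, hins, LinearEquiv.symm_apply_apply]
      funext m
      rcases Fin.eq_self_or_eq_succAbove j m with rfl | ⟨m, rfl⟩
      · rw [Pi.smul_apply, Pi.sub_apply, Fin.insertNth_apply_same, smul_eq_mul]
        show -c * u m = 0 - w m
        rw [zero_sub, neg_mul, neg_inj, mul_assoc, IsUnit.val_inv_mul, mul_one]
      · rw [Pi.smul_apply, Pi.sub_apply, Fin.insertNth_apply_succAbove, smul_eq_mul]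
        ring
  refine ⟨hmono, ?_⟩
  have hf : ∀ x, Module.Free (X.presheaf.stalk x) ((cokernel (unitHom s)).presheaf.stalk x) := fun x =>
    Module.Free.of_equiv (hstalk x).some
  have hft : (cokernel (unitHom s)).IsFiniteType := by
    haveI : E.IsFiniteType := isFiniteType_of_isFinLocFree hEl
    exact QC70.isFiniteType_of_epi (cokernel.π (unitHom s))
  have hlc : IsLocallyConstant (fiberRank (cokernel (unitHom s))) := by
    refine IsLocallyConstant.of_constant _ fun x y => ?_
    have h : ∀ z, fiberRank (cokernel (unitHom s)) z = r := fun z => by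
      have := hf z
      rw [fiberRank, Module.finrank_baseChange, ← (hstalk z).some.finrank_eq, Module.finrank_fin_fun]
    rw [h x, h y]
  intro x
  obtain ⟨U, n, hx, ⟨e⟩⟩ := isFinLocFree_of_free_stalks hf hlc x
  obtain ⟨S, hS⟩ := exists_stalkBasis_of_iso e
  have hn : n = r := by
    have h1 := ((hS.stalkEquiv x hx).trans (hstalk x).some.symm).finrank_eq
    rwa [Module.finrank_fin_fun, Module.finrank_fin_fun] at h1
  exact ⟨U, hx, ⟨e ≪≫ eqToIso (by rw [hn])⟩⟩

/-- Every point of a Noetherian scheme smooth over a field has an integral open neighbourhood. -/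
theorem exists_integral_nhd {κ : Type u} [Field κ] {Z : Scheme.{u}} (g : Z ⟶ Spec (CommRingCat.of κ))
    [Smooth g] [NoetherianSpace Z] (z : Z) : ∃ C : Z.Opens, z ∈ C ∧ IsIntegral (C : Scheme.{u}) := by
  let C : Z.Opens := ⟨connectedComponent z, (Clopen.isClopen_component z).2⟩
  have : ConnectedSpace (C : Scheme.{u}) := isConnected_iff_connectedSpace.1 isConnected_connectedComponent
  have : IsLocallyNoetherian (C : Scheme.{u}) := LocallyOfFiniteType.isLocallyNoetherian (C.ι ≫ g)
  exact ⟨C, mem_connectedComponent, SchBasics.isIntegral_iff_connectedSpace_and_isDomain.mpr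
    ⟨inferInstance, fun x => (Curves2.isIntegrallyClosed_stalk_of_smooth (C.ι ≫ g) x).1⟩⟩

variable {k : Type u} [Field k] [Infinite k] [X.Over (Spec (CommRingCat.of k))]

set_option maxHeartbeats 1000000 in
/-- Some constant combination vanishes nowhere on the image of a smooth family of dimension `< r`. -/
theorem exists_nv {κ : Type u} [Field κ] {Z : Scheme.{u}} (g : Z ⟶ Spec (CommRingCat.of κ)) [Smooth g]
    [CompactSpace Z] (ι : Z ⟶ X) (ψ : k →+* κ)
    (hι : ι ≫ (X ↘ Spec (CommRingCat.of k)) = g ≫ Spec.map (CommRingCat.ofHom ψ))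
    {r : ℕ} {E : X.Modules} (hE : FlatMod.IsFinLocFreeOfRank r E)
    (hdim : topologicalKrullDim Z < (r : WithBot ℕ∞)) {L : Type u} [Fintype L] (t : L → Γ(E, ⊤))
    (hgen : ∀ x : X,
      Submodule.span (X.presheaf.stalk x) (Set.range fun l => germM E ⊤ x trivial (t l)) = ⊤) :
    ∃ v : L → k, ∀ z : Z, NV E (comb t v) (ι z) := by
  classical
  have : IsLocallyNoetherian Z := LocallyOfFiniteType.isLocallyNoetherian g
  have : IsNoetherian Z := {}
  choose W a hxW hW using fun x : X => exists_frame_of_span hE t (hgen x)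
  have hloc : ∀ z : Z, ∃ (W' : Z.Opens) (F : MvPolynomial L κ), z ∈ W' ∧ F ≠ 0 ∧
      ∀ (v : L → k) (y : Z), y ∈ W' → ¬ NV E (comb t v) (ι y) → MvPolynomial.eval (ψ ∘ v) F = 0 := by
    intro z
    let U := (W (ι z)).1
    obtain ⟨C, hzC, hC⟩ := exists_integral_nhd g z
    obtain ⟨W', hW', hzW', hle⟩ := exists_isAffineOpen_mem_and_subset
      (U := C ⊓ ι ⁻¹ᵁ U) (x := z) ⟨hzC, hxW (ι z)⟩
    have hWC : W' ≤ C := fun y hy => (hle hy).1
    have hWU : W' ≤ ι ⁻¹ᵁ U := fun y hy => (hle hy).2
    refine ⟨W', ?_⟩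
    haveI : Nonempty W' := ⟨⟨z, hzW'⟩⟩
    haveI : IsIntegral (W' : Scheme.{u}) := isIntegral_of_isOpenImmersion (Z.homOfLE hWC)
    haveI : IsDomain Γ(Z, W') := MulEquiv.isDomain Γ((W' : Scheme.{u}), ⊤)
      W'.topIso.symm.commRingCatIsoToRingEquiv.toMulEquiv
    let ρ : κ →+* Γ(Z, W') := (g.appLE ⊤ W' le_top).hom.comp (Scheme.ΓSpecIso (CommRingCat.of κ)).inv.hom
    let σ : k →+* Γ(X, U) := ((X ↘ Spec (CommRingCat.of k)).appLE ⊤ U le_top).hom.comp
      (Scheme.ΓSpecIso (CommRingCat.of k)).inv.hom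
    have hσ : ∀ c : k, ι.appLE U W' hWU (σ c) = ρ (ψ c) := by
      intro c
      have h1 : Scheme.Hom.appLE (ι ≫ (X ↘ Spec (CommRingCat.of k))) ⊤ W' le_top =
          (X ↘ Spec (CommRingCat.of k)).appLE ⊤ U le_top ≫ ι.appLE U W' hWU :=
        (Scheme.Hom.appLE_comp_appLE _ _ _ _ _ _ _).symm
      rw [OmegaSh.appLE_congr_hom hι le_top (by exact le_top), Scheme.Hom.comp_appLE] at h1
      have h2 := congrArg (fun φ => φ.hom ((Scheme.ΓSpecIso (CommRingCat.of k)).inv.hom c)) h1
      refine h2.symm.trans ?_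
      change (g.appLE _ W' _).hom ((Spec.map (CommRingCat.ofHom ψ)).app ⊤ _) = _
      exact congrArg _ (congr($((Scheme.ΓSpecIso_inv_naturality (CommRingCat.ofHom ψ))) c)).symm
    letI : Algebra κ Γ(Z, W') := ρ.toAlgebra
    haveI : Algebra.FiniteType κ Γ(Z, W') := by
      have h := g.finiteType_appLE (isAffineOpen_top _) hW' le_top
      exact RingHom.FiniteType.comp h (RingHom.FiniteType.of_surjective
        (Scheme.ΓSpecIso (CommRingCat.of κ)).inv.hom
        (Scheme.ΓSpecIso (CommRingCat.of κ)).commRingCatIsoToRingEquiv.symm.surjective)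
    have hdimU : ringKrullDim Γ(Z, W') < (r : WithBot ℕ∞) := by
      refine lt_of_le_of_lt ?_ hdim
      rw [← PrimeSpectrum.topologicalKrullDim_eq_ringKrullDim]
      exact hW'.fromSpec.isOpenEmbedding.isInducing.topologicalKrullDim_le
    choose c hc using fun l => (hW (ι z)).exists_comb (W := U) le_rfl (res E le_top (t l))
    have hc' : ∀ (y : X) (hy : y ∈ U) (l : L),
        germComb (fun i => res E (le_top : U ≤ ⊤) (t (a (ι z) i))) y hy
          (fun j => X.presheaf.germ U y hy (c l j)) = germM E ⊤ y trivial (t l) := fun y hy l => by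
      have h := congrArg (germM E U y hy) (hc l)
      rw [germ_comb] at h
      exact h.trans (germM_res _ _ _)
    have ha : ∀ i j, c (a (ι z) i) j = if i = j then 1 else 0 := fun i j => by
      refine congrFun ((hW (ι z)).eq_of_comb le_rfl (b := fun j => if i = j then (1 : Γ(X, U)) else 0)
        ((hc (a (ι z) i)).trans ?_)) j
      rw [Finset.sum_eq_single i]
      · rw [if_pos rfl, one_smul]; exact (res_res _ _ _).symm
      · intro j _ hne; rw [if_neg (fun h => hne h.symm), zero_smul]
      · simp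
    obtain ⟨F, hF0, hF⟩ := exists_poly_unimodular κ Γ(Z, W') r hdimU
      (fun l j => ι.appLE U W' hWU (c l j)) (a (ι z))
      (fun i j => by show ι.appLE U W' hWU (c _ j) = _; rw [ha, apply_ite (ι.appLE U W' hWU).hom, map_one, map_zero])
    refine ⟨F, hzW', hF0, fun v y hy hbad => hF (ψ ∘ v) (hW'.primeIdealOf ⟨y, hy⟩).asIdeal inferInstance fun j => ?_⟩
    let S := fun i => res E (le_top : U ≤ ⊤) (t (a (ι z) i))
    have hιy : ι y ∈ U := hWU hy
    let β : Fin r → X.presheaf.stalk (ι y) :=
      fun j => X.presheaf.germ U (ι y) hιy (∑ l, σ (v l) * c l j)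
    have hβ : germComb S (ι y) hιy β = germM E ⊤ (ι y) trivial (comb t v) := by
      rw [comb, germM_sum]
      simp only [germComb, β, map_sum, map_mul, Finset.sum_smul, mul_smul]
      rw [Finset.sum_comm]
      refine Finset.sum_congr rfl fun l _ => ?_
      rw [← Finset.smul_sum, germM_smul]
      exact congrArg₂ (· • ·) (TopCat.Presheaf.germ_res_apply X.presheaf (homOfLE (le_top : U ≤ ⊤)) (ι y) hιy _)
        (hc' (ι y) hιy l)
    have hj := (not_nv_iff (hW (ι z)) hιy hβ).1 hbad j
    have hj' : Z.presheaf.germ W' y hy (ι.appLE U W' hWU (∑ l, σ (v l) * c l j)) ∈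
        maximalIdeal (Z.presheaf.stalk y) := by
      have e : Z.presheaf.germ W' y hy (ι.appLE U W' hWU (∑ l, σ (v l) * c l j)) = (ι.stalkMap y).hom (β j) := by
        show _ = (ι.stalkMap y).hom (X.presheaf.germ U (ι y) hιy _)
        rw [Scheme.Hom.germ_stalkMap_apply, Scheme.Hom.appLE, CategoryTheory.comp_apply,
          TopCat.Presheaf.germ_res_apply]
      rw [e]
      exact (mem_maximalIdeal _).2 fun hu => (mem_maximalIdeal _).1 hj (isUnit_of_map_unit (ι.stalkMap y).hom _ hu)
    letI := TopCat.Presheaf.algebra_section_stalk Z.presheaf ⟨y, hy⟩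
    haveI := hW'.isLocalization_stalk ⟨y, hy⟩
    have hsum : (ι.appLE U W' hWU).hom (∑ l, σ (v l) * c l j) =
        ∑ l, algebraMap κ Γ(Z, W') ((ψ ∘ v) l) * ι.appLE U W' hWU (c l j) := by
      rw [map_sum]
      exact Finset.sum_congr rfl fun l _ => by rw [map_mul, hσ]; rfl
    rw [← hsum]
    exact (IsLocalization.AtPrime.to_map_mem_maximal_iff (Z.presheaf.stalk y)
      (hW'.primeIdealOf ⟨y, hy⟩).asIdeal _).1 hj'
  choose W' F hzW' hF0 hF using hloc
  obtain ⟨T, hT⟩ := isCompact_univ.elim_finite_subcover (fun z : Z => (W' z : Set Z))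
    (fun z => (W' z).2) (fun z _ => Set.mem_iUnion.2 ⟨z, hzW' z⟩)
  have hne : ∏ z ∈ T, F z ≠ 0 := Finset.prod_ne_zero_iff.2 fun z _ => hF0 z
  obtain ⟨v, hv⟩ : ∃ v : L → k, MvPolynomial.eval (ψ ∘ v) (∏ z ∈ T, F z) ≠ 0 := by
    by_contra hc
    push Not at hc
    refine hne (MvPolynomial.funext_set (fun _ => Set.range ψ)
      (fun _ => Set.infinite_range_of_injective ψ.injective) fun w hw => ?_)
    choose v hv using fun l => hw l trivial
    obtain rfl : ψ ∘ v = w := funext hv
    rw [hc v, map_zero]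
  refine ⟨v, fun y => ?_⟩
  obtain ⟨z, hz, hyz⟩ := Set.mem_iUnion₂.1 (hT (Set.mem_univ y))
  by_contra hbad
  rw [map_prod] at hv
  exact Finset.prod_ne_zero_iff.1 hv z hz (hF z v y hyz hbad)

/-- Along one fibre of a proper family of curves, hence over a neighbourhood. -/
theorem exists_nbhd [CompactSpace X] {U : Scheme.{u}} (f : X ⟶ U) [SmoothOfRelativeDimension 1 f] [IsProper f]
    (g : U ⟶ Spec (CommRingCat.of k)) (hg : f ≫ g = X ↘ Spec (CommRingCat.of k))
    {r : ℕ} {E : X.Modules} (hE : FlatMod.IsFinLocFreeOfRank r E) (hr : 2 ≤ r)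
    (hgen : Curv2.IsGloballyGenerated E) (u : U) :
    ∃ (s : Γ(E, ⊤)) (V : U.Opens), u ∈ V ∧ ∀ x : X, f x ∈ V → NV E s x := by
  obtain ⟨L, _, t, ht⟩ := exists_finite_generating hE hgen
  let ψ : k →+* U.residueField u :=
    (Spec.preimage (U.fromSpecResidueField u ≫ g)).hom
  have hsm : SmoothOfRelativeDimension 1 (f.fiberToSpecResidueField u) :=
    (smoothOfRelativeDimension_isStableUnderBaseChange 1).of_isPullback
      (IsPullback.of_hasPullback f (U.fromSpecResidueField u)) ‹_›
  have : Smooth (f.fiberToSpecResidueField u) := SmoothOfRelativeDimension.smooth 1 _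
  have hι : f.fiberι u ≫ (X ↘ Spec (CommRingCat.of k)) =
      f.fiberToSpecResidueField u ≫ Spec.map (CommRingCat.ofHom ψ) := by
    rw [← hg, ← Category.assoc, Scheme.Hom.fiber_fac, Category.assoc]
    congr 1
    exact (Spec.map_preimage (U.fromSpecResidueField u ≫ g)).symm
  have : CompactSpace (f.fiber u) := QuasiCompact.compactSpace_of_compactSpace (f.fiberToSpecResidueField u)
  have hdim : topologicalKrullDim (f.fiber u) < (r : WithBot ℕ∞) := by
    refine lt_of_le_of_lt (b := ((1 : ℕ) : WithBot ℕ∞)) ?_ (by exact_mod_cast hr)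
    rw [TopDim50.dim_eq_iSup_irreducibleComponents]
    refine iSup₂_le fun C hC => ?_
    exact (@Var76.SmoothFibre.dim_component _ _ _ (f.fiberToSpecResidueField u) 1 hsm C hC).le
  let g' : f.fiber u ⟶ Spec (CommRingCat.of (U.residueField u)) := f.fiberToSpecResidueField u
  have : Smooth g' := SmoothOfRelativeDimension.smooth 1 (f.fiberToSpecResidueField u)
  obtain ⟨v, hv⟩ := exists_nv g' (f.fiberι u) ψ hι hE hdim t ht
  refine ⟨comb t v, ⟨(f '' {x | NV E (comb t v) x}ᶜ)ᶜ,
    (f.isClosedMap _ (isOpen_nv hE _).isClosed_compl).isOpen_compl⟩, ?_, fun x hx => ?_⟩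
  · rintro ⟨x, hx, rfl⟩
    have h := hv (f.asFiber x)
    rw [Scheme.Hom.fiberι_asFiber] at h
    exact hx h
  · by_contra hc
    exact hx ⟨x, hc, rfl⟩

end Groth.Agent.VB30.GenericSub
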