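import Groth.Agent.VB30.Tensor
import Groth.Agent.QC70.ExtCoh
import Groth.Agent.QC70.HomLocFree
import Groth.Agent.QC70.HomTensor

/-! The sheaf-Hom sequence of an extension of bundles. -/

set_option autoImplicit false
set_option linter.style.haveILetI false
set_option linter.unusedSectionVars false
set_option backward.isDefEq.respectTransparency.types false

noncomputable section

universe u

open CategoryTheory CategoryTheory.Limits AlgebraicGeometry TopologicalSpace Opposite
open Groth.Agent.QC70 Groth.Agent.Props58.LocFree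

namespace Groth.Agent.VB30

variable {X : Scheme.{u}}

theorem exists_local_section {M P : X.Modules} (g : M ⟶ P) [Epi g] (hP : FlatMod.IsFinLocFree P) (p : X) :
    ∃ (W : X.Opens) (σ : HomOn P M W), p ∈ W ∧ σ.comp (HomOn.ofHom g W) = HomOn.ofHom (𝟙 P) W := by
  classical
  obtain ⟨U, n, s, hpU, hs⟩ := isFinLocFree_iff.mp hP p
  choose V hV t hpV ht using fun i => exists_local_lift g (s i) hpU
  let W : X.Opens := ⟨(U : Set X) ∩ ⋂ i, (V i : Set X), U.2.inter (isOpen_iInter_of_finite fun i => (V i).2)⟩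
  have hWU : W ≤ U := fun y hy => hy.1
  have hWV : ∀ i, W ≤ V i := fun i y hy => Set.mem_iInter.mp hy.2 i
  refine ⟨W, HomOn.ofBasis (hs.restrict hWU) (fun i => res M (hWV i) (t i)),
    ⟨hpU, Set.mem_iInter.mpr hpV⟩, HomOn.ext' fun Z hZ z => ?_⟩
  obtain ⟨a, rfl⟩ := (hs.restrict hWU).exists_comb hZ z
  change g.app Z ((HomOn.ofBasis _ _).app Z hZ _) = (𝟙 P : P ⟶ P).app Z _
  rw [HomOn.ofBasis_app_comb, map_sum]
  show _ = ∑ i, a i • res P hZ (res P hWU (s i))
  refine Finset.sum_congr rfl fun i _ => ?_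
  rw [Scheme.Modules.Hom.app_smul, app_res, app_res, ht, res_res (hV i) (hWV i), res_res hWU hZ]

/-- `0 → Hom(C, N) → Hom(B, N) → Hom(A, N) → 0` for a bundle `C`. -/
theorem shortExact_homComap_lf {S : ShortComplex X.Modules} (hS : S.ShortExact)
    (h₃ : FlatMod.IsFinLocFree S.X₃) (N : X.Modules) :
    (ShortComplex.mk ((homComap S.g).app N) ((homComap S.f).app N)
      (homComap_comp_eq_zero N)).ShortExact := by
  have := hS.mono_f
  have := hS.epi_g
  let R := fun U : X.Opens => Scheme.Modules.restrictFunctor U.ι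
  have hinj : ∀ (U : X.Opens), Function.Injective (((homComap S.g).app N).app U) := fun U φ ψ h => by
    haveI : Epi ((R U).map S.g) := inferInstance
    refine HomOn.toRestrictHom_injective ((cancel_epi ((R U).map S.g)).mp ?_)
    rw [← HomOn.toRestrictHom_comp, ← HomOn.toRestrictHom_comp]
    exact congrArg HomOn.toRestrictHom h
  have hex : ∀ (U : X.Opens) (φ : Γ(homMod S.X₂ N, U)),
      ((homComap S.f).app N).app U φ = 0 → ∃ ψ, ((homComap S.g).app N).app U ψ = φ := fun U φ h => by
    have hmap : (S.map (R U)).Exact := hS.exact.map (R U)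
    haveI : Epi (S.map (R U)).g := inferInstanceAs (Epi ((R U).map S.g))
    have h0 : (R U).map S.f ≫ (ofSec φ).toRestrictHom = 0 := by
      rw [← HomOn.toRestrictHom_comp, ← HomOn.toRestrictHom_zero (M := S.X₁) (N := N) (U := U)]
      exact congrArg HomOn.toRestrictHom h
    refine ⟨(HomOn.ofRestrictHom (hmap.desc (ofSec φ).toRestrictHom h0)).toSec,
      HomOn.toRestrictHom_injective ?_⟩
    refine (HomOn.toRestrictHom_comp _ _).trans ?_
    rw [HomOn.toRestrictHom_ofRestrictHom]
    exact hmap.g_desc _ h0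
  have hmono : Mono ((homComap S.g).app N) := mono_of_app_injective _ hinj
  have hepi : Epi ((homComap S.f).app N) := epi_of_locally_surjective _ fun U φ p hp => by
    obtain ⟨W₀, σ₀, hpW₀, hσ₀⟩ := exists_local_section S.g h₃ p
    let W : X.Opens := U ⊓ W₀
    let σ : HomOn S.X₃ S.X₂ W := σ₀.mono inf_le_right
    have hσ : σ.comp (HomOn.ofHom S.g W) = HomOn.ofHom (𝟙 S.X₃) W :=
      congrArg (fun ψ => ψ.mono (inf_le_right : W ≤ W₀)) hσ₀
    have hmap : (S.map (R W)).Exact := hS.exact.map (R W)
    haveI : Mono (S.map (R W)).f := inferInstanceAs (Mono ((R W).map S.f))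
    have hsec : σ.toRestrictHom ≫ (R W).map S.g = 𝟙 _ := by
      have e1 : (σ.comp (HomOn.ofHom S.g W)).toRestrictHom = σ.toRestrictHom ≫ (R W).map S.g :=
        Scheme.Modules.hom_ext _ _ fun Z => by
          ext z
          rfl
      rw [← e1, hσ]
      exact Scheme.Modules.hom_ext _ _ fun Z => by
        ext z
        rfl
    let sp := ShortComplex.Splitting.ofExactOfSection (S.map (R W)) hmap σ.toRestrictHom hsec inferInstance
    refine ⟨W, inf_le_left, (HomOn.ofRestrictHom (sp.r ≫
      (ofSec (res (homMod S.X₁ N) (inf_le_left : W ≤ U) φ)).toRestrictHom)).toSec, ⟨hp, hpW₀⟩, ?_⟩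
    refine HomOn.toRestrictHom_injective ?_
    refine (HomOn.toRestrictHom_comp _ _).trans ?_
    rw [HomOn.toRestrictHom_ofRestrictHom, ← Category.assoc]
    exact (congrArg (· ≫ _) sp.f_r).trans (Category.id_comp _)
  refine { exact := ?_, mono_f := hmono, epi_g := hepi }
  rw [ShortComplex.exact_iff_epi_kernel_lift]
  refine epi_of_locally_surjective _ fun U s p hp => ?_
  obtain ⟨ψ, hψ⟩ := hex U ((kernel.ι ((homComap S.f).app N)).app U s) (by
    have := congr((Scheme.Modules.Hom.app $(kernel.condition ((homComap S.f).app N)) U) s)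
    exact this)
  refine ⟨U, le_rfl, ψ, hp, ?_⟩
  rw [res_self]
  refine app_injective_of_mono (kernel.ι ((homComap S.f).app N)) U (Eq.trans ?_ hψ)
  exact congr((Scheme.Modules.Hom.app $(kernel.lift_ι ((homComap S.f).app N)
    ((homComap S.g).app N) _) U) ψ)

end Groth.Agent.VB30
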