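import Groth.Agent.VB30.Basic
import Groth.Agent.VB30.ClopenLine
import Groth.Agent.VB30.Setup
import Groth.Agent.Grass5.FlagStep
import Groth.Prelude.Def_ModFun
import Groth.Agent.Betti41.FibRank

/-! Maps of Nori semistable bundles have constant rank. -/

set_option autoImplicit false
set_option linter.style.haveILetI false
set_option linter.unusedSectionVars false
set_option backward.isDefEq.respectTransparency.types false

noncomputable section

universe u

open CategoryTheory CategoryTheory.Limits AlgebraicGeometry TopologicalSpace Opposite IsLocalRing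
open Groth.Agent.QC70 Groth.Agent.Props58.LocFree

namespace Groth.Agent.VB30.NoriRank

open TensorProduct in
/-- Fibre ranks of inverse images. -/
theorem fiberRank_pullback {T X : Scheme.{u}} (f : T ⟶ X) (M : X.Modules) (t : T) :
    fiberRank ((Scheme.Modules.pullback f).obj M) t = fiberRank M (f t) := by
  let A := X.presheaf.stalk (f t)
  let B := T.presheaf.stalk t
  let K := ResidueField B
  let N := ((Scheme.Modules.pullback f).obj M).presheaf.stalk t
  letI : Algebra A B := (f.stalkMap t).hom.toAlgebra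
  letI := Module.compHom N (f.stalkMap t).hom
  haveI : IsScalarTower A B N := IsScalarTower.of_algebraMap_smul fun r e => rfl
  haveI : IsLocalHom (algebraMap A B) := inferInstanceAs (IsLocalHom (f.stalkMap t).hom)
  show Module.finrank K (K ⊗[B] N) = _
  have e₁ : Module.finrank K (K ⊗[B] (B ⊗[A] M.presheaf.stalk (f t))) = Module.finrank K (K ⊗[B] N) :=
    LinearEquiv.finrank_eq (AlgebraTensorModule.congr (LinearEquiv.refl K K)
      (DCK91.isBaseChange_pullη f M t).equiv)
  have e₂ : Module.finrank K (K ⊗[B] (B ⊗[A] M.presheaf.stalk (f t))) = Module.finrank K (K ⊗[A] M.presheaf.stalk (f t)) :=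
    LinearEquiv.finrank_eq (AlgebraTensorModule.cancelBaseChange A B K K (M.presheaf.stalk (f t)))
  have e₃ : Module.finrank K (K ⊗[ResidueField A] (ResidueField A ⊗[A] M.presheaf.stalk (f t))) =
      Module.finrank K (K ⊗[A] M.presheaf.stalk (f t)) :=
    LinearEquiv.finrank_eq (AlgebraTensorModule.cancelBaseChange A (ResidueField A) K K (M.presheaf.stalk (f t)))
  rw [← e₁, e₂, ← e₃, Module.finrank_baseChange]

/-- A dominated centre. -/
theorem exists_through {k : Type u} [Field k] {C X : Scheme.{u}}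
    [IsIntegral C] (sC : C ⟶ Spec (CommRingCat.of k)) [IsProper sC] (hdim : topologicalKrullDim C ≤ 1)
    (hval : ∀ c : C, ∃ _ : IsDomain (C.presheaf.stalk c), ValuationRing (C.presheaf.stalk c))
    (sX : X ⟶ Spec (CommRingCat.of k)) [LocallyOfFiniteType sX] (γ : C ⟶ X) (hγ : γ ≫ sX = sC)
    {y : X} (hy : γ (genericPoint C) ⤳ y) (hne : γ (genericPoint C) ≠ y) :
    ∃ γ' : C ⟶ X, γ' ≫ sX = sC ∧ γ' (genericPoint C) = γ (genericPoint C) ∧
      ∃ c : C, γ' c = y := by
  classical
  haveI : IsNoetherian C := by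
    letI : C.Over (Spec (CommRingCat.of k)) := ⟨sC⟩
    haveI : IsProper (C ↘ Spec (CommRingCat.of k)) := ‹IsProper sC›
    exact Crv77.isNoetherian_of_proper (k := k) (X := C)
  let η := genericPoint C
  let L := C.functionField
  let ψ : X.presheaf.stalk y ⟶ C.functionField := X.presheaf.stalkSpecializes hy ≫ γ.stalkMap η
  obtain ⟨V, hV⟩ := LocalSubring.exists_le_valuationSubring (LocalSubring.range ψ.hom)
  obtain ⟨hle, hloc⟩ := hV
  let ψ' : X.presheaf.stalk y ⟶ CommRingCat.of V :=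
    CommRingCat.ofHom (ψ.hom.codRestrict V.toSubring fun a => hle ⟨a, rfl⟩)
  haveI : IsLocalHom ψ'.hom := ⟨fun a ha => by
    have h1 : IsUnit (⟨ψ.hom a, ⟨a, rfl⟩⟩ : (LocalSubring.range ψ.hom).toSubring) :=
      hloc.map_nonunit _ ha
    exact (IsLocalHom.of_surjective ψ.hom.rangeRestrict ψ.hom.rangeRestrict_surjective).map_nonunit _ h1⟩
  let r : CommRingCat.of V ⟶ CommRingCat.of C.functionField := CommRingCat.ofHom V.subtype
  have hψ : ψ' ≫ r = ψ := rfl
  let gX : Spec (CommRingCat.of V) ⟶ X := Spec.map ψ' ≫ X.fromSpecStalk y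
  have hgX : Spec.map r ≫ gX = C.fromSpecStalk η ≫ γ := by
    rw [← Category.assoc, ← Spec.map_comp, hψ, Spec.map_comp, Category.assoc,
      Scheme.SpecMap_stalkSpecializes_fromSpecStalk, Scheme.SpecMap_stalkMap_fromSpecStalk]
  let sq : ValuativeCommSq sC :=
    { R := V
      K := C.functionField
      i₁ := C.fromSpecStalk η
      i₂ := gX ≫ sX
      commSq := ⟨by
        rw [show Spec.map (CommRingCat.ofHom (algebraMap V C.functionField)) = Spec.map r from rfl,
          reassoc_of% hgX, hγ]⟩ }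
  have hex : ValuativeCriterion.Existence sC := by
    have := ‹IsProper sC›.toUniversallyClosed
    rw [UniversallyClosed.eq_valuativeCriterion] at this
    exact this.1
  obtain ⟨⟨l⟩⟩ := hex sq
  have hl : Spec.map r ≫ l.l = C.fromSpecStalk η := l.fac_left
  have hlr : l.l ≫ sC = gX ≫ sX := l.fac_right
  let c : C := l.l (closedPoint V)
  obtain ⟨_, _⟩ := hval c
  let θ : C.presheaf.stalk c ⟶ CommRingCat.of V := Scheme.stalkClosedPointTo l.l
  have hθ : θ ≫ r = C.presheaf.stalkSpecializes ((genericPoint_spec C).specializes trivial) := by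
    refine Spec.map_injective ?_
    rw [← cancel_mono (C.fromSpecStalk c), Spec.map_comp, Category.assoc,
      Scheme.Spec_stalkClosedPointTo_fromSpecStalk, Scheme.SpecMap_stalkSpecializes_fromSpecStalk, hl]
  have hsurj : Function.Surjective θ.hom := fun v => by
    have hinj : Function.Injective V.subtype := Subtype.val_injective
    have hr : ∀ a, V.subtype (θ.hom a) = algebraMap (C.presheaf.stalk c) C.functionField a := fun a =>
      congr($hθ a)
    obtain ⟨a, b, hb, hab⟩ := IsFractionRing.div_surjective (A := C.presheaf.stalk c) (V.subtype v)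
    have hb0 : algebraMap (C.presheaf.stalk c) C.functionField b ≠ 0 :=
      IsFractionRing.to_map_ne_zero_of_mem_nonZeroDivisors hb
    obtain ⟨d, hd | hd⟩ := ValuationRing.cond a b
    · by_cases ha : a = 0
      · exact ⟨0, hinj (by rw [← hab, ha, map_zero θ.hom, map_zero V.subtype, map_zero (algebraMap _ _), zero_div])⟩
      have hu : IsUnit (θ.hom d) := by
        refine IsUnit.of_mul_eq_one v (hinj ?_)
        rw [map_mul, hr, map_one, ← hab, ← hd, map_mul]
        have : algebraMap (C.presheaf.stalk c) C.functionField a ≠ 0 :=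
          (map_ne_zero_iff _ (IsFractionRing.injective _ _)).2 ha
        have hd0 : algebraMap (C.presheaf.stalk c) C.functionField d ≠ 0 := fun h => by
          apply hb0
          rw [← hd, map_mul, h, mul_zero]
        field_simp
      obtain ⟨d', hd'⟩ := (IsLocalHom.map_nonunit (f := θ.hom) d hu).exists_left_inv
      refine ⟨d', hinj ?_⟩
      rw [hr, ← hab, eq_div_iff hb0, ← map_mul, ← hd, mul_left_comm, hd', mul_one]
    · exact ⟨d, hinj (by rw [hr, ← hab, ← hd, map_mul, mul_div_cancel_left₀ _ hb0])⟩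
  have hinjθ : Function.Injective θ.hom := fun a b h =>
    IsFractionRing.injective (C.presheaf.stalk c) C.functionField
      ((congr($hθ a)).symm.trans ((congrArg V.subtype h).trans congr($hθ b)))
  let e : C.presheaf.stalk c ≅ CommRingCat.of V :=
    RingEquiv.toCommRingCatIso (RingEquiv.ofBijective θ.hom ⟨hinjθ, hsurj⟩)
  let φ : Spec (C.presheaf.stalk c) ⟶ X := Spec.map e.inv ≫ gX
  have hlφ : Spec.map θ ≫ φ = gX := by
    rw [show θ = e.hom from rfl, ← Category.assoc, ← Spec.map_comp, Iso.inv_hom_id, Spec.map_id, Category.id_comp]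
  have hφ : φ ≫ sX = C.fromSpecStalk c ≫ sC := by
    haveI : IsIso (Spec.map θ) := by rw [show θ = e.hom from rfl]; infer_instance
    rw [← cancel_epi (Spec.map θ), reassoc_of% hlφ, Scheme.Spec_stalkClosedPointTo_fromSpecStalk_assoc, hlr]
  obtain ⟨W₁, hc, f₁, hf₁, hf₁s⟩ := spread_out_of_isGermInjective' sC sX φ hφ
  have hηW₁ : η ∈ W₁ := ((genericPoint_spec C).specializes trivial).mem_open W₁.2 hc
  have hfc : f₁ ⟨c, hc⟩ = y := by
    have h1 : W₁.fromSpecStalkOfMem c hc (closedPoint (C.presheaf.stalk c)) = ⟨c, hc⟩ := by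
      apply W₁.ι.isOpenEmbedding.injective
      rw [← Scheme.Hom.comp_apply, Scheme.Opens.fromSpecStalkOfMem_ι, Scheme.fromSpecStalk_closedPoint]
      rfl
    rw [← h1, ← Scheme.Hom.comp_apply, ← hf₁]
    show X.fromSpecStalk y (Spec.map ψ' (Spec.map e.inv _)) = y
    haveI : IsLocalHom e.inv.hom := isLocalHom_of_isIso e.inv
    exact (congrArg (X.fromSpecStalk y) ((congrArg (Spec.map ψ') (IsLocalRing.comap_closedPoint e.inv.hom)).trans
      (IsLocalRing.comap_closedPoint ψ'.hom))).trans Scheme.fromSpecStalk_closedPoint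
  -- agreement near the generic point
  have hagree : (W₁ : Scheme.{u}).fromSpecStalk ⟨η, hηW₁⟩ ≫ f₁ =
      (W₁ : Scheme.{u}).fromSpecStalk ⟨η, hηW₁⟩ ≫ W₁.ι ≫ γ := by
    haveI : IsIso (Spec.map (inv (W₁.ι.stalkMap ⟨η, hηW₁⟩))) := inferInstance
    refine (cancel_epi (Spec.map (inv (W₁.ι.stalkMap ⟨η, hηW₁⟩)))).1 ?_
    have h3 : W₁.fromSpecStalkOfMem η hηW₁ =
        Spec.map (C.presheaf.stalkSpecializes ((genericPoint_spec C).specializes trivial)) ≫
          W₁.fromSpecStalkOfMem c hc := by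
      rw [← cancel_mono W₁.ι, Category.assoc, Scheme.Opens.fromSpecStalkOfMem_ι,
        Scheme.Opens.fromSpecStalkOfMem_ι, Scheme.SpecMap_stalkSpecializes_fromSpecStalk]
    have h4 : W₁.fromSpecStalkOfMem η hηW₁ ≫ W₁.ι ≫ γ = C.fromSpecStalk η ≫ γ := by
      rw [← Category.assoc, Scheme.Opens.fromSpecStalkOfMem_ι]
    have h5 : W₁.fromSpecStalkOfMem η hηW₁ ≫ f₁ = C.fromSpecStalk η ≫ γ := by
      rw [h3, Category.assoc, ← hf₁, ← hθ, Spec.map_comp, Category.assoc, hlφ, hgX]
    exact (Category.assoc _ _ _).symm.trans ((h5.trans h4.symm).trans (Category.assoc _ _ _))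
  obtain ⟨W₂, hηW₂, hW₂⟩ := spread_out_unique_of_isGermInjective' f₁ (W₁.ι ≫ γ) hagree
  let W : C.Opens := W₁.ι ''ᵁ W₂
  have hηW : η ∈ W := ⟨_, hηW₂, rfl⟩
  obtain ⟨hfin, hclosed⟩ := Crv77.finite_closed hdim (U := W) ⟨η, hηW⟩
  have hcη : c ≠ η := by
    intro h
    apply hne
    have h1 := congr($hW₂ ⟨⟨η, hηW₁⟩, hηW₂⟩)
    change f₁ ⟨η, hηW₁⟩ = γ η at h1
    rw [← h1, ← hfc]
    exact congrArg f₁ (Subtype.ext h.symm)
  have hccl : IsClosed ({c} : Set C) :=
    Crv77.isClosed_singleton hdim hcη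
  let A : C.Opens := ⟨{c}ᶜ, hccl.isOpen_compl⟩
  let B : C.Opens := W₁ ⊓ ⟨((W : Set C)ᶜ \ {c})ᶜ, (show IsClosed ((W : Set C)ᶜ \ {c}) by
    rw [← Set.biUnion_of_singleton ((W : Set C)ᶜ \ {c})]
    exact (hfin.diff (t := {c})).isClosed_biUnion fun z hz => hclosed z hz.1).isOpen_compl⟩
  have hAB : ∀ z, z ∈ A → z ∈ B → z ∈ W := fun z hzA hzB => by
    by_contra hzW
    exact hzB.2 ⟨hzW, hzA⟩
  let P : Bool → C.Opens := fun b => if b then A else B
  let 𝒰 : C.OpenCover := C.openCoverOfIsOpenCover P (by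
    refine TopologicalSpace.IsOpenCover.mk (Opens.ext (Set.eq_univ_of_forall fun z => ?_))
    rw [Opens.coe_iSup, Set.mem_iUnion]
    by_cases hz : z = c
    · exact ⟨false, by subst hz; exact ⟨hc, fun h => h.2 rfl⟩⟩
    · exact ⟨true, hz⟩)
  let g : ∀ b, (P b : Scheme.{u}) ⟶ X := fun b => match b with
    | true => A.ι ≫ γ
    | false => C.homOfLE inf_le_left ≫ f₁
  have key : ∀ (S : Scheme.{u}) (a : S ⟶ (A : Scheme.{u})) (b : S ⟶ (B : Scheme.{u})),
      a ≫ A.ι = b ≫ B.ι → a ≫ A.ι ≫ γ = b ≫ C.homOfLE inf_le_left ≫ f₁ := by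
    intro S a b hab
    have hr : Set.range (b ≫ C.homOfLE (inf_le_left : B ≤ W₁)) ⊆ Set.range W₂.ι := by
      rintro _ ⟨s, rfl⟩
      rw [Scheme.Opens.range_ι]
      have hzA : B.ι (b s) ∈ A := by
        rw [← Scheme.Hom.comp_apply, ← hab, Scheme.Hom.comp_apply]
        exact (a s).2
      obtain ⟨w, hw, hw'⟩ := hAB _ hzA (b s).2
      have : (b ≫ C.homOfLE (inf_le_left : B ≤ W₁)) s = w := by
        apply W₁.ι.isOpenEmbedding.injective
        refine Eq.trans ?_ hw'.symm
        rw [← Scheme.Hom.comp_apply, Category.assoc, Scheme.homOfLE_ι]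
        rfl
      rw [this]; exact hw
    rw [reassoc_of% hab, ← Category.assoc b (C.homOfLE _), ← IsOpenImmersion.lift_fac W₂.ι _ hr, Category.assoc,
      hW₂, IsOpenImmersion.lift_fac_assoc, Category.assoc, Scheme.homOfLE_ι_assoc]
  let γ' : C ⟶ X := 𝒰.glueMorphisms g fun b b' => by
    cases b <;> cases b'
    · rw [show pullback.fst (𝒰.f false) (𝒰.f false) = pullback.snd _ _ from
        (cancel_mono B.ι).1 pullback.condition]
    · exact (key _ _ _ pullback.condition.symm).symm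
    · exact key _ _ _ pullback.condition
    · rw [show pullback.fst (𝒰.f true) (𝒰.f true) = pullback.snd _ _ from
        (cancel_mono A.ι).1 pullback.condition]
  have hA : A.ι ≫ γ' = A.ι ≫ γ := 𝒰.ι_glueMorphisms g _ true
  have hB : B.ι ≫ γ' = C.homOfLE inf_le_left ≫ f₁ := 𝒰.ι_glueMorphisms g _ false
  refine ⟨γ', 𝒰.hom_ext _ _ fun b => ?_, ?_, c, ?_⟩
  · cases b
    · show B.ι ≫ γ' ≫ sX = B.ι ≫ sC
      rw [reassoc_of% hB, hf₁s, Scheme.homOfLE_ι_assoc]
    · show A.ι ≫ γ' ≫ sX = A.ι ≫ sC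
      rw [reassoc_of% hA, hγ]
  · exact congr($hA ⟨η, hcη.symm⟩)
  · have hcB : c ∈ B := ⟨hc, fun h => h.2 rfl⟩
    rw [← hfc]
    have h1 : (B.ι ≫ γ') ⟨c, hcB⟩ = f₁ (C.homOfLE (inf_le_left : B ≤ W₁) ⟨c, hcB⟩) :=
      (congr($hB ⟨c, hcB⟩)).trans (Scheme.Hom.comp_apply _ _ _)
    exact h1.trans (congrArg f₁ (Subtype.ext (Scheme.homOfLE_apply _ _)))

variable {k : Type u} [Field k]

/-- On a curve: maps of semistable bundles of degree zero. -/
theorem isFinLocFree_cokernel_curve {C : Scheme.{u}} [C.Over (Spec (CommRingCat.of k))] [IsIntegral C]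
    (h : Cur k C) {E F : C.Modules} (f : E ⟶ F) (hE : FlatMod.IsFinLocFree E) (hF : FlatMod.IsFinLocFree F)
    (hEs : SS k E) (hE0 : dg k E = 0) (hFs : SS k F) (hF0 : dg k F = 0) :
    FlatMod.IsFinLocFree (cokernel f) := by
  obtain ⟨K, I, i, p, j, hi, hp, hj, -, hpj, hK, hI, hr, hd, -, -⟩ := h.exists_ker_im f hE hF
  have hK0 : dg k K ≤ 0 := by
    rcases Nat.eq_zero_or_pos (rk K) with h0 | h0
    · exact (h.dg_of_rk_zero hK h0).le
    · have := hEs K i hi h0 hK
      rw [hE0, zero_mul] at this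
      exact nonpos_of_mul_nonpos_left this (by exact_mod_cast (by omega : 0 < rk E))
  obtain ⟨I', j', a, hj', ha, haj, hI', hQ, hr', hd'⟩ := h.exists_saturation j (isCoh_of_isFinLocFree hI) hF
  have hI0 : dg k I' ≤ 0 := by
    rcases Nat.eq_zero_or_pos (rk I') with h0 | h0
    · exact (h.dg_of_rk_zero hI' h0).le
    · have := hFs I' j' hj' h0 hI'
      rw [hF0, zero_mul] at this
      haveI := (isCoh_of_isFinLocFree hF).2
      have h1 : (0 : ℤ) < rk F := by exact_mod_cast h0.trans_le (rk_le_of_mono j')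
      nlinarith
  haveI := h.isIso_of_rk_eq a (isCoh_of_isFinLocFree hI) (isCoh_of_isFinLocFree hI') hr'.symm (by omega)
  exact DCX42.isFinLocFree_of_iso
    ((cokernelEpiComp a j').symm ≪≫ cokernelIsoOfEq haj ≪≫ (cokernelEpiComp p j).symm ≪≫ cokernelIsoOfEq hpj) hQ

/-- A map of Nori semistable bundles has constant rank. -/
theorem isFinLocFree_cokernel_of_chains [PerfectField k] (X : Scheme.{u}) [X.Over (Spec (CommRingCat.of k))]
    [LocallyOfFiniteType (X ↘ Spec (CommRingCat.of k))] [CompactSpace X] [AlgebraicGeometry.IsReduced X]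
    (hchain : ∀ y z : X, IsClosed ({y} : Set X) → IsClosed ({z} : Set X) → ∃ (n : ℕ) (C : Fin n → Scheme.{u}) (γ : ∀ i, C i ⟶ X),
      (∀ i, AlgebraicGeometry.IsIntegral (C i) ∧ IsProper (γ i ≫ (X ↘ Spec (CommRingCat.of k))) ∧
        Smooth (γ i ≫ (X ↘ Spec (CommRingCat.of k))) ∧ topologicalKrullDim (C i) = 1) ∧
      _root_.IsConnected (⋃ i, Set.range (γ i).base) ∧ y ∈ ⋃ i, Set.range (γ i).base ∧ z ∈ ⋃ i, Set.range (γ i).base)
    (r r' : ℕ) (E F : X.Modules) (hE : FlatMod.IsFinLocFreeOfRank r E) (hF : FlatMod.IsFinLocFreeOfRank r' F)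
    (hEss : ∀ (C : Scheme.{u}) [C.Over (Spec (CommRingCat.of k))], AlgebraicGeometry.IsIntegral C →
      IsProper (C ↘ Spec (CommRingCat.of k)) → Smooth (C ↘ Spec (CommRingCat.of k)) → topologicalKrullDim C = 1 →
      ∀ (γ : C ⟶ X), γ ≫ (X ↘ Spec (CommRingCat.of k)) = C ↘ Spec (CommRingCat.of k) →
      (Set.range γ.base).Nontrivial →
      ModFun.IsSlopeSemistable k C ((Scheme.Modules.pullback γ).obj E) r ∧
        Curv2.deg k C ((Scheme.Modules.pullback γ).obj E) r = 0)
    (hFss : ∀ (C : Scheme.{u}) [C.Over (Spec (CommRingCat.of k))], AlgebraicGeometry.IsIntegral C →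
      IsProper (C ↘ Spec (CommRingCat.of k)) → Smooth (C ↘ Spec (CommRingCat.of k)) → topologicalKrullDim C = 1 →
      ∀ (γ : C ⟶ X), γ ≫ (X ↘ Spec (CommRingCat.of k)) = C ↘ Spec (CommRingCat.of k) →
      (Set.range γ.base).Nontrivial →
      ModFun.IsSlopeSemistable k C ((Scheme.Modules.pullback γ).obj F) r' ∧
        Curv2.deg k C ((Scheme.Modules.pullback γ).obj F) r' = 0)
    (f : E ⟶ F) : FlatMod.IsFinLocFree (cokernel f) := by
  classical
  let sX := X ↘ Spec (CommRingCat.of k)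
  haveI := isFiniteType_of_isFinLocFree (fun x => (hF x).elim fun U hU => ⟨U, _, hU⟩)
  haveI : (cokernel f).IsFiniteType := QC70.isFiniteType_of_epi (cokernel.π f)
  let rho := fiberRank (cokernel f)
  have hcurve : ∀ (C : Scheme.{u}) (γ : C ⟶ X) (hi : AlgebraicGeometry.IsIntegral C), IsProper (γ ≫ sX) →
      Smooth (γ ≫ sX) → topologicalKrullDim C = 1 → ∀ c : C, rho (γ c) = rho (γ (genericPoint C)) := by
    intro C γ hi hp hs hd c
    by_cases hnt : (Set.range γ.base).Nontrivial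
    · letI : C.Over (Spec (CommRingCat.of k)) := ⟨γ ≫ sX⟩
      haveI : IsProper (C ↘ Spec (CommRingCat.of k)) := hp
      haveI : Smooth (C ↘ Spec (CommRingCat.of k)) := hs
      obtain ⟨hEs, hE0⟩ := hEss C hi hp hs hd γ rfl hnt
      obtain ⟨hFs, hF0⟩ := hFss C hi hp hs hd γ rfl hnt
      have hE' := Grass5.QuotBC.isFinLocFreeOfRank_pullback γ hE
      have hF' := Grass5.QuotBC.isFinLocFreeOfRank_pullback γ hF
      rw [deg_eq_dg hE'] at hE0
      rw [deg_eq_dg hF'] at hF0
      have hQ := isFinLocFree_cokernel_curve (cur_of_smooth (k := k) (X := C) hd)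
        ((Scheme.Modules.pullback γ).map f) (isFinLocFree_of_rank hE') (isFinLocFree_of_rank hF')
        (ss_of_slope hE' hEs) hE0 (ss_of_slope hF' hFs) hF0
      have hQ' : FlatMod.IsFinLocFree ((Scheme.Modules.pullback γ).obj (cokernel f)) :=
        DCX42.isFinLocFree_of_iso (PreservesCokernel.iso (Scheme.Modules.pullback γ) f).symm hQ
      have := (isLocallyConstant_fiberRank hQ').apply_eq_of_preconnectedSpace c (genericPoint C)
      rwa [fiberRank_pullback, fiberRank_pullback] at this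
    · rw [Set.not_nontrivial_iff.1 hnt ⟨c, rfl⟩ ⟨genericPoint C, rfl⟩]
  have hcl : ∀ (C : Scheme.{u}) (γ : C ⟶ X) (hi : AlgebraicGeometry.IsIntegral C), IsProper (γ ≫ sX) →
      Smooth (γ ≫ sX) → topologicalKrullDim C = 1 → ∀ y, γ (genericPoint C) ⤳ y →
      rho y = rho (γ (genericPoint C)) := by
    intro C γ hi hp hs hd y hy
    by_cases hne : γ (genericPoint C) = y
    · rw [hne]
    obtain ⟨γ', hγ', hη, c, rfl⟩ := exists_through (γ ≫ sX) hd.le (fun c => by
      letI : C.Over (Spec (CommRingCat.of k)) := ⟨γ ≫ sX⟩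
      haveI : IsProper (C ↘ Spec (CommRingCat.of k)) := hp
      haveI : Smooth (C ↘ Spec (CommRingCat.of k)) := hs
      exact (cur_of_smooth (k := k) (X := C) hd).stalks c) sX γ rfl hy hne
    rw [hcurve C γ' hi (hγ'.symm ▸ hp) (hγ'.symm ▸ hs) hd c, hη]
  have hclosed : ∀ y z : X, IsClosed ({y} : Set X) → IsClosed ({z} : Set X) → rho y = rho z := by
    intro y z hy hz
    obtain ⟨n, C, γ, hC, hconn, hyU, hzU⟩ := hchain y z hy hz
    haveI := fun i => (hC i).1
    let x : Fin n → X := fun i => γ i (genericPoint (C i))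
    have hmem : ∀ {w : X}, w ∈ ⋃ i, Set.range (γ i).base → ∃ i, x i ⤳ w := fun hw => by
      obtain ⟨i, c, rfl⟩ := Set.mem_iUnion.1 hw
      exact ⟨i, ((genericPoint_spec (C i)).specializes trivial).map (γ i).continuous⟩
    let S₁ : Set X := ⋃ i ∈ {i | rho (x i) = rho y}, closure {x i}
    let S₂ : Set X := ⋃ i ∈ {i | rho (x i) ≠ rho y}, closure {x i}
    have h₁ : ∀ w ∈ S₁, rho w = rho y := fun w hw => by
      simp only [S₁, Set.mem_iUnion, Set.mem_setOf_eq, exists_prop] at hw
      obtain ⟨i, hi, hw⟩ := hw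
      rw [hcl _ (γ i) (hC i).1 (hC i).2.1 (hC i).2.2.1 (hC i).2.2.2 w (specializes_iff_mem_closure.2 hw)]
      exact hi
    have h₂ : ∀ w ∈ S₂, rho w ≠ rho y := fun w hw => by
      simp only [S₂, Set.mem_iUnion, Set.mem_setOf_eq, exists_prop] at hw
      obtain ⟨i, hi, hw⟩ := hw
      rw [hcl _ (γ i) (hC i).1 (hC i).2.1 (hC i).2.2.1 (hC i).2.2.2 w (specializes_iff_mem_closure.2 hw)]
      exact hi
    have hcov : (⋃ i, Set.range (γ i).base) ⊆ S₁ ∪ S₂ := fun w hw => by
      obtain ⟨i, hi⟩ := hmem hw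
      by_cases he : rho (x i) = rho y
      · exact Or.inl (Set.mem_biUnion (x := i) he (specializes_iff_mem_closure.1 hi))
      · exact Or.inr (Set.mem_biUnion (x := i) he (specializes_iff_mem_closure.1 hi))
    by_contra hne
    obtain ⟨w, -, hw₁, hw₂⟩ := isPreconnected_closed_iff.1 hconn.isPreconnected S₁ S₂
      ((Set.toFinite _).isClosed_biUnion fun i _ => isClosed_closure)
      ((Set.toFinite _).isClosed_biUnion fun i _ => isClosed_closure) hcov
      ⟨y, hyU, (hcov hyU).resolve_right fun h => h₂ y h rfl⟩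
      ⟨z, hzU, (hcov hzU).resolve_left fun h => hne (h₁ z h).symm⟩
    exact h₂ w hw₂ (h₁ w hw₁)
  haveI : JacobsonSpace X := LocallyOfFiniteType.jacobsonSpace sX
  have hall : ∀ z : X, ∀ y : X, IsClosed ({y} : Set X) → rho z = rho y := by
    intro z y hy
    obtain ⟨y', hy'z, hy'⟩ := (isClosed_closure (s := ({z} : Set X))).exists_closed_singleton
      ⟨z, subset_closure rfl⟩
    obtain ⟨W, hyW, hW⟩ := Betti41.exists_nhd_fiberRank_le (cokernel f) y'
    have h1 : rho z ≤ rho y' := hW z ((specializes_iff_mem_closure.2 hy'z).mem_open W.2 hyW)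
    obtain ⟨W', hzW', hW'⟩ := Betti41.exists_nhd_fiberRank_le (cokernel f) z
    obtain ⟨y'', hy''W, hy''⟩ := jacobsonSpace_iff_locallyClosed.1 inferInstance (W' : Set X) ⟨z, hzW'⟩
      W'.2.isLocallyClosed
    have h2 : rho y'' ≤ rho z := hW' y'' hy''W
    rw [hclosed y'' y hy'' hy] at h2
    rw [hclosed y' y hy' hy] at h1
    omega
  refine isFinLocFree_of_isReduced (IsLocallyConstant.of_constant _ fun z z' => ?_)
  obtain ⟨y, -, hy⟩ := (isClosed_closure (s := ({z} : Set X))).exists_closed_singleton ⟨z, subset_closure rfl⟩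
  exact (hall z y hy).trans (hall z' y hy).symm

end Groth.Agent.VB30.NoriRank
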