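import Groth.Agent.Amp73.PullTensor
import Groth.Agent.Amp73.Pullback
import Groth.Agent.Crv77.PointTwist
import Groth.Agent.Crv77.RR
import Groth.Agent.Curves2.CurvePlaces
import Groth.Agent.Curves2.PointTwists
import Groth.Agent.Curves2.VeryAmple.Descend
import Groth.Agent.Curves2.VeryAmple.Span
import Groth.Agent.EGA73.CurveVal
import Groth.Agent.EGA73.ImmersionPn
import Groth.Agent.GenAff57.Ample
import Groth.Agent.KRR40.PnTransfer
import Groth.Agent.QCqs72.Basic
import Groth.Agent.S1530
import Groth.Prelude.Def_Twist2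
import Mathlib.RingTheory.Jacobson.Ring
import Groth.Agent.Curves2.VeryAmple.Embed

/-! Line bundles separating length two subschemes are very ample. -/

set_option autoImplicit false
set_option linter.style.haveILetI false
set_option linter.unusedSectionVars false
set_option backward.isDefEq.respectTransparency false
set_option backward.isDefEq.respectTransparency.types false

universe u

open CategoryTheory CategoryTheory.Limits AlgebraicGeometry TopologicalSpace Opposite
open Groth.Agent.Var76.LineBundle Groth.Agent.Var76.ZeroScheme Groth.Agent.Amp73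
open Groth.Agent.Curves2.VeryAmple (constH res_sec_smul constH_eq_appLE appLE_fromSpec_quotient germ_mem_valuationSubring)
open Groth.Agent.Curves2

noncomputable section

namespace Groth.Agent.VB30.VA

variable {k : Type u} [Field k] {X : Scheme.{u}} [X.Over (Spec (CommRingCat.of k))]
  [IsIntegral X] [IsProper (X ↘ Spec (CommRingCat.of k))]

variable (k) in
/-- Submodules of colength at least two lose two sections. -/
def Sep (L : X.Modules) : Prop :=
  ∀ (F : X.Modules) (i : F ⟶ L), Mono i → Coh.IsCoh F →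
    Curv2.euler k X F + 2 ≤ Curv2.euler k X L →
    Module.finrank k (Coh.HH X F 0) + 2 ≤ Module.finrank k (Coh.HH X L 0)

/-- A finite closed subscheme on which all ratios of sections are constant has length at most one. -/
theorem exists_sub_const_mem (hdim : topologicalKrullDim X = 1)
    (L : X.Modules) (hL : PicF.IsInvertible L)
    (hsep : Sep k L) (s : Γ(L, ⊤))
    (G : X.Opens) (hG : IsAffineOpen G) (hle : G ≤ CohB1.genLocus L (Var76.Frames.ofSection L s))
    (J : Ideal Γ(X, G))
    (hfin : ((Ideal.Quotient.mk J).comp (constH (k := k) G)).Finite)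
    (hJ : ∀ (t : Γ(L, ⊤)) (a : Γ(X, G)),
      a • res L (le_top : G ≤ ⊤) s = res L (le_top : G ≤ ⊤) t → ∃ c : k, a - constH G c ∈ J)
    (b : Γ(X, G)) : ∃ c : k, b - constH G c ∈ J := by
  classical
  by_contra hcon
  push Not at hcon
  have := Crv77.isNoetherian_of_proper k X
  have hX := Crv77.curveCoh_of_proper k X hdim.le
  let π := X ↘ Spec (CommRingCat.of k)
  let R := CommRingCat.of (Γ(X, G) ⧸ J)
  let ι : Spec R ⟶ X := Spec.map (CommRingCat.ofHom (Ideal.Quotient.mk J)) ≫ hG.fromSpec
  have hιG : (⊤ : (Spec R).Opens) ≤ ι ⁻¹ᵁ G := fun p _ => by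
    show hG.fromSpec (Spec.map (CommRingCat.ofHom (Ideal.Quotient.mk J)) p) ∈ (G : Set X)
    rw [← hG.range_fromSpec]
    exact ⟨_, rfl⟩
  have hcomp : ι ≫ π = Spec.map (CommRingCat.ofHom ((Ideal.Quotient.mk J).comp (constH (k := k) G))) := by
    have e := IsAffineOpen.SpecMap_appLE_fromSpec π (isAffineOpen_top _) hG (le_top : G ≤ π ⁻¹ᵁ ⊤)
    rw [show ι ≫ π = Spec.map _ ≫ (hG.fromSpec ≫ π) from Category.assoc _ _ _, ← e, IsAffineOpen.fromSpec_top]
    rw [← Category.assoc, ← Spec.map_comp, Scheme.isoSpec_Spec_inv, ← Spec.map_comp]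
    rfl
  have : IsFinite (ι ≫ π) := by
    rw [hcomp]
    exact (IsFinite.SpecMap_iff _).2 hfin
  have : IsProper (ι ≫ π) := inferInstance
  have : IsProper ι := IsProper.of_comp ι π
  letI algR : Algebra k (Γ(X, G) ⧸ J) := ((Ideal.Quotient.mk J).comp (constH (k := k) G)).toAlgebra
  haveI : Module.Finite k (Γ(X, G) ⧸ J) := hfin
  have : IsArtinianRing (Γ(X, G) ⧸ J) := IsArtinianRing.of_finite k _
  let S : Set X := Set.range ι
  have hS : S.Finite := @Set.finite_range _ _ _ (inferInstanceAs (Finite (PrimeSpectrum (Γ(X, G) ⧸ J))))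
  have hcl : ∀ x ∈ S, IsClosed ({x} : Set X) := by
    rintro _ ⟨p, rfl⟩
    have hp : IsClosed ({p} : Set (PrimeSpectrum (Γ(X, G) ⧸ J))) :=
      (PrimeSpectrum.isClosed_singleton_iff_isMaximal p).2 (IsArtinianRing.isMaximal_of_isPrime p.asIdeal)
    have h2 := ι.isClosedMap _ hp
    rwa [Set.image_singleton] at h2
  -- the evaluation map
  let η : L ⟶ (Scheme.Modules.pushforward ι).obj ((Scheme.Modules.pullback ι).obj L) :=
    (Scheme.Modules.pullbackPushforwardAdjunction ι).unit.app L
  have hLc := Crv77.isCoh_of_isInvertible hL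
  have := hLc.1
  have := hLc.2
  have hLι := isInvertible_pullback ι hL
  have := (Crv77.isCoh_of_isInvertible hLι).1
  have : ((Scheme.Modules.pushforward ι).obj ((Scheme.Modules.pullback ι).obj L)).IsQuasicoherent :=
    QCqs72.isQuasicoherent_pushforward _ ι
  have hF : Coh.IsCoh (kernel η) := ⟨QC70.isQuasicoherent_kernel η, QC70.isFiniteType_kernel η⟩
  have hQ : Coh.IsCoh (cokernel (kernel.ι η)) := Crv77.isCoh_cokernel _ hF hLc
  let Q := cokernel (kernel.ι η)
  let T := ShortComplex.mk (kernel.ι η) (cokernel.π (kernel.ι η)) (cokernel.condition _)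
  have hT : T.ShortExact :=
    { exact := ShortComplex.exact_of_g_is_cokernel _ (cokernelIsCokernel _)
      mono_f := inferInstanceAs (Mono (kernel.ι η))
      epi_g := inferInstanceAs (Epi (cokernel.π _)) }
  have hsupp : Crv77.SuppIn Q S := fun x hx => QC70.subsingleton_stalk_cokernel _ x fun w => by
    obtain ⟨U, hxU, m, rfl⟩ := TopCat.Presheaf.exists_germ_eq L.presheaf w
    let U' := U ⊓ Crv77.complOpen hS hcl
    have hz : η.app U' (res L inf_le_left m) = 0 := by
      refine QC70.section_ext ((Scheme.Modules.pullback ι).obj L) (U := ι ⁻¹ᵁ U') _ 0 fun p hp => ?_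
      exact absurd ⟨p, rfl⟩ hp.2
    obtain ⟨y, hy⟩ := QC70.exists_kernel_app_eq η U' _ hz
    refine ⟨QC70.germM _ U' x ⟨hxU, hx⟩ y, ?_⟩
    rw [QC70.stalkMapM_germ, hy]
    exact TopCat.Presheaf.germ_res_apply _ _ _ _ _
  -- the frame on `G`
  let e : Γ(L, G) := res L (le_top : G ≤ ⊤) s
  have he : IsFrame L G e := by
    have h1 := (isFrame_iff_le_genLocus (Var76.Frames.ofSection L s) G).2 hle
    rwa [Var76.Frames.val_ofSection] at h1
  have coord : ∀ m : Γ(L, G), ∃ a : Γ(X, G), a • e = m := fun m => by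
    obtain ⟨a, ha⟩ := (he G le_rfl).2 m
    exact ⟨a, by simpa only [Amp73.res_self] using ha⟩
  have einj : ∀ a a' : Γ(X, G), a • e = a' • e → a = a' := fun a a' h => (he G le_rfl).1 (by
    simpa only [Amp73.res_self] using h)
  let eT := res _ hιG (pullS ι L G e)
  have heT : IsFrame _ ⊤ eT := (isFrame_pullS ι hL he).res hιG
  have hker : ∀ a : Γ(X, G), res _ hιG (pullS ι L G (a • e)) = 0 ↔ a ∈ J := fun a => by
    rw [pullS_smul, res_smul]
    change ι.appLE G ⊤ hιG a • eT = 0 ↔ _
    rw [appLE_fromSpec_quotient hG J a hιG, ← Ideal.Quotient.eq_zero_iff_mem]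
    constructor
    · intro h
      refine (ConcreteCategory.bijective_of_isIso (Scheme.ΓSpecIso R).inv).1
        (((heT _ le_rfl).1 ?_).trans (map_zero _).symm)
      show _ • res _ le_rfl eT = (0 : Γ(Spec R, ⊤)) • res _ le_rfl eT
      rw [Amp73.res_self, zero_smul]
      exact h
    · intro h
      rw [h, map_zero, zero_smul]
  -- two independent classes in the cokernel
  let q : Γ(X, G) → Γ(Q, G) := fun a => (cokernel.π (kernel.ι η)).app G (a • e)
  have hq : ∀ a, q a = 0 → a ∈ J := fun a h => by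
    obtain ⟨y, hy⟩ := QC70.exists_app_eq_of_exact T hT.exact G (a • e) h
    refine (hker a).1 ?_
    have h3 : η.app G (a • e) = 0 := by
      rw [← hy]
      exact QC70.app_f_g (ShortComplex.mk (kernel.ι η) η (kernel.condition η)) G y
    rw [show pullS ι L G (a • e) = 0 from h3]
    exact map_zero _
  obtain ⟨t₁, ht₁⟩ := hsupp.surjective_res hS hcl (le_top : G ≤ ⊤) (q 1)
  obtain ⟨t₂, ht₂⟩ := hsupp.surjective_res hS hcl (le_top : G ≤ ⊤) (q b)
  have hQ2 : 2 ≤ Module.finrank k (Coh.HH X Q 0) := by
    have := hX.finite _ hQ 0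
    have hind : LinearIndependent k ![(Crv77.sec Q).symm t₁, (Crv77.sec Q).symm t₂] := by
      refine LinearIndependent.pair_iff.2 fun c d hcd => ?_
      have h := congrArg (fun z => res Q (le_top : G ≤ ⊤) (Crv77.sec Q z)) hcd
      rw [map_add, map_zero] at h
      rw [Amp73.res_add, res_sec_smul, res_sec_smul, AddEquiv.apply_symm_apply, AddEquiv.apply_symm_apply,
        show res Q (le_top : G ≤ ⊤) t₁ = q 1 from ht₁, show res Q (le_top : G ≤ ⊤) t₂ = q b from ht₂,
        show res Q (le_top : G ≤ ⊤) 0 = 0 from map_zero _] at h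
      have hmem : constH G c + constH G d * b ∈ J := hq _ (by
        simp only [q, add_smul, mul_smul, map_add, Scheme.Modules.Hom.app_smul]
        simp only [q, one_smul, Scheme.Modules.Hom.app_smul] at h
        exact h)
      have hd : d = 0 := by
        by_contra hd
        refine hcon (-c / d) ?_
        have := J.mul_mem_left (constH G d⁻¹) hmem
        convert this using 1
        rw [mul_add, ← mul_assoc, ← map_mul, ← map_mul, inv_mul_cancel₀ hd, map_one, one_mul,
          show -c / d = -(d⁻¹ * c) by ring, map_neg]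
        ring
      refine ⟨?_, hd⟩
      by_contra hc
      refine hcon 0 ?_
      rw [hd, map_zero, zero_mul, add_zero] at hmem
      have h1 : J = ⊤ := J.eq_top_of_isUnit_mem hmem ((IsUnit.mk0 c hc).map _)
      rw [h1]
      trivial
    simpa using hind.fintype_card_le_finrank
  -- sections restricting to constants
  choose co hco using fun x : Coh.HH X L 0 => coord (res L (le_top : G ≤ ⊤) (Crv77.sec L x))
  let Φ : Coh.HH X L 0 →ₗ[k] Γ(X, G) ⧸ J :=
    { toFun := fun x => Ideal.Quotient.mk J (co x)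
      map_add' := fun x y => by
        rw [← map_add]
        exact congrArg _ (einj _ _ (by rw [add_smul, hco, hco, hco, map_add, Amp73.res_add]))
      map_smul' := fun r x => by
        rw [Algebra.smul_def, RingHom.id_apply]
        show _ = Ideal.Quotient.mk J (constH G r) * _
        rw [← map_mul]
        exact congrArg _ (einj _ _ (by rw [mul_smul, hco, hco, res_sec_smul])) }
  have := hX.finite _ hLc 0
  have := hX.finite _ hF 0
  have hrange : Module.finrank k (LinearMap.range Φ) ≤ 1 := by
    refine (Submodule.finrank_mono (t := Submodule.span k {(1 : Γ(X, G) ⧸ J)}) ?_).trans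
      ((finrank_span_le_card _).trans (by simp))
    rintro _ ⟨x, rfl⟩
    obtain ⟨c, hc⟩ := hJ (Crv77.sec L x) (co x) (hco x)
    refine Submodule.mem_span_singleton.2 ⟨c, ?_⟩
    rw [Algebra.smul_def, mul_one]
    exact ((Ideal.Quotient.mk_eq_mk_iff_sub_mem (I := J) _ _).2 hc).symm
  have hkerle : LinearMap.ker Φ ≤ LinearMap.range (Crv77.hmap k (kernel.ι η) 0) := fun x hx => by
    have hxJ : co x ∈ J := Ideal.Quotient.eq_zero_iff_mem.1 hx
    have hz : η.app ⊤ (Crv77.sec L x) = 0 := by
      show pullS ι L ⊤ (Crv77.sec L x) = 0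
      have h1 := congrArg (res _ hιG) (res_pullS ι L (le_top : G ≤ ⊤) (Crv77.sec L x))
      rw [← hco x, (hker _).2 hxJ, res_res] at h1
      rwa [Amp73.res_self] at h1
    obtain ⟨y, hy⟩ := QC70.exists_kernel_app_eq η ⊤ _ hz
    refine ⟨(Crv77.sec _).symm y, (Crv77.sec L).injective ?_⟩
    rw [Crv77.sec_hmap k, AddEquiv.apply_symm_apply, hy]
  have hF0 : Module.finrank k (Coh.HH X L 0) ≤ Module.finrank k (Coh.HH X (kernel η) 0) + 1 := by
    have := LinearMap.finrank_range_add_finrank_ker Φ
    have := Submodule.finrank_mono hkerle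
    have := LinearMap.finrank_range_le (Crv77.hmap k (kernel.ι η) 0)
    omega
  have e1 := hX.euler_add hT hF hLc
  change Curv2.euler k X L = Curv2.euler k X (kernel η) + Curv2.euler k X Q at e1
  rw [hX.euler_eq_of_suppIn hQ hsupp hS hcl, hX.euler_eq hF, hX.euler_eq hLc] at e1
  simp only [Crv77.h, Q] at e1 hQ2
  have := hsep (kernel η) (kernel.ι η) inferInstance hF (by rw [hX.euler_eq hLc, hX.euler_eq hF]; simp only [Crv77.h]; omega)
  omega

/-- Over an algebraically closed field the ratios generate. -/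
theorem closure_eq_top [IsAlgClosed k] (hdim : topologicalKrullDim X = 1)
    (L : X.Modules) (hL : PicF.IsInvertible L)
    (hsep : Sep k L) (hgg : Curv2.IsGloballyGenerated L) (s : Γ(L, ⊤)) (hs : s ≠ 0)
    (G : X.Opens) (hGs : G = CohB1.genLocus L (Var76.Frames.ofSection L s)) (hG : IsAffineOpen G) :
    Subring.closure (Set.range (constH (k := k) G) ∪
      {a | ∃ t : Γ(L, ⊤), a • res L (le_top : G ≤ ⊤) s = res L (le_top : G ≤ ⊤) t}) = ⊤ := by
  classical
  have := Crv77.isNoetherian_of_proper k X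
  have hX := Crv77.curveCoh_of_proper k X hdim.le
  have hη : genericPoint X ∈ G := hGs ▸ genericPoint_mem_genLocus hL hs
  have hgen : ∀ x : X, ∃ t : Γ(L, ⊤), x ∈ CohB1.genLocus L (Var76.Frames.ofSection L t) := fun x => by
    obtain ⟨y, hy, hxy⟩ := Crv77.exists_isClosed_specializes x
    obtain ⟨t, ht⟩ := Crv77.exists_gen_of_isGloballyGenerated hL
      hgg hy
    exact ⟨t, hxy.mem_open (CohB1.genLocus L _).2 ht⟩
  letI : Algebra k Γ(X, G) := (constH (k := k) G).toAlgebra
  have he : IsFrame L G (res L (le_top : G ≤ ⊤) s) := by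
    have h := (isFrame_iff_le_genLocus (Var76.Frames.ofSection L s) G).2 hGs.le
    rwa [Var76.Frames.val_ofSection] at h
  have einj : ∀ a a' : Γ(X, G), a • res L (le_top : G ≤ ⊤) s = a' • res L (le_top : G ≤ ⊤) s → a = a' :=
    fun a a' h => (he G le_rfl).1 (by simpa only [Amp73.res_self] using h)
  have coord : ∀ x : Coh.HH X L 0, ∃ a : Γ(X, G),
      a • res L (le_top : G ≤ ⊤) s = res L (le_top : G ≤ ⊤) (Crv77.sec L x) := fun x => by
    obtain ⟨a, ha⟩ := (he G le_rfl).2 (res L (le_top : G ≤ ⊤) (Crv77.sec L x))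
    exact ⟨a, by simpa only [Amp73.res_self] using ha⟩
  choose co hco using coord
  let Co : Coh.HH X L 0 →ₗ[k] Γ(X, G) :=
    { toFun := co
      map_add' := fun x y => einj _ _ (by rw [add_smul, hco, hco, hco, map_add, Amp73.res_add])
      map_smul' := fun r x => einj _ _ (by
        rw [RingHom.id_apply, Algebra.smul_def, mul_smul, hco, hco, res_sec_smul]
        rfl) }
  have := hX.finite _ (Crv77.isCoh_of_isInvertible hL) 0
  obtain ⟨S, hS⟩ : (LinearMap.range Co).FG :=
    (Submodule.fg_def.2 ⟨_, (Module.finBasis k (Coh.HH X L 0)).linearIndependent |> fun _ =>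
      (Set.finite_range (Co ∘ Module.finBasis k (Coh.HH X L 0))), by
        rw [Set.range_comp, Submodule.span_image, (Module.finBasis k _).span_eq, Submodule.map_top]⟩)
  let A := Algebra.adjoin k (S : Set Γ(X, G))
  have hratA : ∀ (t : Γ(L, ⊤)) (a : Γ(X, G)),
      a • res L (le_top : G ≤ ⊤) s = res L (le_top : G ≤ ⊤) t → a ∈ A := fun t a ha => by
    have e : a = Co ((Crv77.sec L).symm t) := einj _ _ (by
      show _ = co _ • _
      rw [hco, AddEquiv.apply_symm_apply, ha])
    rw [e]
    exact Algebra.span_le_adjoin k _ (hS ▸ LinearMap.mem_range_self Co _)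
  suffices hA : A = ⊤ by
    refine eq_top_iff.2 fun b _ => ?_
    have hb : b ∈ A.toSubring := by
      rw [hA]
      trivial
    rw [Algebra.adjoin_eq_ring_closure] at hb
    change b ∈ Subring.closure (Set.range (constH (k := k) G) ∪ (S : Set Γ(X, G))) at hb
    refine Subring.closure_mono ?_ hb
    refine Set.union_subset_union_right _ fun a ha => ?_
    obtain ⟨x, hx⟩ : a ∈ LinearMap.range Co := hS ▸ Submodule.subset_span ha
    exact ⟨Crv77.sec L x, hx ▸ hco x⟩
  -- finiteness
  haveI : Algebra.FiniteType k Γ(X, G) := by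
    have h := HasRingHomProperty.appLE @LocallyOfFiniteType (X ↘ Spec (CommRingCat.of k)) inferInstance
      ⟨⊤, isAffineOpen_top _⟩ ⟨G, hG⟩ le_top
    show (constH (k := k) G).FiniteType
    rw [constH_eq_appLE]
    exact RingHom.FiniteType.comp h (RingHom.FiniteType.of_surjective _
      (ConcreteCategory.bijective_of_isIso (Scheme.ΓSpecIso (CommRingCat.of k)).inv).2)
  let σ : Γ(X, G) →+* X.functionField := (X.presheaf.germ G _ hη).hom
  have hσ : Function.Injective σ := germ_injective_of_isIntegral X _ hη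
  let A' : Subring X.functionField := A.toSubring.map σ
  haveI : Algebra.IsIntegral A Γ(X, G) := ⟨fun b => by
    have h1 : σ b ∈ (integralClosure (Subring.closure (A' : Set X.functionField)) X.functionField).toSubring := by
      rw [← iInf_valuationSubring_superset, Subring.mem_iInf]
      intro V
      exact germ_mem_valuationSubring s G hGs hG hη hgen V.1
        (fun c => V.2 ⟨_, A.algebraMap_mem c, rfl⟩) (fun t a ha => V.2 ⟨a, hratA t a ha, rfl⟩) b
    rw [Subring.closure_eq] at h1
    obtain ⟨P, hPm, hP⟩ := (h1 : IsIntegral A' (σ b))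
    let e : A.toSubring ≃+* A' := A.toSubring.equivMapOfInjective σ hσ
    refine ⟨P.map (e.symm : A' →+* A.toSubring), hPm.map _, hσ ?_⟩
    rw [map_zero, ← hP]
    show σ (Polynomial.eval₂ A.toSubring.subtype b _) = _
    rw [Polynomial.hom_eval₂, Polynomial.eval₂_map]
    refine congrArg (fun q => Polynomial.eval₂ q (σ b) P) (RingHom.ext fun z => ?_)
    obtain ⟨z', rfl⟩ := e.surjective z
    simp only [RingHom.coe_comp, Function.comp_apply, RingHom.coe_coe, RingEquiv.symm_apply_apply]
    exact (Subring.coe_equivMapOfInjective_apply A.toSubring σ hσ z').symm⟩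
  haveI : Algebra.FiniteType A Γ(X, G) := Algebra.FiniteType.of_restrictScalars_finiteType k A Γ(X, G)
  haveI : Module.Finite A Γ(X, G) := Algebra.IsIntegral.finite
  haveI : Algebra.FiniteType k A := (Subalgebra.fg_iff_finiteType A).1 ⟨S, rfl⟩
  -- Nakayama
  let N : Submodule A Γ(X, G) := Submodule.span A {1}
  let M := Γ(X, G) ⧸ N
  by_contra hA
  have hann : Module.annihilator A M ≠ ⊤ := fun h => by
    refine hA (eq_top_iff.2 fun b _ => ?_)
    have h1 : (1 : A) ∈ Module.annihilator A M := h ▸ trivial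
    have h2 := Module.mem_annihilator.1 h1 (Submodule.Quotient.mk b)
    rw [one_smul, Submodule.Quotient.mk_eq_zero, Submodule.mem_span_singleton] at h2
    obtain ⟨a, rfl⟩ := h2
    exact (show a • (1 : Γ(X, G)) = (a : Γ(X, G)) from mul_one _) ▸ a.2
  obtain ⟨m, hm, hle⟩ := Ideal.exists_le_maximal _ hann
  have hsurj : Function.Bijective (algebraMap k (A ⧸ m)) := by
    letI := Ideal.Quotient.field m
    have : Module.Finite k (A ⧸ m) := finite_of_finite_type_of_isJacobsonRing k (A ⧸ m)
    exact IsAlgClosed.algebraMap_bijective_of_isIntegral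
  let J : Ideal Γ(X, G) := m.map (algebraMap A Γ(X, G))
  have hconst : ∀ a : A, ∃ c : k, (a : Γ(X, G)) - constH G c ∈ J := fun a => by
    obtain ⟨c, hc⟩ := hsurj.2 (Ideal.Quotient.mk m a)
    refine ⟨c, ?_⟩
    have h1 : a - algebraMap k A c ∈ m := Ideal.Quotient.eq.1 hc.symm
    exact Ideal.mem_map_of_mem (algebraMap A Γ(X, G)) h1
  have hfin : ((Ideal.Quotient.mk J).comp (constH (k := k) G)).Finite := by
    have h1 : (algebraMap k (A ⧸ m)).Finite := RingHom.Finite.of_surjective _ hsurj.2
    have h2 : (algebraMap A Γ(X, G)).Finite := RingHom.finite_algebraMap.2 inferInstance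
    have h3 : (Ideal.quotientMap J (algebraMap A Γ(X, G)) Ideal.le_comap_map).Finite := by
      refine RingHom.Finite.of_comp_finite (f := Ideal.Quotient.mk m) ?_
      rw [Ideal.quotientMap_comp_mk]
      exact (RingHom.Finite.of_surjective _ Ideal.Quotient.mk_surjective).comp h2
    have h4 := h3.comp h1
    exact h4
  have hM : (⊤ : Submodule A M) ≤ m • (⊤ : Submodule A M) := fun z _ => by
    obtain ⟨b, rfl⟩ := Submodule.Quotient.mk_surjective N z
    obtain ⟨c, hc⟩ := exists_sub_const_mem hdim L hL hsep s G hG hGs.le J hfin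
      (fun t a ha => hconst ⟨a, hratA t a ha⟩) b
    have h5 : (Submodule.Quotient.mk b : M) = Submodule.Quotient.mk (b - constH G c) := by
      rw [Submodule.Quotient.eq, sub_sub_cancel]
      exact Submodule.mem_span_singleton.2 ⟨algebraMap k A c, mul_one _⟩
    rw [h5]
    have h6 : b - constH G c ∈ m • (⊤ : Submodule A Γ(X, G)) := by
      rw [Ideal.smul_top_eq_map]
      exact hc
    have h7 := Submodule.mem_map_of_mem (f := N.mkQ) h6
    rw [Submodule.map_smul''] at h7
    exact Submodule.smul_mono le_rfl le_top h7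
  obtain ⟨r, hr, hr0⟩ := Submodule.exists_sub_one_mem_and_smul_eq_zero_of_fg_of_le_smul m ⊤
    Module.Finite.fg_top hM
  have hrm : r ∈ m := hle (Module.mem_annihilator.2 fun z => hr0 z trivial)
  exact hm.ne_top ((Ideal.eq_top_iff_one _).2 (sub_sub_cancel r 1 ▸ m.sub_mem hrm hr))

/-- Separating sections embed. -/
theorem isRelVeryAmplePn_of_sep [IsAlgClosed k]
    (hdim : topologicalKrullDim X = 1)
    (L : X.Modules) (hL : PicF.IsInvertible L)
    (hsep : Sep k L) (hgg : Curv2.IsGloballyGenerated L) (hamp : CohB1.IsAmple L) :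
    RelAmple.IsRelVeryAmplePn (X ↘ Spec (CommRingCat.of k)) L := by
  classical
  haveI : Subsingleton (Spec (CommRingCat.of k)) := inferInstanceAs (Subsingleton (PrimeSpectrum k))
  have := Crv77.isNoetherian_of_proper k X
  have hX := Crv77.curveCoh_of_proper k X hdim.le
  have hgen : ∀ x : X, ∃ t : Γ(L, ⊤), x ∈ CohB1.genLocus L (Var76.Frames.ofSection L t) := fun x => by
    obtain ⟨y, hy, hxy⟩ := Crv77.exists_isClosed_specializes x
    obtain ⟨t, ht⟩ := Crv77.exists_gen_of_isGloballyGenerated hL
      hgg hy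
    exact ⟨t, hxy.mem_open (CohB1.genLocus L _).2 ht⟩
  choose t ht using hgen
  obtain ⟨T, hT⟩ := isCompact_univ.elim_finite_subcover
    (fun x : X => (CohB1.genLocus L (Var76.Frames.ofSection L (t x)) : Set X))
    (fun x => (CohB1.genLocus L _).2) fun x _ => Set.mem_iUnion.2 ⟨x, ht x⟩
  have := hX.finite _ (Crv77.isCoh_of_isInvertible hL) 0
  let b := Module.finBasis k (Coh.HH X L 0)
  let u : ULift.{u} (Fin (Module.finrank k (Coh.HH X L 0))) ⊕ T → Γ(L, ⊤) :=
    Sum.elim (fun j => Crv77.sec L (b j.down)) (fun x => t x.1)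
  refine EGA73.ImmersionPn.isRelVeryAmplePn_of_sections _ L hL u fun z => ?_
  obtain ⟨x, hxT, hzx⟩ := Set.mem_iUnion₂.1 (hT (Set.mem_univ z))
  let s := t x
  let G := CohB1.genLocus L (Var76.Frames.ofSection L s)
  have hG : IsAffineOpen G :=
    GenAff57.isAffineOpen_genLocus (X ↘ Spec (CommRingCat.of k)) hamp _
  refine ⟨Sum.inr ⟨x, hxT⟩, ⊤, isAffineOpen_top _, le_top, hzx, hG, ?_⟩
  have he : IsFrame L G (res L (le_top : G ≤ ⊤) s) := by
    have h := (isFrame_iff_le_genLocus (Var76.Frames.ofSection L s) G).2 le_rfl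
    rwa [Var76.Frames.val_ofSection] at h
  have hs0 : s ≠ 0 := fun h => by
    have : Nonempty G := ⟨⟨z, hzx⟩⟩
    have h2 : IsFrame L G (0 : Γ(L, G)) := by
      have e0 : res L (le_top : G ≤ ⊤) s = 0 := (congrArg (res L le_top) h).trans (map_zero _)
      rwa [e0] at he
    have h4 : (1 : Γ(X, G)) = 0 := (h2 _ le_rfl).1 (by
      dsimp only
      rw [Amp73.res_self, smul_zero, smul_zero])
    exact one_ne_zero h4
  rw [eq_top_iff, ← closure_eq_top hdim L hL hsep hgg s hs0 G rfl hG]
  refine Subring.closure_le.2 ?_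
  rintro a (⟨c, rfl⟩ | ⟨t', ht'⟩)
  · rw [constH_eq_appLE]
    exact Subring.subset_closure (Or.inl ⟨_, rfl⟩)
  · have coord : ∀ j, ∃ a : Γ(X, G), a • res L (le_top : G ≤ ⊤) s =
        res L (le_top : G ≤ ⊤) (u (Sum.inl j)) := fun j => by
      obtain ⟨a, ha⟩ := (he G le_rfl).2 (res L (le_top : G ≤ ⊤) (u (Sum.inl j)))
      exact ⟨a, by simpa only [Amp73.res_self] using ha⟩
    choose co hco using coord
    let c := b.repr ((Crv77.sec L).symm t')
    have hsum : a = ∑ j, constH G (c j) * co ⟨j⟩ := (he G le_rfl).1 (by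
      dsimp only
      rw [Amp73.res_self, ht', Finset.sum_smul]
      conv_lhs => rw [← (Crv77.sec L).apply_symm_apply t', ← b.sum_repr ((Crv77.sec L).symm t'), map_sum]
      refine (map_sum (L.presheaf.map (homOfLE (le_top : G ≤ ⊤)).op).hom _ _).trans (Finset.sum_congr rfl fun j _ => ?_)
      rw [mul_smul, hco]
      exact res_sec_smul G _ _)
    rw [hsum]
    refine Subring.sum_mem _ fun j _ => Subring.mul_mem _ ?_ (Subring.subset_closure (Or.inr ⟨Sum.inl ⟨j⟩, hco _⟩))
    rw [constH_eq_appLE]
    exact Subring.subset_closure (Or.inl ⟨_, rfl⟩)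

end Groth.Agent.VB30.VA
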