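import Groth.Agent.VB30.VeryAmple
import Groth.Agent.VB30.Rank2
import Groth.Agent.VB30.TwistSS
import Groth.Agent.VB30.Setup
import Groth.Agent.CrvPic30.Toolkit
import Groth.Agent.CrvPic30.Canonical
import Groth.Agent.EGAProj74.SepTangents
import Groth.Agent.Curves2.CurveMaps

/-! Very ampleness on a curve via pairs of points. -/

set_option autoImplicit false
set_option linter.style.haveILetI false
set_option linter.unusedSectionVars false
set_option backward.isDefEq.respectTransparency.types false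

noncomputable section

universe u

open CategoryTheory CategoryTheory.Limits AlgebraicGeometry TopologicalSpace Opposite
open Groth.Agent.QC70 Groth.Agent.Props58.LocFree FunFld
open scoped Pointwise
attribute [local instance] Groth.Agent.CrvPic30.ffAlg

namespace Groth.Agent.VB30

variable {k : Type u} [Field k] [IsAlgClosed k] {X : Scheme.{u}} [X.Over (Spec (CommRingCat.of k))] [IsIntegral X]
  [IsProper (X ↘ Spec (CommRingCat.of k))]

/-- In divisors: every two points impose independent conditions. -/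
def SepDiv (E : Divisor k X.functionField) : Prop :=
  ∀ P Q : Place k X.functionField, ell (E - Finsupp.single P 1 - Finsupp.single Q 1) + 2 = ell E

section Setup

variable (hS : CrvPic30.Setup k X)
include hS

theorem nonempty_iso_two_points {L : X.Modules} {E : Divisor k X.functionField} (eL : L ≅ hS.O E) {P Q : X}
    (hP : IsClosed ({P} : Set X)) (hQ : IsClosed ({Q} : Set X)) :
    Nonempty (CohB1.tensorMod L (CohB1.tensorMod (ClSub.idealMod (Crv77.ptIdeal hP)) (ClSub.idealMod (Crv77.ptIdeal hQ))) ≅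
      hS.O (E - Finsupp.single (hS.pl hP) 1 - Finsupp.single (hS.pl hQ) 1)) := by
  obtain ⟨a⟩ := hS.ptTwist_iso hP eL
  obtain ⟨b⟩ := hS.ptTwist_iso hQ a
  exact ⟨(EGA73.tensAssoc' _ _ _).symm ≪≫ EGA73.tensIso (EGA73.tensComm _ _) (Iso.refl _) ≪≫
    EGA73.tensComm _ _ ≪≫ b⟩

theorem sepDiv_iff {L : X.Modules} {E : Divisor k X.functionField} (eL : L ≅ hS.O E) :
    SepDiv E ↔ ∀ (P Q : X) (hP : IsClosed ({P} : Set X)) (hQ : IsClosed ({Q} : Set X)),
      Module.finrank k (Coh.HH X (CohB1.tensorMod L (CohB1.tensorMod (ClSub.idealMod (Crv77.ptIdeal hP))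
        (ClSub.idealMod (Crv77.ptIdeal hQ)))) 0) + 2 = Module.finrank k (Coh.HH X L 0) := by
  constructor
  · intro hs P Q hP hQ
    obtain ⟨e⟩ := nonempty_iso_two_points hS eL hP hQ
    rw [hS.h0_of_iso e, hS.h0_of_iso eL]
    exact hs _ _
  · intro hs P Q
    obtain ⟨⟨p, hp⟩, rfl⟩ := hS.place.surjective P
    obtain ⟨⟨q, hq⟩, rfl⟩ := hS.place.surjective Q
    obtain ⟨e⟩ := nonempty_iso_two_points hS eL hp hq
    have := hs p q hp hq
    rw [hS.h0_of_iso e, hS.h0_of_iso eL] at this
    exact this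

theorem gg_of_sepDiv {L : X.Modules} {E : Divisor k X.functionField} (eL : L ≅ hS.O E) (hs : SepDiv E) :
    Curv2.IsGloballyGenerated L := by
  refine (hS.isGloballyGenerated_iff eL).2 fun P => ?_
  have a := hs P P
  have b := FF30.FF.ell_le_succ hS.ffield (E - Finsupp.single P 1) P
  omega

theorem sep_of_sepDiv {L : X.Modules} {E : Divisor k X.functionField} (eL : L ≅ hS.O E) (hs : SepDiv E) :
    VA.Sep k L := by
  intro F i hi hF he
  have h := cur_of_setup hS
  have := hS.isNoetherian
  have hL : PicF.IsInvertible L := EGA73.isInvertible_of_iso eL.symm (hS.isInvertible_O E)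
  obtain ⟨lL, rL⟩ := lf_of_isInvertible hL
  have lF := h.isFinLocFree_of_mono i hF lL
  have := (isCoh_of_isFinLocFree lL).2
  have hle := rk_le_of_mono i
  rw [rL] at hle
  rcases Nat.le_one_iff_eq_zero_or_eq_one.1 hle with r0 | r1
  · have := ValVan29.subsingleton_hh_of_isZero (h.isZero_of_rk_eq_zero lF r0) 0
    rw [Module.finrank_zero_of_subsingleton (R := k) (M := Coh.HH X F 0)]
    obtain ⟨P, hP, -⟩ := h.exists_closed
    have := (sepDiv_iff hS eL).1 hs P P hP hP
    omega
  have hFi := isInvertible_of_lf lF r1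
  obtain ⟨D, ⟨eF⟩⟩ := hS.exists_iso_O hFi
  obtain ⟨H, hH, ⟨eH⟩⟩ := Crv77.exists_inverse hFi
  obtain ⟨eH'⟩ := hS.iso_O_neg_of_inverse eF ⟨eH⟩
  obtain ⟨eLH⟩ := hS.tensor_O_iso eL eH'
  have hpos : 0 < ell (E + -D) := by
    rw [← hS.h0_of_iso eLH]
    have hm : Mono (eH.inv ≫ twMap i H) := @mono_comp _ _ _ _ _ _ inferInstance _ (mono_twMap hH i)
    have : Mono (eH.inv ≫ twMap i H) := hm
    have := h.curveCoh.finite _ (Crv77.isCoh_tensorMod (isCoh_of_isFinLocFree lL)
      (isCoh_of_isFinLocFree (lf_of_isInvertible hH).1)) 0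
    exact h.one_le_h0.trans (LinearMap.finrank_le_finrank_of_injective
      (injective_hmap_zero (k := k) (eH.inv ≫ twMap i H)))
  obtain ⟨A, hA, hprin, hdA⟩ := CrvPic30.exists_eff hS.ffield hpos
  have dF : Curv2.deg k X F 1 = D.deg := hS.deg_of_iso eF
  have dL : Curv2.deg k X L 1 = E.deg := hS.deg_of_iso eL
  rw [Curv2.deg] at dF dL
  rw [← sub_eq_add_neg, FF30.deg_sub] at hdA
  have hdA2 : 2 ≤ A.deg := by omega
  rw [hS.h0_of_iso eF, hS.h0_of_iso eL, FF30.ell_congr hS.ffield (D := D) (E := E - A)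
    (by have := neg_mem hprin; convert this using 1; abel)]
  obtain ⟨P, hP⟩ : ∃ P, 0 < A P := by
    by_contra! hn
    have : A = 0 := le_antisymm (fun P => by simpa using hn P) hA
    rw [this, CrvPic30.deg_zero'] at hdA2
    omega
  have hA1 : 0 ≤ A - Finsupp.single P 1 := fun R => by
    rw [Finsupp.coe_sub, Pi.sub_apply, Finsupp.zero_apply]
    by_cases e : P = R
    · subst e; rw [Finsupp.single_eq_same]; omega
    · rw [Finsupp.single_eq_of_ne (Ne.symm e), sub_zero]; exact hA R
  obtain ⟨Q, hQ⟩ : ∃ Q, 0 < (A - Finsupp.single P 1 : Divisor k X.functionField) Q := by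
    by_contra! hn
    have : A - Finsupp.single P 1 = 0 := le_antisymm (fun R => by simpa using hn R) hA1
    rw [sub_eq_zero.1 this, hS.ffield.deg_single'] at hdA2
    omega
  have := FF30.FF.ell_mono hS.ffield (show E - A ≤ E - Finsupp.single P 1 - Finsupp.single Q 1 from fun R => by
    simp only [Finsupp.coe_sub, Pi.sub_apply] at hQ ⊢
    have := hA1 R
    simp only [Finsupp.coe_sub, Pi.sub_apply, Finsupp.zero_apply] at this
    by_cases e : Q = R
    · subst e
      rw [Finsupp.single_eq_same]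
      omega
    · rw [Finsupp.single_eq_of_ne (Ne.symm e)]
      omega)
  have := hs P Q
  omega

theorem ample_of_sepDiv [Smooth (X ↘ Spec (CommRingCat.of k))] {L : X.Modules} {E : Divisor k X.functionField}
    (eL : L ≅ hS.O E) (hs : SepDiv E) : CohB1.IsAmple L := by
  refine (S1530.result k X hS.dim L (EGA73.isInvertible_of_iso eL.symm (hS.isInvertible_O E))).2 ?_
  rw [hS.deg_of_iso eL]
  by_contra hd
  obtain ⟨⟨P, hP⟩⟩ : Nonempty {x : X // IsClosed ({x} : Set X)} := by
    obtain ⟨P, hP, -⟩ := (cur_of_setup hS).exists_closed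
    exact ⟨⟨P, hP⟩⟩
  have a := hs (hS.pl hP) (hS.pl hP)
  by_cases h0 : E.deg = 0
  · have := CrvPic30.ell_le_deg_add_one hS.ff E (by omega)
    omega
  · have := CrvPic30.ell_eq_zero_of_deg_neg hS.ffield (show E.deg < 0 by omega)
    omega

end Setup

namespace Cur

variable (h : Cur k X)
include h

/-- Sections vanishing at a point have germs in the maximal ideal there. -/
theorem stalk_twPt_mem [Smooth (X ↘ Spec (CommRingCat.of k))] {G : X.Modules} (hG : PicF.IsInvertible G) {P : X}
    (hP : IsClosed ({P} : Set X)) (e : (CohB1.tensorMod G (ClSub.idealMod (Crv77.ptIdeal hP))).presheaf.stalk P) :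
    stalkLinear (twPt G hP) P e ∈
      IsLocalRing.maximalIdeal (X.presheaf.stalk P) • (⊤ : Submodule (X.presheaf.stalk P) (G.presheaf.stalk P)) := by
  obtain ⟨lG, rG⟩ := lf_of_isInvertible hG
  by_contra hne
  obtain ⟨U, n, b, hPU, hb⟩ := isFinLocFree_iff.mp lG P
  have hn : n = 1 := (rk_eq_of_basis hb (gen_mem hPU)).symm.trans rG
  subst hn
  let c := hb.stalkEquiv P hPU
  have hu : IsUnit (c.symm (stalkLinear (twPt G hP) P e) 0) := by
    by_contra hnu
    refine hne ?_
    rw [← c.apply_symm_apply (stalkLinear (twPt G hP) P e),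
      show c.symm (stalkLinear (twPt G hP) P e) =
        c.symm (stalkLinear (twPt G hP) P e) 0 • (Pi.single 0 1 : Fin 1 → X.presheaf.stalk P) from
        funext fun j => by obtain rfl := Fin.eq_zero j; simp, map_smul]
    exact Submodule.smul_mem_smul hnu trivial
  have hsurj : Function.Surjective (stalkLinear (twPt G hP) P) := fun y =>
    ⟨(c.symm y 0 * ↑hu.unit⁻¹) • e, c.symm.injective <| funext fun j => by
      obtain rfl := Fin.eq_zero j
      rw [map_smul, map_smul, Pi.smul_apply, smul_eq_mul, mul_assoc, IsUnit.val_inv_mul, mul_one]⟩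
  obtain ⟨hI, hd⟩ := h.ptIdeal_inv hP
  obtain ⟨lT, rT, dT⟩ := h.tensor_invertible lG hI
  have := mono_twPt (X := X) lG hP
  have hc := h.isCoh_cokernel (twPt G hP) (isCoh_of_isFinLocFree lT) (isCoh_of_isFinLocFree lG)
  have hseq := shortExact_cokernel (twPt G hP)
  have hsupp : Crv77.SuppIn (cokernel (twPt G hP)) ∅ := fun x _ => by
    by_cases hx : x = P
    · subst hx
      exact QC70.subsingleton_stalk_cokernel _ x hsurj
    · obtain ⟨w, hw⟩ := exists_shortExact_tlMap lG (Crv77.idealSeq_shortExact (Crv77.ptIdeal hP))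
      have e' : cokernel (twPt G hP) ≅ CohB1.tensorMod G (ClSub.quotMod (Crv77.ptIdeal hP)) :=
        cokernelCompIsIso _ _ ≪≫ (cokernelIsCokernel _).coconePointUniqueUpToIso hw.gIsCokernel
      have := (isCoh_of_isFinLocFree lG).1
      have := (Crv77.isCoh_quotMod (Crv77.ptIdeal hP)).1
      obtain ⟨t⟩ := FBase64.AssTensor.nonempty_stalkTensorEquiv G (ClSub.quotMod (Crv77.ptIdeal hP)) x
      have : Subsingleton ((ClSub.quotMod (Crv77.ptIdeal hP)).presheaf.stalk x) :=
        Crv77.suppIn_quotMod _ x fun hx' => hx (by rw [Crv77.ptIdeal_support hP] at hx'; exact hx')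
      have := t.injective.subsingleton
      exact Function.Injective.subsingleton (f := stalkMapM e'.hom x) (injective_stalkMapM_of_mono e'.hom x)
  have hz : IsZero (cokernel (twPt G hP)) :=
    QC70.isZero_of_sections_subsingleton fun W => subsingleton_of_forall_eq 0 fun z =>
      hsupp.section_eq_zero (fun y _ hy => hy) z
  have : IsIso (twPt G hP) := by
    have : Epi (twPt G hP) := Abelian.epi_of_cokernel_π_eq_zero _ (hz.eq_of_tgt _ _)
    exact isIso_of_mono_of_epi _
  have := dg_congr (k := k) (asIso (twPt G hP))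
  rw [dT, hd, rG] at this
  omega

set_option maxHeartbeats 1000000 in
/-- A closed immersion separates every two points, possibly equal. -/
theorem h0_le_of_immersion [Smooth (X ↘ Spec (CommRingCat.of k))] {n : ℕ} (i : X ⟶ CohB1.ProjSpace n k)
    (hi : IsClosedImmersion i) (hiw : i ≫ CohB1.ProjSpace.toSpec n k = X ↘ Spec (CommRingCat.of k))
    (hL : PicF.IsInvertible ((Scheme.Modules.pullback i).obj (Twist.twistProjSpace n k 1)))
    {P Q : X} (hP : IsClosed ({P} : Set X)) (hQ : IsClosed ({Q} : Set X)) :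
    Module.finrank k (Coh.HH X (CohB1.tensorMod (CohB1.tensorMod ((Scheme.Modules.pullback i).obj
      (Twist.twistProjSpace n k 1)) (ClSub.idealMod (Crv77.ptIdeal hP))) (ClSub.idealMod (Crv77.ptIdeal hQ))) 0) + 2 =
      Module.finrank k (Coh.HH X ((Scheme.Modules.pullback i).obj (Twist.twistProjSpace n k 1)) 0) := by
  obtain ⟨hsep, htan⟩ := (EGAProj74.SepTangents.crit hiw).1 hi
  set L := (Scheme.Modules.pullback i).obj (Twist.twistProjSpace n k 1)
  obtain ⟨lL, rL⟩ := lf_of_isInvertible hL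
  obtain ⟨hIP, hdP⟩ := h.ptIdeal_inv hP
  obtain ⟨hIQ, hdQ⟩ := h.ptIdeal_inv hQ
  obtain ⟨lA, rA, -⟩ := h.tensor_invertible lL hIP
  have hA : PicF.IsInvertible (CohB1.tensorMod L (ClSub.idealMod (Crv77.ptIdeal hP))) :=
    EGA73.isInvertible_tensorMod hL hIP
  have g1 := h.h0_le_of_ptIdeal lL hP hIP hdP
  have g2 := h.h0_le_of_ptIdeal lA hQ hIQ hdQ
  rw [rL] at g1
  rw [rA, rL] at g2
  by_contra hne
  have := h.curveCoh.finite _ (isCoh_of_isFinLocFree lL) 0
  let K : X → Coh.HH X L 0 → Prop := fun p v => germM L ⊤ p trivial (Crv77.sec L v) ∈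
    IsLocalRing.maximalIdeal (X.presheaf.stalk p) • (⊤ : Submodule (X.presheaf.stalk p) (L.presheaf.stalk p))
  have hin : ∀ (p : X) (hp : IsClosed ({p} : Set X)), ∀ z, K p (Crv77.hmap k (twPt L hp) 0 z) := fun p hp z => by
    simp only [K]
    rw [Crv77.sec_hmap, ← stalkMapM_germ]
    exact h.stalk_twPt_mem hL hp _
  have hex : ∀ (p : X), IsClosed ({p} : Set X) → ∃ v, ¬ K p v := fun p hp => by
    obtain ⟨q, hq, hqp⟩ := h.exists_closed_notMem (Set.finite_singleton p)
    obtain ⟨c, -, hc⟩ := hsep q p hq hp hqp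
    refine ⟨(Crv77.sec L).symm (EGAProj74.SepTangents.sect (X ↘ Spec (CommRingCat.of k)) i c), fun hv => hc ?_⟩
    simp only [K] at hv
    rw [AddEquiv.apply_symm_apply] at hv
    exact hv
  let f := twPt (CohB1.tensorMod L (ClSub.idealMod (Crv77.ptIdeal hP))) hQ ≫ twPt L hP
  have : Mono (twPt L hP) := mono_twPt lL hP
  have : Mono (twPt (CohB1.tensorMod L (ClSub.idealMod (Crv77.ptIdeal hP))) hQ) := mono_twPt lA hQ
  have hKP : ∀ v, K P v → v ∈ LinearMap.range (Crv77.hmap k f 0) := by
    intro v hv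
    by_contra hvn
    obtain ⟨v₀, hv₀⟩ := hex P hP
    have hlt : LinearMap.range (Crv77.hmap k f 0) < LinearMap.range (Crv77.hmap k f 0) ⊔ Submodule.span k {v} :=
      left_lt_sup.2 fun e => hvn (e (Submodule.mem_span_singleton_self v))
    have hsub : ∀ w ∈ LinearMap.range (Crv77.hmap k f 0) ⊔ Submodule.span k {v}, K P w := by
      intro w hw
      obtain ⟨a, ⟨z, rfl⟩, b, hb, rfl⟩ := Submodule.mem_sup.1 hw
      obtain ⟨r, rfl⟩ := Submodule.mem_span_singleton.1 hb
      simp only [K] at hv ⊢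
      rw [map_add, germM_add, Crv77.sec_smul, germM_smul]
      refine add_mem ?_ (Submodule.smul_mem _ _ hv)
      rw [← Crv77.hmap_comp]
      exact hin P hP _
    have h1 := Submodule.finrank_lt_finrank_of_lt hlt
    have h2 := Submodule.finrank_lt (s := LinearMap.range (Crv77.hmap k f 0) ⊔ Submodule.span k {v})
      (fun e => hv₀ (hsub v₀ (e ▸ trivial)))
    rw [LinearMap.finrank_range_of_inj (injective_hmap_zero (k := k) f)] at h1
    omega
  by_cases hPQ : P = Q
  · subst hPQ
    have hm2 : ∀ v, K P v → germM L ⊤ P trivial (Crv77.sec L v) ∈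
        IsLocalRing.maximalIdeal (X.presheaf.stalk P) ^ 2 •
          (⊤ : Submodule (X.presheaf.stalk P) (L.presheaf.stalk P)) := by
      intro v hv
      obtain ⟨z, rfl⟩ := hKP v hv
      rw [← Crv77.hmap_comp, Crv77.sec_hmap, Crv77.sec_hmap, ← stalkMapM_germ, ← stalkMapM_germ]
      have h1 := Submodule.mem_map_of_mem (f := stalkLinear (twPt L hP) P) (h.stalk_twPt_mem hA hQ
        (germM _ ⊤ P trivial (Crv77.sec _ z)))
      rw [Submodule.map_smul''] at h1
      refine Submodule.smul_mono le_rfl ?_ h1 |> fun h2 => (show _ ∈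
        IsLocalRing.maximalIdeal (X.presheaf.stalk P) •
          (IsLocalRing.maximalIdeal (X.presheaf.stalk P) • (⊤ : Submodule (X.presheaf.stalk P) (L.presheaf.stalk P))) from h2) |>
        fun h3 => by rw [pow_two, mul_smul]; exact h3
      rintro _ ⟨y, -, rfl⟩
      exact h.stalk_twPt_mem hL hP y
    have hle : IsLocalRing.maximalIdeal (X.presheaf.stalk P) • (⊤ : Submodule (X.presheaf.stalk P) (L.presheaf.stalk P)) ≤
        IsLocalRing.maximalIdeal (X.presheaf.stalk P) •
          (IsLocalRing.maximalIdeal (X.presheaf.stalk P) • (⊤ : Submodule (X.presheaf.stalk P) (L.presheaf.stalk P))) := by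
      rw [← mul_smul, ← pow_two]
      refine (htan P hP).trans (sup_le (Submodule.span_le.2 ?_) le_rfl)
      rintro _ ⟨c, rfl, hc⟩
      have h3 := hm2 ((Crv77.sec L).symm (EGAProj74.SepTangents.sect (X ↘ Spec (CommRingCat.of k)) i c))
      simp only [K, AddEquiv.apply_symm_apply] at h3
      exact h3 hc
    obtain ⟨U, m, b, hPU, hb⟩ := isFinLocFree_iff.mp lL P
    have := hb.finite_stalk P hPU
    obtain ⟨_, _⟩ := h.stalks P
    have := h.isNoetherian
    have hN : IsNoetherianRing (X.presheaf.stalk P) := inferInstance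
    have hbot := Submodule.eq_bot_of_le_smul_of_le_jacobson_bot _ _
      (IsNoetherian.noetherian _) hle (IsLocalRing.maximalIdeal_le_jacobson _)
    obtain ⟨v₀, hv₀⟩ := hex P hP
    refine Curves2.maximalIdeal_stalk_ne_bot (by rw [h.dim]; norm_num) P hP ?_
    refine (Submodule.eq_bot_iff _).2 fun r hr => ?_
    have hz : r • germM L ⊤ P trivial (Crv77.sec L v₀) = 0 :=
      (Submodule.mem_bot _).1 (hbot.le (Submodule.smul_mem_smul hr Submodule.mem_top))
    by_contra hr0
    have : germM L ⊤ P trivial (Crv77.sec L v₀) = 0 :=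
      ((isTF_of_isFinLocFree lL).noZeroSMulDivisors P).eq_zero_or_eq_zero_of_smul_eq_zero hz |>.resolve_left hr0
    exact hv₀ (show germM L ⊤ P trivial (Crv77.sec L v₀) ∈ _ by rw [this]; exact zero_mem _)
  · obtain ⟨c, hc, hc'⟩ := hsep P Q hP hQ hPQ
    obtain ⟨z, hz⟩ := hKP ((Crv77.sec L).symm (EGAProj74.SepTangents.sect (X ↘ Spec (CommRingCat.of k)) i c))
      (by simp only [K, AddEquiv.apply_symm_apply]; exact hc)
    refine hc' ?_
    have hQm := hin Q hQ (Crv77.hmap k (trMap (twPt L hP) (ClSub.idealMod (Crv77.ptIdeal hQ))) 0 z)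
    rw [Crv77.hmap_comp, trMap_twPt, hz] at hQm
    simp only [K, AddEquiv.apply_symm_apply] at hQm
    exact hQm

end Cur

end Groth.Agent.VB30
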